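import Cfsg.Agent.Lib.RealTwoPart.Main
import Cfsg.Agent.S0205

/-!
Real elements and the sizes of their classes: products of two elements with coprime class sizes,
translations fixing a class, lifting of real elements.
-/

set_option autoImplicit false
set_option linter.unusedSectionVars false

namespace Cfsg.Agent.RealGraph

open Subgroup
open scoped Pointwise

variable {G : Type*} [Group G]

/-- The size of the class of `g`. -/
noncomputable def csize (g : G) : ℕ := (centralizer ({g} : Set G)).index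

/-- No nontrivial element of odd order is real. -/
def NoRealOdd (G : Type*) [Group G] : Prop := ∀ x : G, IsConj x x⁻¹ → Odd (orderOf x) → x = 1

/-- A nontrivial real element of odd prime power order. -/
def RealPP (x : G) : Prop :=
  IsConj x x⁻¹ ∧ x ≠ 1 ∧ ∃ q k : ℕ, q.Prime ∧ q ≠ 2 ∧ orderOf x = q ^ k

/-- The subgroup generated by the products of two conjugates of `b`. -/
def pairGroup (b : G) : Subgroup G :=
  closure {x | ∃ g h : G, x = g * b * g⁻¹ * (h * b * h⁻¹)}

theorem RealPP.odd {x : G} (hx : RealPP x) : Odd (orderOf x) := by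
  obtain ⟨-, -, q, k, hq, hq2, ho⟩ := hx
  exact ho ▸ (hq.odd_of_ne_two hq2).pow

theorem isConj_pow_inv {x : G} (hx : IsConj x x⁻¹) (n : ℕ) : IsConj (x ^ n) (x ^ n)⁻¹ := by
  obtain ⟨t, ht⟩ := isConj_iff.mp hx
  exact isConj_iff.mpr ⟨t, by rw [← conj_pow, ht, inv_pow]⟩

theorem eq_one_of_odd_of_sq {x : G} (hx : Odd (orderOf x)) (h : x * x = 1) : x = 1 := by
  have h1 : orderOf x ∣ 2 := orderOf_dvd_of_pow_eq_one (by rw [pow_two, h])
  rcases (Nat.dvd_prime Nat.prime_two).1 h1 with h2 | h2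
  · exact orderOf_eq_one_iff.1 h2
  · rw [h2] at hx; exact absurd hx (by decide)

theorem mem_cent {g a : G} : g ∈ centralizer ({a} : Set G) ↔ g * a * g⁻¹ = a := by
  rw [mem_centralizer_singleton_iff, mul_inv_eq_iff_eq_mul]

theorem cent_conj (g a : G) :
    centralizer ({g * a * g⁻¹} : Set G) =
      (centralizer ({a} : Set G)).map (MulAut.conj g).toMonoidHom := by
  ext y
  simp only [mem_map, mem_cent, MulEquiv.coe_toMonoidHom, MulAut.conj_apply]
  constructor
  · intro hy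
    refine ⟨g⁻¹ * y * g, ?_, by group⟩
    have h1 : g⁻¹ * (y * (g * a * g⁻¹) * y⁻¹) * g = a := by rw [hy]; group
    calc g⁻¹ * y * g * a * (g⁻¹ * y * g)⁻¹ = g⁻¹ * (y * (g * a * g⁻¹) * y⁻¹) * g := by group
      _ = a := h1
  · rintro ⟨z, hz, rfl⟩
    calc g * z * g⁻¹ * (g * a * g⁻¹) * (g * z * g⁻¹)⁻¹ = g * (z * a * z⁻¹) * g⁻¹ := by group
      _ = g * a * g⁻¹ := by rw [hz]

theorem csize_conj (g a : G) : csize (g * a * g⁻¹) = csize a := by
  rw [csize, csize, cent_conj]
  exact index_map_equiv (centralizer ({a} : Set G)) (MulAut.conj g)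

theorem csize_eq_of_isConj {a b : G} (h : IsConj a b) : csize b = csize a := by
  obtain ⟨g, rfl⟩ := isConj_iff.mp h
  exact csize_conj g a

theorem csize_eq_one_iff {a : G} : csize a = 1 ↔ a ∈ Subgroup.center G := by
  rw [csize, index_eq_one, eq_top_iff, mem_center_iff]
  exact ⟨fun h g => mem_centralizer_singleton_iff.mp (h (mem_top g)),
    fun h g _ => mem_centralizer_singleton_iff.mpr (h g)⟩

theorem pairGroup_normal (b : G) : (pairGroup b).Normal := by
  rw [pairGroup, ← normalizer_eq_top_iff, eq_top_iff]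
  intro k _
  refine normalizer_le_normalizer_closure _ ?_
  rw [mem_set_normalizer_iff]
  intro x
  constructor
  · rintro ⟨g, h, rfl⟩
    exact ⟨k * g, k * h, by group⟩
  · rintro ⟨g, h, e⟩
    refine ⟨k⁻¹ * g, k⁻¹ * h, ?_⟩
    have : x = k⁻¹ * (k * x * k⁻¹) * k := by group
    rw [this, e]; group

theorem mul_conj_mem_pairGroup (b g h : G) : g * b * g⁻¹ * (h * b * h⁻¹) ∈ pairGroup b :=
  subset_closure ⟨g, h, rfl⟩

/-- The identity on `b` with `b * b = 1`: its commutators are in `pairGroup b`. -/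
theorem mul_conj_self_mem {b : G} (g : G) : b * (g * b * g⁻¹) ∈ pairGroup b := by
  simpa using mul_conj_mem_pairGroup b 1 g

theorem mem_center_of_pairGroup_eq_bot {b : G} (hb : b * b = 1) (h : pairGroup b = ⊥) :
    b ∈ Subgroup.center G := by
  rw [mem_center_iff]
  intro g
  have h1 := mul_conj_self_mem (b := b) g
  rw [h, mem_bot] at h1
  have h2 : g * b * g⁻¹ = b := by
    calc g * b * g⁻¹ = b * b * (g * b * g⁻¹) := by rw [hb, one_mul]
      _ = b := by rw [mul_assoc b b, h1, mul_one]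
  exact mul_inv_eq_iff_eq_mul.mp h2

section Fin

variable [Finite G]

theorem csize_ne_zero (a : G) : csize a ≠ 0 := index_ne_zero_of_finite

theorem ncard_conjugatesOf (a : G) : (conjugatesOf a).ncard = csize a := by
  rw [csize, index_eq_card, ← Nat.card_coe_set_eq]
  refine Nat.card_congr (Equiv.ofBijective
    (Quotient.lift (fun g : G => (⟨g * a * g⁻¹, isConj_iff.mpr ⟨g, rfl⟩⟩ : conjugatesOf a)) ?_)
    ⟨?_, ?_⟩).symm
  · intro g h hgh
    have h1 : g⁻¹ * h ∈ centralizer ({a} : Set G) := QuotientGroup.leftRel_apply.mp hgh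
    refine Subtype.ext ?_
    show g * a * g⁻¹ = h * a * h⁻¹
    calc g * a * g⁻¹ = g * ((g⁻¹ * h) * a * (g⁻¹ * h)⁻¹) * g⁻¹ := by rw [mem_cent.mp h1]
      _ = h * a * h⁻¹ := by group
  · rintro ⟨g⟩ ⟨h⟩ he
    have he' : g * a * g⁻¹ = h * a * h⁻¹ := congrArg Subtype.val he
    refine Quotient.sound (QuotientGroup.leftRel_apply.mpr (mem_cent.mpr ?_))
    calc g⁻¹ * h * a * (g⁻¹ * h)⁻¹ = g⁻¹ * (h * a * h⁻¹) * g := by group
      _ = a := by rw [← he']; group
  · rintro ⟨x, hx⟩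
    obtain ⟨g, rfl⟩ := isConj_iff.mp hx
    exact ⟨QuotientGroup.mk g, rfl⟩

theorem exists_sylow_le (p : ℕ) [Fact p.Prime] {H : Subgroup G} (hH : ¬ p ∣ H.index) :
    ∃ S : Sylow p G, (S : Subgroup G) ≤ H := by
  obtain ⟨T⟩ := (inferInstance : Nonempty (Sylow p H))
  have hT : IsPGroup p ((T : Subgroup H).map H.subtype) := T.2.map _
  have hi : ¬ p ∣ ((T : Subgroup H).map H.subtype).index := by
    rw [index_map, H.ker_subtype, H.range_subtype, sup_bot_eq,
      (Fact.out : p.Prime).dvd_mul]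
    exact fun h => h.elim T.not_dvd_index hH
  exact ⟨hT.toSylow hi, map_subtype_le _⟩

/-- A real element with a class of odd size squares to one. -/
theorem sq_eq_one_of_odd {x : G} (hx : IsConj x x⁻¹) (h : ¬ 2 ∣ csize x) : x * x = 1 := by
  haveI : Fact (Nat.Prime 2) := ⟨Nat.prime_two⟩
  obtain ⟨S, hS⟩ := exists_sylow_le 2 h
  rw [← pow_two]
  refine RealCentral.sq_eq_one hx S (mem_centralizer_iff.mpr fun s hs => ?_)
  exact mem_centralizer_singleton_iff.mp (hS hs)

theorem two_dvd_csize {x : G} (hx : IsConj x x⁻¹) (ho : Odd (orderOf x)) (hx1 : x ≠ 1) :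
    2 ∣ csize x := by
  by_contra h
  exact hx1 (eq_one_of_odd_of_sq ho (sq_eq_one_of_odd hx h))

theorem exists_two_inverter {x : G} (hx : IsConj x x⁻¹) :
    ∃ t : G, (∃ k : ℕ, orderOf t = 2 ^ k) ∧ t * x * t⁻¹ = x⁻¹ := by
  obtain ⟨t, ht⟩ := isConj_iff.mp hx
  obtain ⟨k, m, hm, htm⟩ := Nat.exists_eq_two_pow_mul_odd (orderOf_pos t).ne'
  obtain ⟨j, rfl⟩ := hm
  refine ⟨t ^ (2 * j + 1), ⟨k, ?_⟩, RealCentral.conj_pow_odd ht j⟩
  rw [orderOf_pow, htm, Nat.gcd_eq_right (dvd_mul_left _ _), Nat.mul_div_cancel _ (by omega)]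

/-- A nontrivial real element of odd order has a power in `RealPP`, of prime order. -/
theorem exists_realPP_pow {x : G} (hx : IsConj x x⁻¹) (ho : Odd (orderOf x)) (hx1 : x ≠ 1) :
    ∃ n : ℕ, RealPP (x ^ n) ∧ (orderOf (x ^ n)).Prime := by
  obtain ⟨q, hq, hqd⟩ := Nat.exists_prime_and_dvd (fun h => hx1 (orderOf_eq_one_iff.mp h))
  have hq2 : q ≠ 2 := fun h => Nat.not_even_iff_odd.mpr ho (even_iff_two_dvd.mpr (h ▸ hqd))
  have hz := orderOf_pow_orderOf_div (orderOf_pos x).ne' hqd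
  refine ⟨orderOf x / q, ⟨isConj_pow_inv hx _, ?_, q, 1, hq, hq2, by rw [hz, pow_one]⟩,
    hz.symm ▸ hq⟩
  intro h
  rw [h, orderOf_one] at hz
  exact hq.one_lt.ne hz

theorem exists_realPP (h : ¬ NoRealOdd G) : ∃ x : G, RealPP x ∧ (orderOf x).Prime := by
  unfold NoRealOdd at h
  push Not at h
  obtain ⟨x, hx, ho, hx1⟩ := h
  obtain ⟨n, h1, h2⟩ := exists_realPP_pow hx ho hx1
  exact ⟨_, h1, h2⟩

theorem noRealOdd_of_forall (h : ∀ x : G, ¬ RealPP x) : NoRealOdd G := by
  by_contra hc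
  obtain ⟨x, hx, -⟩ := exists_realPP hc
  exact h x hx

/-! ### Elements with coprime class sizes -/

theorem index_inf_cent {a b : G} (hab : (csize a).Coprime (csize b)) :
    (centralizer ({a} : Set G) ⊓ centralizer ({b} : Set G)).index = csize a * csize b := by
  refine le_antisymm index_inf_le (Nat.le_of_dvd
    (Nat.pos_of_ne_zero index_ne_zero_of_finite) ?_)
  exact hab.mul_dvd_of_dvd_of_dvd (index_dvd_of_le inf_le_left) (index_dvd_of_le inf_le_right)

theorem csize_mul_dvd {a b : G} (hab : (csize a).Coprime (csize b)) :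
    csize (a * b) ∣ csize a * csize b := by
  rw [← index_inf_cent hab]
  refine index_dvd_of_le fun g hg => mem_cent.mpr ?_
  calc g * (a * b) * g⁻¹ = (g * a * g⁻¹) * (g * b * g⁻¹) := by group
    _ = a * b := by rw [mem_cent.mp hg.1, mem_cent.mp hg.2]

/-- Two subgroups of coprime indices factorise the group. -/
theorem exists_mul_of_coprime_index {A B : Subgroup G} (h : A.index.Coprime B.index) (g : G) :
    ∃ a ∈ A, ∃ b ∈ B, g = a * b := by
  have h1 : B.index ≤ (MulAction.orbit A ((1 : G) : G ⧸ B)).ncard := by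
    rw [← MulAction.index_stabilizer]
    have hst : MulAction.stabilizer A ((1 : G) : G ⧸ B) = B.subgroupOf A := by
      ext a
      rw [MulAction.mem_stabilizer_iff, mem_subgroupOf, ← inv_mem_iff (x := (a : G))]
      show ((a : G) • ((1 : G) : G ⧸ B)) = _ ↔ _
      rw [MulAction.Quotient.smul_coe, QuotientGroup.eq, smul_eq_mul, mul_one, mul_one]
    rw [hst]
    show B.index ≤ B.relIndex A
    have e : B.relIndex A * A.index = (B ⊓ A).index := by
      rw [← inf_relIndex_right, relIndex_mul_index inf_le_right]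
    have d : A.index * B.index ∣ (B ⊓ A).index :=
      h.mul_dvd_of_dvd_of_dvd (index_dvd_of_le inf_le_right) (index_dvd_of_le inf_le_left)
    rw [← e, mul_comm (B.relIndex A)] at d
    refine Nat.le_of_dvd (Nat.pos_of_ne_zero (index_ne_zero_of_finite (H := B.subgroupOf A)))
      (Nat.dvd_of_mul_dvd_mul_left (Nat.pos_of_ne_zero index_ne_zero_of_finite) d)
  have h2 : MulAction.orbit A ((1 : G) : G ⧸ B) = Set.univ :=
    Set.eq_of_subset_of_ncard_le (Set.subset_univ _) (by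
      rw [Set.ncard_univ, ← index_eq_card]; exact h1)
  obtain ⟨a, ha⟩ : (g : G ⧸ B) ∈ MulAction.orbit A ((1 : G) : G ⧸ B) := h2 ▸ Set.mem_univ _
  refine ⟨a, a.2, (a : G)⁻¹ * g, ?_, by group⟩
  have ha' : ((a : G) • ((1 : G) : G ⧸ B)) = (g : G ⧸ B) := ha
  rw [MulAction.Quotient.smul_coe, smul_eq_mul, mul_one] at ha'
  exact QuotientGroup.eq.mp ha'

/-- All pairs of conjugates are conjugate. -/
theorem exists_conj_pair {a b : G} (hab : (csize a).Coprime (csize b)) (g h : G) :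
    ∃ k : G, k * a * k⁻¹ = g * a * g⁻¹ ∧ k * b * k⁻¹ = h * b * h⁻¹ := by
  obtain ⟨c, hc, d, hd, e⟩ := exists_mul_of_coprime_index (A := centralizer ({a} : Set G))
    (B := centralizer ({b} : Set G)) hab (g⁻¹ * h)
  have hh : h = g * c * d := by rw [mul_assoc, ← e]; group
  refine ⟨g * c, ?_, ?_⟩
  · calc g * c * a * (g * c)⁻¹ = g * (c * a * c⁻¹) * g⁻¹ := by group
      _ = g * a * g⁻¹ := by rw [mem_cent.mp hc]
  · calc g * c * b * (g * c)⁻¹ = g * c * (d * b * d⁻¹) * (g * c)⁻¹ := by rw [mem_cent.mp hd]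
      _ = h * b * h⁻¹ := by rw [hh]; group

theorem isConj_mul {a b a' b' : G} (hab : (csize a).Coprime (csize b)) (ha : IsConj a a')
    (hb : IsConj b b') : IsConj (a * b) (a' * b') := by
  obtain ⟨g, rfl⟩ := isConj_iff.mp ha
  obtain ⟨h, rfl⟩ := isConj_iff.mp hb
  obtain ⟨k, h1, h2⟩ := exists_conj_pair hab g h
  exact isConj_iff.mpr ⟨k, by rw [← h1, ← h2]; group⟩

/-- A subgroup whose left translations stabilise a set has order dividing its size. -/
theorem card_dvd_of_translate {H : Subgroup G} {S : Set G}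
    (h : ∀ w ∈ H, ∀ s ∈ S, w * s ∈ S) : Nat.card H ∣ S.ncard := by
  have hinv : S.ncard = S⁻¹.ncard := by
    rw [← Nat.card_coe_set_eq, ← Nat.card_coe_set_eq]
    exact Nat.card_congr ⟨fun s => ⟨(s : G)⁻¹, by simp⟩, fun s => ⟨(s : G)⁻¹, s.2⟩,
      fun s => by simp, fun s => by simp⟩
  have hpre : S⁻¹ = (QuotientGroup.mk : G → G ⧸ H) ⁻¹' ((QuotientGroup.mk : G → G ⧸ H) '' S⁻¹) := by
    refine Set.Subset.antisymm (Set.subset_preimage_image _ _) ?_
    rintro x ⟨y, hy, hxy⟩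
    have hyH : y⁻¹ * x ∈ H := QuotientGroup.eq.mp hxy
    rw [Set.mem_inv] at hy ⊢
    have := h _ (inv_mem hyH) _ hy
    rwa [show (y⁻¹ * x)⁻¹ * y⁻¹ = x⁻¹ by group] at this
  rw [hinv, hpre, ← Nat.card_coe_set_eq,
    Nat.card_congr (QuotientGroup.preimageMkEquivSubgroupProdSet H _), Nat.card_prod]
  exact dvd_mul_right _ _

/-- If `b` is an involution and `b * a` has class size dividing that of `a`, the products of two
conjugates of `b` stabilise the class of `a`. -/
theorem translate {a b : G} (hcop : (csize b).Coprime (csize a)) (hb : b * b = 1)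
    (hdvd : csize (b * a) ∣ csize a) :
    (∀ w ∈ pairGroup b, ∀ a', IsConj a a' → IsConj a (w * a')) ∧
      Nat.card (pairGroup b) ∣ csize a := by
  have hsub : ∀ g : G, (fun x => g * b * g⁻¹ * x) '' conjugatesOf a = conjugatesOf (b * a) := by
    intro g
    refine Set.eq_of_subset_of_ncard_le ?_ ?_
    · rintro _ ⟨x, hx, rfl⟩
      exact isConj_mul hcop (isConj_iff.mpr ⟨g, rfl⟩) hx
    · rw [Set.ncard_image_of_injective _ (mul_right_injective _), ncard_conjugatesOf,
        ncard_conjugatesOf]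
      exact Nat.le_of_dvd (Nat.pos_of_ne_zero (csize_ne_zero a)) hdvd
  have key : ∀ w ∈ pairGroup b, (fun x => w * x) '' conjugatesOf a = conjugatesOf a := by
    intro w hw
    induction hw using closure_induction with
    | mem w hw =>
      obtain ⟨g, h, rfl⟩ := hw
      have hcomp : (fun x => g * b * g⁻¹ * (h * b * h⁻¹) * x) =
          (fun x => g * b * g⁻¹ * x) ∘ fun x => h * b * h⁻¹ * x := by
        funext x; simp [mul_assoc]
      rw [hcomp, Set.image_comp, hsub h, ← hsub g, ← Set.image_comp]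
      have hid : ((fun x => g * b * g⁻¹ * x) ∘ fun x => g * b * g⁻¹ * x) = id := by
        funext x
        show g * b * g⁻¹ * (g * b * g⁻¹ * x) = x
        rw [show g * b * g⁻¹ * (g * b * g⁻¹ * x) = g * (b * b) * g⁻¹ * x by group, hb]
        group
      rw [hid, Set.image_id]
    | one => simp
    | mul x y _ _ hx hy =>
      rw [show (fun z => x * y * z) = (fun z => x * z) ∘ fun z => y * z by
        funext z; simp [mul_assoc], Set.image_comp, hy, hx]
    | inv x _ hx =>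
      conv_lhs => rw [← hx, ← Set.image_comp]
      rw [show ((fun z => x⁻¹ * z) ∘ fun z => x * z) = id by funext z; simp, Set.image_id]
  have h1 : ∀ w ∈ pairGroup b, ∀ a' ∈ conjugatesOf a, w * a' ∈ conjugatesOf a := fun w hw a' ha' =>
    key w hw ▸ Set.mem_image_of_mem _ ha'
  exact ⟨h1, ncard_conjugatesOf a ▸ card_dvd_of_translate h1⟩

/-! ### Normal subgroups, quotients, lifting -/

theorem relIndex_dvd_index {N : Subgroup G} [N.Normal] (C : Subgroup G) :
    C.relIndex N ∣ C.index := by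
  obtain ⟨k, hk⟩ : N.relIndex C ∣ N.index := relIndex_dvd_index_of_normal N C
  have h : C.relIndex N * N.index = N.relIndex C * C.index := by
    rw [← inf_relIndex_right C N, relIndex_mul_index inf_le_right, ← inf_relIndex_right N C,
      relIndex_mul_index inf_le_right, inf_comm]
  refine ⟨k, Nat.eq_of_mul_eq_mul_left
    (Nat.pos_of_ne_zero (index_ne_zero_of_finite (H := N.subgroupOf C))) ?_⟩
  show N.relIndex C * C.index = N.relIndex C * (C.relIndex N * k)
  rw [← h, hk]; ring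

theorem cent_subgroupOf (H : Subgroup G) (x : H) :
    centralizer ({x} : Set H) = (centralizer ({(x : G)} : Set G)).subgroupOf H := by
  ext y
  rw [mem_subgroupOf, mem_centralizer_singleton_iff, mem_centralizer_singleton_iff, Subtype.ext_iff]
  rfl

theorem csize_subgroup_dvd {N : Subgroup G} [N.Normal] (x : N) : csize x ∣ csize (x : G) := by
  rw [csize, cent_subgroupOf]
  exact relIndex_dvd_index _

theorem csize_map_dvd {H : Type*} [Group H] (f : G →* H) (hf : Function.Surjective f) (x : G) :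
    csize (f x) ∣ csize x := by
  refine dvd_trans (index_dvd_of_le ?_) (index_map_dvd (H := centralizer ({x} : Set G)) hf)
  rintro _ ⟨g, hg, rfl⟩
  rw [mem_cent, ← map_inv, ← map_mul, ← map_mul, mem_cent.mp hg]

theorem noRealOdd_of_normal_two (K : Subgroup G) [K.Normal] (hK : IsPGroup 2 K)
    (hi : ¬ 2 ∣ K.index) : NoRealOdd G := by
  intro x hx ho
  obtain ⟨t, ⟨k, hk⟩, ht⟩ := exists_two_inverter hx
  have htK : t ∈ K := by
    rw [← QuotientGroup.eq_one_iff (N := K), ← orderOf_eq_one_iff]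
    refine Nat.eq_one_of_dvd_coprimes (a := 2 ^ k) (b := K.index) ?_ ?_ ?_
    · exact Nat.Coprime.pow_left k (Nat.prime_two.coprime_iff_not_dvd.2 hi)
    · exact hk ▸ orderOf_map_dvd (QuotientGroup.mk' K) t
    · exact (_root_.orderOf_dvd_natCard _).trans (dvd_of_eq (index_eq_card K).symm)
  have h2 : x * x ∈ K := by
    have : x⁻¹ * x⁻¹ ∈ K := by
      have hc : t * (x * t⁻¹ * x⁻¹) ∈ K :=
        mul_mem htK (Normal.conj_mem inferInstance _ (inv_mem htK) x)
      rwa [show t * (x * t⁻¹ * x⁻¹) = t * x * t⁻¹ * x⁻¹ by group, ht] at hc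
    simpa using inv_mem this
  obtain ⟨e, he⟩ := IsPGroup.iff_orderOf.mp hK ⟨x * x, h2⟩
  rw [Subgroup.orderOf_mk] at he
  have h3 : orderOf (x * x) ∣ orderOf x := by rw [← pow_two]; exact orderOf_pow_dvd 2
  have h4 : e = 0 := by
    by_contra he0
    exact Nat.not_even_iff_odd.mpr ho (even_iff_two_dvd.mpr
      (((dvd_pow_self 2 he0).trans (dvd_of_eq he.symm)).trans h3))
  rw [h4, pow_zero, orderOf_eq_one_iff] at he
  exact eq_one_of_odd_of_sq ho he

theorem isSolvable_of_noRealOdd (h : NoRealOdd G) : Group.IsSolvable G := by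
  haveI : Fact (Nat.Prime 2) := ⟨Nat.prime_two⟩
  obtain ⟨K, hKn, hK2, hKi⟩ := RealTwoPart.exists_normal_two_subgroup h
  haveI := hK2.isNilpotent
  haveI : Group.IsSolvable (G ⧸ K) := Cfsg.Agent.S0205.result (by
    rw [← index_eq_card]; exact Nat.not_even_iff_odd.mp fun he => hKi (even_iff_two_dvd.mp he))
  exact Group.isSolvable_of_ker_le_range K.subtype
    (QuotientGroup.mk' K) (by rw [QuotientGroup.ker_mk', range_subtype])

/-- Real elements of odd prime power order lift modulo any normal subgroup. -/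
theorem exists_real_lift {N : Subgroup G} [N.Normal] {x : G ⧸ N} (hx : IsConj x x⁻¹) {q k : ℕ}
    (hq : q.Prime) (hq2 : q ≠ 2) (ho : orderOf x = q ^ k) :
    ∃ e : G, IsConj e e⁻¹ ∧ (∃ m, orderOf e = q ^ m) ∧ QuotientGroup.mk' N e = x := by
  haveI : Fact q.Prime := ⟨hq⟩
  haveI : Fact (Nat.Prime 2) := ⟨Nat.prime_two⟩
  set π := QuotientGroup.mk' N with hπ
  obtain ⟨tb, ⟨a, ha⟩, htb⟩ := exists_two_inverter hx
  obtain ⟨t₀, ht₀⟩ := QuotientGroup.mk'_surjective N tb
  set Y : Subgroup G := (zpowers x).comap π with hY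
  have hinvY : ∀ y : G, y ∈ Y → t₀ * y * t₀⁻¹ ∈ Y := by
    intro y hy
    obtain ⟨i, hi⟩ := mem_zpowers_iff.mp (mem_comap.mp hy)
    rw [hY, mem_comap, map_mul, map_mul, map_inv, ht₀, ← hi, ← conj_zpow, htb]
    exact zpow_mem (inv_mem (mem_zpowers x)) i
  obtain ⟨Q⟩ := (inferInstance : Nonempty (Sylow q Y))
  set Q₀ : Subgroup G := (Q : Subgroup Y).map Y.subtype with hQ₀
  have hQ₀Y : Q₀ ≤ Y := map_subtype_le _
  -- the Sylow subgroup of `Y` maps onto `⟨x⟩`
  have honto : zpowers x ≤ Q₀.map π := by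
    have hle : Q₀.map π ≤ zpowers x := (map_mono hQ₀Y).trans (map_comap_le _ _)
    let f : Y →* zpowers x := (π.comp Y.subtype).codRestrict _ (fun y => y.2)
    have hf : Function.Surjective f := by
      rintro ⟨z, hz⟩
      obtain ⟨g, rfl⟩ := QuotientGroup.mk'_surjective N z
      exact ⟨⟨g, hz⟩, rfl⟩
    have h1 : ((Q : Subgroup Y).map f).index = 1 := by
      obtain ⟨j, -, hj⟩ := (Nat.dvd_prime_pow hq).mp
        (show ((Q : Subgroup Y).map f).index ∣ q ^ k by
          rw [← ho, ← Nat.card_zpowers]; exact index_dvd_card _)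
      rcases j.eq_zero_or_pos with rfl | hj0
      · simpa using hj
      · exact absurd (((dvd_pow_self q hj0.ne').trans (dvd_of_eq hj.symm)).trans
          (index_map_dvd (H := (Q : Subgroup Y)) hf)) Q.not_dvd_index
    intro z hz
    have hz' : (⟨z, hz⟩ : zpowers x) ∈ (Q : Subgroup Y).map f := by
      rw [index_eq_one.mp h1]; exact mem_top _
    obtain ⟨y, hy, hyz⟩ := hz'
    exact ⟨y, ⟨y, hy, rfl⟩, congrArg Subtype.val hyz⟩
  -- an inverter normalising it
  obtain ⟨y₀, hy₀⟩ : ∃ y ∈ Y, ∀ v ∈ Q₀, y * t₀ * v * (y * t₀)⁻¹ ∈ Q₀ := by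
    let Q₁ : Subgroup Y := (Q₀.map (MulAut.conj t₀).toMonoidHom).subgroupOf Y
    have hle : Q₀.map (MulAut.conj t₀).toMonoidHom ≤ Y := by
      rintro _ ⟨v, hv, rfl⟩; exact hinvY v (hQ₀Y hv)
    have hc : Nat.card Q₁ = q ^ (Nat.card Y).factorization q := by
      rw [← Q.card_eq_multiplicity, Nat.card_congr (subgroupOfEquivOfLe hle).toEquiv,
        card_map_of_injective (MulAut.conj t₀).injective, hQ₀,
        card_map_of_injective Y.subtype_injective]
    obtain ⟨y, hy⟩ := MulAction.exists_smul_eq Y (Sylow.ofCard Q₁ hc) Q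
    refine ⟨y, y.2, fun v hv => ?_⟩
    have h1 : (⟨t₀ * v * t₀⁻¹, hinvY v (hQ₀Y hv)⟩ : Y) ∈ Q₁ :=
      mem_subgroupOf.mpr ⟨v, hv, rfl⟩
    have h2 : y * ⟨t₀ * v * t₀⁻¹, hinvY v (hQ₀Y hv)⟩ * y⁻¹ ∈ (Q : Subgroup Y) := by
      rw [← hy, Sylow.coe_subgroup_smul]
      exact ⟨_, h1, rfl⟩
    exact ⟨_, h2, by simp [mul_assoc]⟩
  obtain ⟨hy₀Y, hy₀n⟩ := hy₀
  have ht₁ : π (y₀ * t₀) * x * (π (y₀ * t₀))⁻¹ = x⁻¹ := by
    obtain ⟨i, hi⟩ := mem_zpowers_iff.mp (mem_comap.mp hy₀Y)
    rw [map_mul, ht₀, ← hi, mul_inv_rev]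
    calc x ^ i * tb * x * (tb⁻¹ * (x ^ i)⁻¹) = x ^ i * (tb * x * tb⁻¹) * (x ^ i)⁻¹ := by group
      _ = x⁻¹ := by rw [htb]; group
  -- its 2-part
  obtain ⟨b, m, hm, hbm⟩ := Nat.exists_eq_two_pow_mul_odd (orderOf_pos (y₀ * t₀)).ne'
  obtain ⟨j, rfl⟩ := hm
  set t := (y₀ * t₀) ^ (2 * j + 1) with htdef
  have htx : π t * x * (π t)⁻¹ = x⁻¹ := by
    rw [htdef, map_pow]; exact RealCentral.conj_pow_odd ht₁ j
  have htQ : ∀ v ∈ Q₀, t * v * t⁻¹ ∈ Q₀ := by
    intro v hv
    rw [htdef]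
    generalize 2 * j + 1 = n
    induction n with
    | zero => simpa using hv
    | succ n ih =>
      have := hy₀n _ ih
      rwa [show y₀ * t₀ * ((y₀ * t₀) ^ n * v * ((y₀ * t₀) ^ n)⁻¹) * (y₀ * t₀)⁻¹ =
        (y₀ * t₀) ^ (n + 1) * v * ((y₀ * t₀) ^ (n + 1))⁻¹ by rw [pow_succ']; simp [mul_assoc]] at this
  have ht2 : orderOf t = 2 ^ b := by
    rw [htdef, orderOf_pow, hbm, Nat.gcd_eq_right (dvd_mul_left _ _),
      Nat.mul_div_cancel _ (by omega)]
  -- the elements of `Q₀` over a power of `x` fixed by `t²`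
  have hfix : ∀ z ∈ zpowers x, ∃ v ∈ Q₀, π v = z ∧ (t * t) * v * (t * t)⁻¹ = v := by
    intro z hz
    obtain ⟨v₀, hv₀, hv₀z⟩ := honto hz
    let S : Set G := {v | v ∈ Q₀ ∧ π v = z}
    have hzt : π (t * t) * z * (π (t * t))⁻¹ = z := by
      obtain ⟨i, hi⟩ := mem_zpowers_iff.mp hz
      rw [← hi, ← conj_zpow]
      congr 1
      calc π (t * t) * x * (π (t * t))⁻¹ = π t * (π t * x * (π t)⁻¹) * (π t)⁻¹ := by
            rw [map_mul]; group
        _ = π t * x⁻¹ * (π t)⁻¹ := by rw [htx]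
        _ = (π t * x * (π t)⁻¹)⁻¹ := by group
        _ = x := by rw [htx, inv_inv]
    let f : Equiv.Perm G := (MulAut.conj (t * t)).toEquiv
    have hS : ∀ v, v ∈ S → f v ∈ S := by
      rintro v ⟨hv, hvz⟩
      show t * t * v * (t * t)⁻¹ ∈ Q₀ ∧ π (t * t * v * (t * t)⁻¹) = z
      refine ⟨?_, ?_⟩
      · have := htQ _ (htQ v hv)
        rwa [show t * (t * v * t⁻¹) * t⁻¹ = t * t * v * (t * t)⁻¹ by group] at this
      · rw [map_mul, map_mul π (t * t), map_inv, hvz, hzt]
    have hSn : Nat.card S = Nat.card ↥(Q₀ ⊓ N) := by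
      refine Nat.card_congr ⟨fun v => ⟨v₀⁻¹ * v, mem_inf.mpr ⟨mul_mem (inv_mem (show v₀ ∈ Q₀ from hv₀)) v.2.1, ?_⟩⟩,
        fun w => ⟨v₀ * w, mul_mem (show v₀ ∈ Q₀ from hv₀) w.2.1, ?_⟩,
        fun v => by simp, fun w => by simp⟩
      · rw [← QuotientGroup.eq_one_iff]
        show π (v₀⁻¹ * v) = 1
        rw [map_mul, map_inv, hv₀z, v.2.2, inv_mul_cancel]
      · show π (v₀ * w) = z
        rw [map_mul, hv₀z, show π w = 1 from (QuotientGroup.eq_one_iff _).mpr w.2.2, mul_one]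
    have hodd : Odd (Nat.card S) := by
      rw [hSn]
      obtain ⟨c, hc⟩ := IsPGroup.iff_card.mp ((Q.2.map Y.subtype).to_le (inf_le_left (b := N)))
      rw [hc]
      exact (hq.odd_of_ne_two hq2).pow
    -- a 2-group acts on `S`
    have hS' : ∀ v, f v ∈ S ↔ v ∈ S := by
      intro v
      refine ⟨fun hv => ?_, hS v⟩
      have himg : f '' S = S := Set.eq_of_subset_of_ncard_le
        (Set.image_subset_iff.mpr fun w hw => hS w hw)
        (by rw [Set.ncard_image_of_injective _ f.injective])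
      obtain ⟨w, hw, hwv⟩ := himg.symm ▸ hv
      rwa [← f.injective hwv]
    let g : Equiv.Perm S := f.subtypePerm hS'
    have hg2 : g ^ 2 ^ b = 1 := by
      refine Equiv.ext fun v => Subtype.ext ?_
      rw [Equiv.Perm.subtypePerm_pow]
      show ((f ^ 2 ^ b) (v : G)) = v
      have hfp : ∀ n : ℕ, ∀ w : G, (f ^ n) w = (t * t) ^ n * w * ((t * t) ^ n)⁻¹ := by
        intro n
        induction n with
        | zero => intro w; simp
        | succ n ih =>
          intro w
          rw [pow_succ', Equiv.Perm.mul_apply, ih]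
          show t * t * ((t * t) ^ n * w * ((t * t) ^ n)⁻¹) * (t * t)⁻¹ = _
          rw [pow_succ']; simp [mul_assoc]
      rw [hfp, ← pow_two, ← pow_mul, mul_comm 2, pow_mul, ← ht2, pow_orderOf_eq_one]
      simp
    haveI : Fintype S := Fintype.ofFinite S
    have hS2 : ¬ 2 ∣ Fintype.card S := by
      rw [← Nat.card_eq_fintype_card]
      exact fun h => Nat.not_even_iff_odd.mpr hodd (even_iff_two_dvd.mpr h)
    obtain ⟨v, hv⟩ := Equiv.Perm.exists_fixed_point_of_prime (p := 2) (n := b) hS2 hg2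
    exact ⟨v, v.2.1, v.2.2, congrArg Subtype.val hv⟩
  -- `x` is the image of an element inverted by `t`
  have hodd : Odd (orderOf x) := ho ▸ (hq.odd_of_ne_two hq2).pow
  obtain ⟨r, hr⟩ := hodd
  obtain ⟨v, hv, hvz, hvt⟩ := hfix (x ^ r) (pow_mem (mem_zpowers x) r)
  set e := v⁻¹ * (t * v * t⁻¹) with he
  have hev : t * e * t⁻¹ = e⁻¹ := by
    calc t * e * t⁻¹ = (t * v * t⁻¹)⁻¹ * (t * t * v * (t * t)⁻¹) := by rw [he]; group
      _ = e⁻¹ := by rw [hvt, he]; group
  have heQ : e ∈ Q₀ := mul_mem (inv_mem hv) (htQ v hv)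
  refine ⟨e, isConj_iff.mpr ⟨t, hev⟩, ?_, ?_⟩
  · obtain ⟨m, hm⟩ := IsPGroup.iff_orderOf.mp (Q.2.map Y.subtype) ⟨e, heQ⟩
    exact ⟨m, by rw [← hm, Subgroup.orderOf_mk]⟩
  · rw [he, map_mul, map_mul, map_mul, map_inv, map_inv, hvz, ← conj_pow, htx, inv_pow,
      ← mul_inv_rev, ← pow_add, inv_eq_iff_mul_eq_one, ← pow_succ, ← two_mul, ← hr,
      pow_orderOf_eq_one]

/-- A quotient by a normal subgroup containing all real elements of odd prime power order. -/
theorem noRealOdd_quotient {N : Subgroup G} [N.Normal] (h : ∀ x : G, RealPP x → x ∈ N) :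
    NoRealOdd (G ⧸ N) := by
  refine noRealOdd_of_forall fun x hx => ?_
  obtain ⟨hxc, hx1, q, k, hq, hq2, ho⟩ := hx
  obtain ⟨e, he, ⟨m, hm⟩, hex⟩ := exists_real_lift hxc hq hq2 ho
  have he1 : e ≠ 1 := fun h1 => hx1 (by rw [← hex, h1, map_one])
  exact hx1 (hex ▸ (QuotientGroup.eq_one_iff e).mpr (h e ⟨he, he1, q, m, hq, hq2, hm⟩))

theorem isSolvable_of_realPP_mem {N : Subgroup G} [N.Normal] [Group.IsSolvable N]
    (h : ∀ x : G, RealPP x → x ∈ N) : Group.IsSolvable G := by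
  haveI : Group.IsSolvable (G ⧸ N) := isSolvable_of_noRealOdd (noRealOdd_quotient h)
  exact Group.isSolvable_of_ker_le_range N.subtype
    (QuotientGroup.mk' N) (by rw [QuotientGroup.ker_mk', range_subtype])

end Fin

end Cfsg.Agent.RealGraph
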