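import Cfsg.Agent.Lib.RealGraph.Irred

/-!
Fixed points of elements of prime power order on invariant subgroups.
-/

set_option autoImplicit false
set_option linter.unusedSectionVars false

namespace Cfsg.Agent.RealGraph

open Subgroup MulAction

variable {Γ V : Type*} [Group Γ] [Group V] [MulDistribMulAction Γ V]

variable (V) in
/-- The subgroup fixed by `y`. -/
def fixSub (y : Γ) : Subgroup V where
  carrier := {v | y • v = v}
  one_mem' := smul_one y
  mul_mem' := fun {a b} ha hb => by
    show y • (a * b) = a * b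
    rw [smul_mul', show y • a = a from ha, show y • b = b from hb]
  inv_mem' := fun {a} ha => by
    show y • a⁻¹ = a⁻¹
    rw [smul_inv', show y • a = a from ha]

theorem mem_fixSub {y : Γ} {v : V} : v ∈ fixSub V y ↔ y • v = v := Iff.rfl

variable [Finite Γ] [Finite V]

theorem fix_modEq {y : Γ} {p n : ℕ} [Fact p.Prime] (hy : y ^ p ^ n = 1) (W : Subgroup V)
    (hW : ∀ w ∈ W, y • w ∈ W) :
    Nat.card W ≡ Nat.card ↥(W ⊓ fixSub V y) [MOD p] := by
  classical
  haveI : Fintype W := Fintype.ofFinite W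
  let f : W → W := fun w => ⟨y • (w : V), hW w w.2⟩
  have hf : Function.Bijective f := Finite.injective_iff_bijective.mp fun a b h =>
    Subtype.ext (smul_left_cancel y (congrArg Subtype.val h))
  let σ : Equiv.Perm W := Equiv.ofBijective f hf
  have hpow : ∀ (m : ℕ) (w : W), ((σ ^ m) w : V) = y ^ m • (w : V) := by
    intro m
    induction m with
    | zero => intro w; simp
    | succ m ih =>
      intro w
      rw [pow_succ', Equiv.Perm.mul_apply, pow_succ', mul_smul, ← ih]
      rfl
  have hσ : σ ^ p ^ n = 1 := Equiv.ext fun w => Subtype.ext (by rw [hpow, hy, one_smul]; rfl)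
  have e : (σ.supportᶜ : Finset W) ≃ ↥(W ⊓ fixSub V y) :=
    { toFun := fun w => ⟨((w : W) : V), ⟨(w : W).2,
        congrArg Subtype.val (Equiv.Perm.notMem_support.mp (Finset.mem_compl.mp w.2))⟩⟩
      invFun := fun v => ⟨⟨v.1, v.2.1⟩,
        Finset.mem_compl.mpr (Equiv.Perm.notMem_support.mpr (Subtype.ext v.2.2))⟩
      left_inv := fun w => rfl
      right_inv := fun v => rfl }
  rw [← Nat.card_congr e, Nat.card_eq_finsetCard, Nat.card_eq_fintype_card]
  exact (Equiv.Perm.card_compl_support_modEq hσ).symm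

theorem isPGroup_of_exp_two (hexp : ∀ v : V, v * v = 1) : IsPGroup 2 V := fun v =>
  ⟨1, by rw [pow_one, pow_two, hexp]⟩

theorem card_two_pow (hexp : ∀ v : V, v * v = 1) (W : Subgroup V) :
    ∃ k : ℕ, Nat.card W = 2 ^ k :=
  IsPGroup.iff_card.mp ((isPGroup_of_exp_two hexp).to_subgroup W)

theorem irred_of_primitive [FaithfulSMul Γ V] (hexp : ∀ v : V, v * v = 1) {D : ℕ}
    (hV : Nat.card V = 2 ^ D) {y : Γ} {r : ℕ} (hr : r.Prime) (ho : orderOf y = r)
    (hrD : r ∣ 2 ^ D - 1) (hprim : ∀ k : ℕ, 0 < k → k < D → ¬ r ∣ 2 ^ k - 1) :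
    IrredElt V y ∧ ∀ v : V, v ≠ 1 → y • v ≠ v := by
  haveI : Fact r.Prime := ⟨hr⟩
  have hy : y ^ r ^ 1 = 1 := by rw [pow_one, ← ho, pow_orderOf_eq_one]
  have key : ∀ W : Subgroup V, Nat.card W ≡ 1 [MOD r] → W = ⊥ ∨ W = ⊤ := by
    intro W h
    obtain ⟨w, hw⟩ := card_two_pow hexp W
    have hle : w ≤ D := by
      have := W.card_le_card_group
      rw [hw, hV] at this
      exact (Nat.pow_le_pow_iff_right (by omega)).mp this
    rw [hw] at h
    have hdvd : r ∣ 2 ^ w - 1 := (Nat.modEq_iff_dvd' Nat.one_le_two_pow).mp h.symm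
    rcases Nat.eq_zero_or_pos w with h0 | h0
    · exact Or.inl (Subgroup.card_eq_one.mp (by rw [hw, h0, pow_zero]))
    rcases hle.eq_or_lt with h1 | h1
    · exact Or.inr (Subgroup.eq_top_of_card_eq _ (by rw [hw, hV, h1]))
    · exact absurd hdvd (hprim w h0 h1)
  have hfix : fixSub V y = ⊥ := by
    have h := fix_modEq hy (⊤ : Subgroup V) fun w _ => mem_top _
    rw [top_inf_eq, card_top, hV] at h
    refine (key (fixSub V y) (h.symm.trans
      ((Nat.modEq_iff_dvd' Nat.one_le_two_pow).mpr hrD).symm)).resolve_right fun ht => ?_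
    have : y = 1 := eq_of_smul_eq_smul (α := V) fun v => by
      rw [one_smul]; exact mem_fixSub.mp (ht ▸ mem_top v)
    rw [this, orderOf_one] at ho
    exact hr.one_lt.ne ho
  refine ⟨fun W hW => key W ?_, fun v hv h => hv ?_⟩
  · have h := fix_modEq hy W hW
    rwa [hfix, inf_bot_eq, card_bot] at h
  · rw [← mem_bot, ← hfix]; exact h

end Cfsg.Agent.RealGraph
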