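import Cfsg.Agent.Lib.RealGraph.Hyp
import Cfsg.Agent.S3559
import Cfsg.Agent.S3972
import Cfsg.Agent.S0675
import Mathlib.GroupTheory.GroupAction.MultipleTransitivity

/-!
A minimal example with a cyclic subgroup transitive on the Sylow 2-subgroups is 2-transitive there
(Schur, Burnside).
-/

set_option autoImplicit false
set_option linter.unusedSectionVars false

namespace Cfsg.Agent.RealGraph

open Subgroup MulAction
open scoped Pointwise

variable {Γ V : Type*} [Group Γ] [Finite Γ] [Group V] [MulDistribMulAction Γ V] [FaithfulSMul Γ V]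

namespace MinBad

variable (B : MinBad Γ V)
include B

theorem two_trans_of_cyclic (A : Subgroup Γ) [IsCyclic A]
    (htr : ∀ S T : Sylow 2 Γ, ∃ a ∈ A, a • S = T) :
    IsMultiplyPretransitive Γ (Sylow 2 Γ) 2 := by
  classical
  haveI : Fact (Nat.Prime 2) := ⟨Nat.prime_two⟩
  haveI : Fintype (Sylow 2 Γ) := Fintype.ofFinite _
  set φ := MulAction.toPermHom Γ (Sylow 2 Γ) with hφ
  have hn3 := B.three_le_card
  haveI : Nontrivial (Sylow 2 Γ) := Finite.one_lt_card_iff_nontrivial.mp (by omega)
  obtain ⟨T₀⟩ := (inferInstance : Nonempty (Sylow 2 Γ))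
  haveI hΓprim : IsPreprimitive Γ (Sylow 2 Γ) :=
    (MulAction.isCoatom_stabilizer_iff_preprimitive Γ T₀).mp (B.isCoatom_stabilizer T₀)
  let f : Sylow 2 Γ →ₑ[⇑φ.rangeRestrict] Sylow 2 Γ := ⟨id, fun _ _ => rfl⟩
  have hGprim : IsPreprimitive φ.range (Sylow 2 Γ) :=
    IsPreprimitive.of_surjective (f := f) Function.surjective_id
  haveI := hGprim.toIsPretransitive
  have hnsolv : ¬ Group.IsSolvable φ.range := by
    intro hs
    have hker : φ.ker ≤ Subgroup.center Γ := by
      refine B.le_center_of_normal _ fun h => ?_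
      refine B.stabilizer_ne_top T₀ (eq_top_iff.mpr fun g _ => ?_)
      exact Equiv.congr_fun (h ▸ mem_top g : g ∈ φ.ker) T₀
    haveI : Group.IsSolvable φ.ker :=
      Group.isSolvable_of_comm fun a b => Subtype.ext (mem_center_iff.mp (hker b.2) a)
    exact B.nonsolv (Group.isSolvable_of_ker_le_range φ.ker.subtype φ.rangeRestrict
      (by rw [MonoidHom.ker_rangeRestrict, range_subtype]))
  have hback : IsMultiplyPretransitive φ.range (Sylow 2 Γ) 2 →
      IsMultiplyPretransitive Γ (Sylow 2 Γ) 2 := by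
    intro h
    rw [is_two_pretransitive_iff] at h ⊢
    intro a b c d hab hcd
    obtain ⟨⟨g, γ, rfl⟩, h1, h2⟩ := h hab hcd
    exact ⟨γ, h1, h2⟩
  -- the cyclic regular subgroup
  let C : Subgroup φ.range := A.map φ.rangeRestrict
  haveI hCc : IsCyclic C := isCyclic_of_surjective (φ.rangeRestrict.subgroupMap A)
    (φ.rangeRestrict.subgroupMap_surjective A)
  have hCtr : IsPretransitive C (Sylow 2 Γ) := ⟨fun S T => by
    obtain ⟨a, ha, he⟩ := htr S T
    exact ⟨⟨φ.rangeRestrict a, a, ha, rfl⟩, he⟩⟩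
  have hCfree : ∀ S : Sylow 2 Γ, MulAction.stabilizer C S = ⊥ := by
    intro S
    rw [eq_bot_iff]
    intro c hc
    refine mem_bot.mpr (Subtype.ext (Subtype.ext (Equiv.ext fun T => ?_)))
    obtain ⟨g, hgC, hg⟩ : ∃ g, g ∈ C ∧ g • S = T := by
      obtain ⟨g, hg⟩ := MulAction.exists_smul_eq C S T
      exact ⟨g, g.2, hg⟩
    have hcomm : (c : φ.range) * g = g * c := by
      obtain ⟨z, hz⟩ := hCc.exists_generator
      obtain ⟨i, hi⟩ := hz c
      obtain ⟨j, hj⟩ := hz ⟨g, hgC⟩
      have := congrArg (fun u : C => (u : φ.range))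
        (((Commute.refl z).zpow_left i).zpow_right j).eq
      simpa [hi, hj] using this
    show (c : φ.range) • T = T
    rw [← hg, smul_smul, hcomm, mul_smul]
    exact congrArg (g • ·) (mem_stabilizer_iff.mp hc)
  by_cases hp : (Fintype.card (Sylow 2 Γ)).Prime
  · exact hback ((Cfsg.Agent.S0675.result hp φ.range).resolve_left hnsolv)
  by_cases hpp : IsPrimePow (Nat.card (Sylow 2 Γ))
  · by_contra h2
    obtain ⟨p, m, hp', hm, he⟩ := (isPrimePow_nat_iff _).mp hpp
    have hm2 : 2 ≤ m := by
      by_contra hlt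
      obtain rfl : m = 1 := by omega
      rw [pow_one] at he
      rw [Nat.card_eq_fintype_card] at he
      exact hp (he ▸ hp')
    obtain ⟨z, hz⟩ := IsCyclic.exists_ofOrder_eq_natCard (α := C)
    have hord : orderOf (z : φ.range) = p ^ m := by
      rw [Subgroup.orderOf_coe, hz, he,
        ← MulAction.index_stabilizer_of_transitive C T₀, hCfree, index_bot]
    have h := Cfsg.Agent.S3972.result p m hp' hm2
      (by rw [← Nat.card_eq_fintype_card, he]) φ.range inferInstance (fun h => h2 (hback h))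
      (z : φ.range) hord
    exact h.1 hGprim
  · exact hback ((Cfsg.Agent.S3559.result (G := φ.range) inferInstance (by omega) hpp C hCc
      ⟨hCtr, hCfree⟩).resolve_left (fun h => h hGprim))

end MinBad

end Cfsg.Agent.RealGraph
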