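import Cfsg.Agent.Lib.RealGraph.Perm
import Cfsg.Agent.Lib.RealGraph.Regular
import Cfsg.Agent.Lib.RealGraph.Fix
import Cfsg.Agent.Lib.Zsigmondy.Basic

/-!
There is no minimal example of dimension different from six: a primitive prime divisor gives a
cyclic semiregular centraliser containing conjugates of all real elements of odd prime power order.
-/

set_option autoImplicit false
set_option linter.unusedSectionVars false

namespace Cfsg.Agent.RealGraph

open Subgroup MulAction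
open scoped Pointwise

variable {Γ V : Type*} [Group Γ] [Finite Γ] [Group V] [Finite V] [MulDistribMulAction Γ V]
  [FaithfulSMul Γ V]

namespace MinBad

variable (B : MinBad Γ V)
include B

theorem nontrivial_module : Nontrivial V := by
  obtain ⟨v, hv⟩ := B.exists_ne_one
  exact ⟨v, 1, hv⟩

theorem fixedPts_ne_top (T : Sylow 2 Γ) : fixedPts V T ≠ ⊤ := by
  intro h
  refine B.sylow_ne T ?_
  have hbot : (T : Subgroup Γ) = ⊥ := by
    rw [eq_bot_iff]
    intro t ht
    exact mem_bot.mpr (B.eq_one_of_fix fun v _ => (h ▸ mem_top v : v ∈ fixedPts V T) t ht)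
  rw [hbot]
  infer_instance

/-- The number of Sylow 2-subgroups times `2 ^ j - 1` is `2 ^ D - 1`. -/
theorem exists_fibre_exp {D : ℕ} (hV : Nat.card V = 2 ^ D) (T : Sylow 2 Γ) :
    ∃ j : ℕ, 0 < j ∧ j < D ∧ Nat.card (fixedPts V T) = 2 ^ j ∧
      Nat.card (Sylow 2 Γ) * (2 ^ j - 1) = 2 ^ D - 1 := by
  obtain ⟨j, hj⟩ := card_two_pow B.hyp.exp2 (fixedPts V T)
  refine ⟨j, Nat.pos_of_ne_zero fun h0 => ?_, ?_, hj, ?_⟩
  · obtain ⟨v, hvT, hv⟩ := B.exists_fix_ne_one T
    rw [h0, pow_zero, Subgroup.card_eq_one] at hj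
    exact hv (mem_bot.mp (hj ▸ hvT))
  · have h := (fixedPts V T).card_le_card_group
    rw [hj, hV] at h
    refine lt_of_le_of_ne ((Nat.pow_le_pow_iff_right (by omega)).mp h) fun h1 => ?_
    exact B.fixedPts_ne_top T (Subgroup.eq_top_of_card_eq _ (by rw [hj, hV, h1]))
  · rw [← hj, ← hV]
    exact B.card_equation T

/-- The centraliser of a real element of odd prime power order, acting on `V`. -/
theorem index_cent_stabilizer {x : Γ} (hx : RealPP x) {v : V} (hv : v ≠ 1) :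
    (stabilizer (centralizer ({x} : Set Γ)) v).index = (stabilizer Γ v).index := by
  rw [index_stabilizer, index_stabilizer]
  congr 1
  refine Set.Subset.antisymm ?_ ?_
  · rintro _ ⟨h, rfl⟩
    exact ⟨(h : Γ), rfl⟩
  · rintro _ ⟨g, rfl⟩
    obtain ⟨c, hc, he⟩ := B.hyp.exists_cent hx hv g
    exact ⟨⟨c, hc⟩, he⟩

theorem false_of_primitive {D r : ℕ} (hV : Nat.card V = 2 ^ D) (hD : 1 < D) (hr : r.Prime)
    (hrD : r ∣ 2 ^ D - 1) (hprim : ∀ k : ℕ, 0 < k → k < D → ¬ r ∣ 2 ^ k - 1) : False := by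
  haveI : Fact r.Prime := ⟨hr⟩
  haveI : Fact (Nat.Prime 2) := ⟨Nat.prime_two⟩
  haveI := B.nontrivial_module
  have hr2 : r ≠ 2 := by
    rintro rfl
    have : 2 ∣ 2 ^ D := dvd_pow_self 2 (by omega)
    have := Nat.one_le_two_pow (n := D)
    omega
  obtain ⟨v₀, hv₀⟩ := B.exists_ne_one
  obtain ⟨T₀, -⟩ := B.exists_sylow_fix v₀
  obtain ⟨j, hj0, hjD, -, heq⟩ := B.exists_fibre_exp hV T₀
  have hrn : r ∣ Nat.card (Sylow 2 Γ) := by
    rw [← heq] at hrD
    exact (hr.dvd_mul.mp hrD).resolve_right (hprim j hj0 hjD)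
  have hrv : ∀ v : V, v ≠ 1 → r ∣ (stabilizer Γ v).index := fun v hv =>
    hrn.trans (B.card_sylow_dvd hv)
  have hsyl : ∀ x : Γ, RealPP x → ∃ S : Sylow r Γ, (S : Subgroup Γ) ≤ centralizer {x} :=
    fun x hx => exists_sylow_le r fun h =>
      hr.not_dvd_one ((B.hyp.coprime x hx v₀ hv₀) ▸ Nat.dvd_gcd h (hrv v₀ hv₀))
  obtain ⟨x₀, hx₀⟩ := B.exists_realPP
  obtain ⟨R, hR⟩ := hsyl x₀ hx₀
  -- a central element of order `r` of the Sylow subgroup
  obtain ⟨y, hyR, hyo, hyc⟩ : ∃ y ∈ (R : Subgroup Γ), orderOf y = r ∧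
      ∀ u ∈ (R : Subgroup Γ), u * y = y * u := by
    have hne : (R : Subgroup Γ) ≠ ⊥ :=
      R.ne_bot_of_dvd_card ((hrv v₀ hv₀).trans (index_dvd_card _))
    haveI : Nontrivial (R : Subgroup Γ) := (nontrivial_iff_ne_bot _).mpr hne
    haveI := R.2.center_nontrivial
    obtain ⟨k, hk⟩ := IsPGroup.iff_card.mp (R.2.to_subgroup (Subgroup.center (R : Subgroup Γ)))
    have hd : r ∣ Nat.card (Subgroup.center (R : Subgroup Γ)) := by
      rw [hk]
      refine dvd_pow_self r fun h0 => ?_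
      rw [h0, pow_zero] at hk
      exact (Finite.one_lt_card_iff_nontrivial.mpr inferInstance).ne' hk
    obtain ⟨c, hc⟩ := exists_prime_orderOf_dvd_card' r hd
    refine ⟨((c : (R : Subgroup Γ)) : Γ), (c : (R : Subgroup Γ)).2, ?_, fun u hu => ?_⟩
    · rw [Subgroup.orderOf_coe, Subgroup.orderOf_coe, hc]
    · exact congrArg Subtype.val (mem_center_iff.mp c.2 ⟨u, hu⟩)
  obtain ⟨hirr, hfpf⟩ := irred_of_primitive B.hyp.exp2 hV hr hyo hrD hprim
  set A := centralizer ({y} : Set Γ) with hA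
  haveI hAc : IsCyclic A := isCyclic_centralizer B.hyp.exp2 hirr
  have hAfree : ∀ {v : V}, v ≠ 1 → ∀ a ∈ A, a • v = v → a = 1 := fun hv a ha h =>
    hirr.eq_one_of_commute (mem_centralizer_singleton_iff.mp ha) hv h
  have hRA : (R : Subgroup Γ) ≤ A := fun u hu => mem_centralizer_singleton_iff.mpr (hyc u hu)
  have hyA : y ∈ A := mem_centralizer_singleton_iff.mpr rfl
  have hcomm : ∀ a ∈ A, ∀ b ∈ A, a * b = b * a := by
    intro a ha b hb
    obtain ⟨z, hz⟩ := hAc.exists_generator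
    obtain ⟨i, hi⟩ := hz ⟨a, ha⟩
    obtain ⟨k, hk⟩ := hz ⟨b, hb⟩
    have := congrArg Subtype.val (((Commute.refl z).zpow_left i).zpow_right k).eq
    simpa [hi, hk] using this
  have hx₀A : x₀ ∈ A :=
    mem_centralizer_singleton_iff.mpr (mem_centralizer_singleton_iff.mp (hR hyR)).symm
  -- `y` is real
  have hyreal : RealPP y := by
    refine ⟨?_, fun h => ?_, r, 1, hr, hr2, by rw [pow_one, hyo]⟩
    · obtain ⟨t, ht⟩ := isConj_iff.mp hx₀.1
      have hu : t * y * t⁻¹ ∈ centralizer ({x₀} : Set Γ) := by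
        rw [mem_cent]
        have h1 : y * x₀⁻¹ * y⁻¹ = x₀⁻¹ := by
          rw [show y * x₀⁻¹ * y⁻¹ = (y * x₀ * y⁻¹)⁻¹ by group, mem_cent.mp (hR hyR)]
        calc t * y * t⁻¹ * x₀ * (t * y * t⁻¹)⁻¹
            = t * (y * (t⁻¹ * x₀ * t) * y⁻¹) * t⁻¹ := by group
          _ = t * (y * x₀⁻¹ * y⁻¹) * t⁻¹ := by
              rw [show t⁻¹ * x₀ * t = x₀⁻¹ by
                calc t⁻¹ * x₀ * t = (t⁻¹ * x₀⁻¹ * t)⁻¹ := by group
                  _ = (t⁻¹ * (t * x₀ * t⁻¹) * t)⁻¹ := by rw [ht]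
                  _ = x₀⁻¹ := by group]
          _ = (t * x₀ * t⁻¹)⁻¹ := by rw [h1]; group
          _ = x₀ := by rw [ht, inv_inv]
      have huo : orderOf (t * y * t⁻¹) = r := by
        rw [← MulAut.conj_apply, MulEquiv.orderOf_eq, hyo]
      obtain ⟨c, hc, hcu⟩ := conj_into hR hu ⟨1, by rw [huo, pow_one]⟩
      have hmem : c * t * y * (c * t)⁻¹ ∈ zpowers y := by
        have e : c * t * y * (c * t)⁻¹ = c * (t * y * t⁻¹) * c⁻¹ := by group
        rw [e]
        refine mem_zpowers_of_cyclic hyA (hRA hcu) ?_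
        rw [conj_pow, hyo, ← huo, pow_orderOf_eq_one, mul_one, mul_inv_cancel]
      have hct : c * t * x₀ * (c * t)⁻¹ = x₀⁻¹ := by
        calc c * t * x₀ * (c * t)⁻¹ = c * (t * x₀ * t⁻¹) * c⁻¹ := by group
          _ = (c * x₀ * c⁻¹)⁻¹ := by rw [ht]; group
          _ = x₀⁻¹ := by rw [mem_cent.mp hc]
      have hne : x₀⁻¹ ≠ x₀ := fun h => hx₀.2.1 (eq_one_of_odd_of_sq hx₀.odd
        (mul_eq_one_iff_eq_inv.mpr h.symm))
      obtain ⟨s, hs⟩ := exists_inverts (hyo ▸ hr) hmem hct hne fun a ha =>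
        hcomm a (mem_centralizer_singleton_iff.mpr ha) x₀ hx₀A
      exact isConj_iff.mpr ⟨s, hs⟩
    · rw [h, orderOf_one] at hyo
      exact hr.one_lt.ne hyo
  have hnv : ∀ v : V, v ≠ 1 → (stabilizer Γ v).index = Nat.card A := fun v hv =>
    index_stabilizer_eq_card A v (fun g => B.hyp.exists_cent hyreal hv g) (hAfree hv)
  have hcop : (csize y).Coprime (Nat.card A) := hnv v₀ hv₀ ▸ B.hyp.coprime y hyreal v₀ hv₀
  -- every real element of odd prime power order is conjugate into `A`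
  have hintoA : ∀ x : Γ, RealPP x → ∃ g : Γ, g * x * g⁻¹ ∈ A := by
    intro x hx
    obtain ⟨S, hS⟩ := hsyl x hx
    obtain ⟨g, hg⟩ := MulAction.exists_smul_eq Γ R S
    refine ⟨g⁻¹, mem_centralizer_singleton_iff.mpr ?_⟩
    have h1 : g * y * g⁻¹ ∈ (S : Subgroup Γ) := by
      rw [← hg, Sylow.coe_subgroup_smul]; exact ⟨y, hyR, rfl⟩
    have h2 : g * y * g⁻¹ * x = x * (g * y * g⁻¹) := mem_centralizer_singleton_iff.mp (hS h1)
    calc g⁻¹ * x * g⁻¹⁻¹ * y = g⁻¹ * (x * (g * y * g⁻¹)) * g := by group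
      _ = y * (g⁻¹ * x * g⁻¹⁻¹) := by rw [← h2]; group
  have h2 := B.two_trans_of_cyclic A (B.exists_cent_sylow hyreal)
  refine B.false_of_unique_fixed (B.unique_fixed h2 ?_)
  intro x z d hx hz hd hzx hdx hdz
  by_contra hd1
  obtain ⟨g, hg⟩ := hintoA x hx
  -- the conjugate of `y` centralising `x`
  set y' := g⁻¹ * y * g with hy'
  set A' := centralizer ({y'} : Set Γ) with hA'
  have hconjA : ∀ a, a ∈ A' ↔ g * a * g⁻¹ ∈ A := by
    intro a
    rw [mem_cent, mem_cent, hy']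
    constructor <;> intro h
    · calc g * a * g⁻¹ * y * (g * a * g⁻¹)⁻¹ = g * (a * (g⁻¹ * y * g) * a⁻¹) * g⁻¹ := by group
        _ = y := by rw [h]; group
    · calc a * (g⁻¹ * y * g) * a⁻¹ = g⁻¹ * (g * a * g⁻¹ * y * (g * a * g⁻¹)⁻¹) * g := by group
        _ = g⁻¹ * y * g := by rw [h]
  have hA'comm : ∀ a ∈ A', ∀ b ∈ A', a * b = b * a := by
    intro a ha b hb
    have h := hcomm _ ((hconjA a).mp ha) _ ((hconjA b).mp hb)
    calc a * b = g⁻¹ * (g * a * g⁻¹ * (g * b * g⁻¹)) * g := by group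
      _ = b * a := by rw [h]; group
  have hxA' : x ∈ A' := (hconjA x).mpr hg
  set H := centralizer ({x} : Set Γ) with hH
  have hA'H : A' ≤ H := fun a ha =>
    mem_centralizer_singleton_iff.mpr (hA'comm a ha x hxA')
  have hA'idx : A'.index = csize y := by
    show csize y' = csize y
    rw [hy', show g⁻¹ * y * g = g⁻¹ * y * g⁻¹⁻¹ by group, csize_conj]
  have hA'odd : ∀ a ∈ A', Odd (orderOf a) := by
    intro a ha
    have hoddA : Odd (Nat.card A) := by
      rw [← hnv v₀ hv₀]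
      exact Nat.not_even_iff_odd.mp fun h => B.hyp.oddIndex v₀ (even_iff_two_dvd.mp h)
    rw [← MulEquiv.orderOf_eq (MulAut.conj g) a]
    exact hoddA.of_dvd_nat (Subgroup.orderOf_dvd_natCard _ ((hconjA a).mp ha))
  have hHtop : H ≠ ⊤ := fun h => realPP_not_mem_center hx (csize_eq_one_iff.mp (by
    rw [csize, ← hH, h, index_top]))
  -- `H` inherits the hypotheses
  have hHhyp : ModHyp H V := by
    refine ⟨B.hyp.exp2, fun v => ?_, B.hyp.noReal_subgroup H, fun x' hx' v hv => ?_⟩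
    · rcases eq_or_ne v 1 with rfl | hv
      · rw [show stabilizer H (1 : V) = ⊤ from eq_top_iff.mpr fun a _ =>
          mem_stabilizer_iff.mpr (smul_one a), index_top]
        decide
      · rw [B.index_cent_stabilizer hx hv]
        exact B.hyp.oddIndex v
    · rw [B.index_cent_stabilizer hx hv, hnv v hv]
      obtain ⟨g₂, hg₂⟩ := hintoA _ (realPP_coe hx')
      obtain ⟨-, hx'1, q, k, hq, hq2, hqo⟩ := hx'
      haveI : Fact q.Prime := ⟨hq⟩
      have hk0 : k ≠ 0 := fun h0 => hx'1 (orderOf_eq_one_iff.mp (by rw [hqo, h0, pow_zero]))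
      have hqA : q ∣ Nat.card A := by
        have h := Subgroup.orderOf_dvd_natCard _ hg₂
        rw [← MulAut.conj_apply, MulEquiv.orderOf_eq, Subgroup.orderOf_coe, hqo] at h
        exact (dvd_pow_self q hk0).trans h
      obtain ⟨S, hS⟩ := exists_sylow_le q (H := A') fun h =>
        hq.not_dvd_one (hcop ▸ Nat.dvd_gcd (hA'idx ▸ h) hqA)
      obtain ⟨c, hc, hcx⟩ := conj_into (hS.trans hA'H) x'.2
        ⟨k, by rw [Subgroup.orderOf_coe, hqo]⟩
      rw [← csize_conj (⟨c, hc⟩ : H) x']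
      refine hcop.coprime_dvd_left ?_
      rw [← hA'idx]
      have hle : A'.subgroupOf H ≤ centralizer ({(⟨c, hc⟩ : H) * x' * (⟨c, hc⟩ : H)⁻¹} : Set H) :=
        fun a ha => mem_centralizer_singleton_iff.mpr
          (Subtype.ext (hA'comm _ (mem_subgroupOf.mp ha) _ (hS hcx)))
      exact (index_dvd_of_le hle).trans (relIndex_dvd_index_of_le hA'H)
  haveI := B.ih H hHtop hHhyp
  -- `A'` is normal in `H`
  have hnorm : (A'.subgroupOf H).Normal := by
    set A₁ := A'.subgroupOf H with hA₁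
    have hA₁F : Cfsg.fittingSubgroup H ≤ A₁ := by
      rw [Components.fittingSubgroup_eq_iSup_pCore]
      refine iSup_le fun p => ?_
      haveI : Fact (p : ℕ).Prime := ⟨Nat.prime_of_mem_primeFactors p.2⟩
      by_cases hp : (p : ℕ) ∣ Nat.card A
      · have hnd : ¬ (p : ℕ) ∣ A₁.index := fun h =>
          (Fact.out : (p : ℕ).Prime).not_dvd_one (hcop ▸ Nat.dvd_gcd
            (hA'idx ▸ h.trans (relIndex_dvd_index_of_le hA'H)) hp)
        obtain ⟨S, hS⟩ := exists_sylow_le (p : ℕ) hnd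
        refine le_trans ?_ hS
        rw [← S.3 ((PCore.isPGroup_pCore (p := (p : ℕ)) (G := H)).to_sup_of_normal_left S.2)
          le_sup_right]
        exact le_sup_left
      · obtain ⟨k, hk⟩ := PCore.exists_card_pCore (G := H) (p := (p : ℕ))
        intro q hq
        have : q = 1 := eq_of_smul_eq_smul (α := V) fun v => by
          rcases eq_or_ne v 1 with rfl | hv
          · rw [smul_one, smul_one]
          · rw [one_smul]
            refine smul_eq_of_normal_coprime (Cfsg.pCore (p : ℕ) H) ?_ hq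
            rw [B.index_cent_stabilizer hx hv, hnv v hv, hk]
            exact Nat.Coprime.pow_left k ((Fact.out : (p : ℕ).Prime).coprime_iff_not_dvd.2 hp)
        rw [this]; exact one_mem _
    have hle : A₁ ≤ Cfsg.fittingSubgroup H := fun a ha =>
      Components.centralizer_fittingSubgroup_le (mem_centralizer_iff.mpr fun f hf =>
        Subtype.ext (hA'comm _ (mem_subgroupOf.mp (hA₁F hf)) _ (mem_subgroupOf.mp ha)))
    rw [le_antisymm hle hA₁F]
    infer_instance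
  -- so both involutions normalise `⟨y'⟩`
  have hy'o : orderOf y' = r := by
    rw [hy', show g⁻¹ * y * g = g⁻¹ * y * g⁻¹⁻¹ by group, ← MulAut.conj_apply,
      MulEquiv.orderOf_eq, hyo]
  have hy'A : y' ∈ A' := mem_centralizer_singleton_iff.mpr rfl
  have hrA : r ∣ Nat.card A := hyo ▸ Subgroup.orderOf_dvd_natCard _ hyA
  haveI : IsCyclic A' := by
    let e : A →* A' := ((MulAut.conj g⁻¹).toMonoidHom.comp A.subtype).codRestrict A' fun a =>
      (hconjA _).mpr (by
        show g * (g⁻¹ * (a : Γ) * g⁻¹⁻¹) * g⁻¹ ∈ A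
        rw [show g * (g⁻¹ * (a : Γ) * g⁻¹⁻¹) * g⁻¹ = a by group]; exact a.2)
    refine isCyclic_of_surjective e fun a => ⟨⟨g * a * g⁻¹, (hconjA a).mp a.2⟩, Subtype.ext ?_⟩
    show g⁻¹ * (g * (a : Γ) * g⁻¹) * g⁻¹⁻¹ = a
    group
  obtain ⟨S, hS⟩ := exists_sylow_le r (H := A') fun h =>
    hr.not_dvd_one (hcop ▸ Nat.dvd_gcd (hA'idx ▸ h) hrA)
  have hmem : ∀ u ∈ H, orderOf u = r → u ∈ zpowers y' := by
    intro u hu huo
    obtain ⟨c, hc, hcu⟩ := conj_into (hS.trans hA'H) hu ⟨1, by rw [huo, pow_one]⟩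
    have h1 := hnorm.conj_mem (⟨c * u * c⁻¹, mul_mem (mul_mem hc hu) (inv_mem hc)⟩ : H)
      (mem_subgroupOf.mpr (hS hcu)) (⟨c, hc⟩ : H)⁻¹
    have h2 : u ∈ A' := by
      have h3 := mem_subgroupOf.mp h1
      simp only [inv_inv, Subgroup.coe_mul, InvMemClass.coe_inv] at h3
      rwa [show c⁻¹ * (c * u * c⁻¹) * c = u by group] at h3
    exact mem_zpowers_of_cyclic hy'A h2 (by rw [hy'o, ← huo, pow_orderOf_eq_one])
  have hy'x : y' * x * y'⁻¹ = x := mem_cent.mp (hA'H hy'A)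
  have hcase : ∀ t : Γ, t * t = 1 → (t * x * t⁻¹ = x ∨ t * x * t⁻¹ = x⁻¹) →
      t * y' * t⁻¹ = y' ∨ t * y' * t⁻¹ = y'⁻¹ := by
    intro t ht htx
    refine fix_or_invert (hy'o ▸ hr) (hmem _ ?_ ?_) (by rw [ht]; group)
    · rw [hH, mem_cent]
      have e : t * y' * t⁻¹ * x * (t * y' * t⁻¹)⁻¹ = t * (y' * (t⁻¹ * x * t) * y'⁻¹) * t⁻¹ := by
        group
      have ht' : t⁻¹ = t := inv_eq_of_mul_eq_one_right ht
      rcases htx with h | h
      · rw [e, ht', show t * x * t = x by rwa [ht'] at h, hy'x]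
        rwa [ht'] at h
      · rw [e, ht', show t * x * t = x⁻¹ by rwa [ht'] at h,
          show y' * x⁻¹ * y'⁻¹ = (y' * x * y'⁻¹)⁻¹ by group, hy'x,
          show t * x⁻¹ * t = (t⁻¹ * x * t⁻¹)⁻¹ by group, ht',
          show t * x * t = x⁻¹ by rwa [ht'] at h, inv_inv]
    · rw [← MulAut.conj_apply, MulEquiv.orderOf_eq, hy'o]
  have hdA : d ∉ A' := fun h => hd1 (eq_one_of_odd_of_sq (hA'odd d h) hd)
  have hxne : x⁻¹ ≠ x := fun h => hx.2.1 (eq_one_of_odd_of_sq hx.odd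
    (mul_eq_one_iff_eq_inv.mpr h.symm))
  have hzA : z ∉ A' := fun h => hxne (by
    rw [← hzx, mem_cent.mp (hA'H h)])
  have hd' := (hcase d hd (Or.inl (mul_inv_eq_iff_eq_mul.mpr hdx))).resolve_left
    fun h => hdA (mem_cent.mpr h)
  have hz' := (hcase z hz (Or.inr hzx)).resolve_left fun h => hzA (mem_cent.mpr h)
  have hdzA : d * z ∈ A' := by
    rw [mem_cent]
    calc d * z * y' * (d * z)⁻¹ = d * (z * y' * z⁻¹) * d⁻¹ := by group
      _ = (d * y' * d⁻¹)⁻¹ := by rw [hz']; group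
      _ = y' := by rw [hd', inv_inv]
  have hdz1 : d * z = 1 := by
    refine eq_one_of_odd_of_sq (hA'odd _ hdzA) ?_
    rw [mul_assoc, ← mul_assoc z, ← hdz, mul_assoc d z z, hz, mul_one, hd]
  have hdeq : d = z := by
    rw [eq_inv_of_mul_eq_one_left hdz1, inv_eq_of_mul_eq_one_right hz]
  refine hxne ?_
  rw [← hzx, ← hdeq, hdx, mul_inv_cancel_right]

theorem false_of_dim_ne_six {D : ℕ} (hV : Nat.card V = 2 ^ D) (hD : D ≠ 6) : False := by
  haveI := B.nontrivial_module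
  obtain ⟨v, hv⟩ := B.exists_ne_one
  obtain ⟨T, -⟩ := B.exists_sylow_fix v
  obtain ⟨j, hj0, hjD, -, -⟩ := B.exists_fibre_exp hV T
  obtain ⟨r, hr, h1, h2⟩ := Zsigmondy.exists_primitive_prime_divisor 2 D one_lt_two (by omega)
    (fun h => hD h.2) fun h => by
      obtain ⟨-, m, hm⟩ := h
      rcases m with _ | m
      · omega
      · rw [pow_succ] at hm; omega
  exact B.false_of_primitive hV (by omega) hr h1 h2

end MinBad

end Cfsg.Agent.RealGraph
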