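import Cfsg.Agent.Lib.RealGraph.Basic
import Cfsg.Agent.Lib.PCore.Basic
import Cfsg.Agent.Lib.Components.Fitting

/-!
A group acting faithfully on a group of exponent two with two-closed point stabilisers of odd index
and with coprimality between real classes and orbits: properties of a minimal non-solvable one.
-/

set_option autoImplicit false
set_option linter.unusedSectionVars false

namespace Cfsg.Agent.RealGraph

open Subgroup MulAction
open scoped Pointwise

variable (Γ V : Type*) [Group Γ] [Group V] [MulDistribMulAction Γ V]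

/-- The hypotheses on the action. -/
structure ModHyp : Prop where
  exp2 : ∀ v : V, v * v = 1
  oddIndex : ∀ v : V, ¬ 2 ∣ (stabilizer Γ v).index
  noReal : ∀ v : V, v ≠ 1 → NoRealOdd (stabilizer Γ v)
  coprime : ∀ x : Γ, RealPP x → ∀ v : V, v ≠ 1 → (csize x).Coprime (stabilizer Γ v).index

/-- A minimal non-solvable example. -/
structure MinBad : Prop where
  hyp : ModHyp Γ V
  nonsolv : ¬ Group.IsSolvable Γ
  ih : ∀ H : Subgroup Γ, H ≠ ⊤ → ModHyp H V → Group.IsSolvable H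

variable {Γ V}

theorem realPP_coe {H : Subgroup Γ} {x : H} (hx : RealPP x) : RealPP (x : Γ) := by
  obtain ⟨hc, h1, q, k, hq, hq2, ho⟩ := hx
  obtain ⟨t, ht⟩ := isConj_iff.mp hc
  exact ⟨isConj_iff.mpr ⟨t, by simpa using congrArg Subtype.val ht⟩, fun h => h1 (Subtype.ext h),
    q, k, hq, hq2, by rw [Subgroup.orderOf_coe]; exact ho⟩

theorem stabilizer_subgroupOf (H : Subgroup Γ) (v : V) :
    stabilizer H v = (stabilizer Γ v).subgroupOf H := by
  ext h
  rw [mem_subgroupOf, mem_stabilizer_iff, mem_stabilizer_iff]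
  rfl

/-- The noReal condition passes to subgroups. -/
theorem ModHyp.noReal_subgroup (h : ModHyp Γ V) (H : Subgroup Γ) (v : V) (hv : v ≠ 1) :
    NoRealOdd (stabilizer H v) := by
  intro x hx ho
  let f : stabilizer H v →* stabilizer Γ v :=
    (H.subtype.comp (stabilizer H v).subtype).codRestrict _ fun y => y.2
  have hf : Function.Injective f := fun a b hab =>
    Subtype.ext (Subtype.ext (congrArg Subtype.val hab :))
  obtain ⟨t, ht⟩ := isConj_iff.mp hx
  refine hf ?_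
  rw [map_one]
  exact h.noReal v hv (f x) (isConj_iff.mpr ⟨f t, by rw [← map_inv, ← map_mul, ← map_mul, ht,
    map_inv]⟩) (by rwa [orderOf_injective f hf x])

theorem mul_cases_two {a b : ℕ} (ha : ∀ p, p.Prime → p ∣ a → p = 2) (hb : ¬ 2 ∣ b) :
    a.Coprime b := by
  refine Nat.coprime_of_dvd fun p hp h1 h2 => ?_
  exact hb (ha p hp h1 ▸ h2)

variable [Finite Γ]

theorem ModHyp.normal (h : ModHyp Γ V) (N : Subgroup Γ) [N.Normal] : ModHyp N V where
  exp2 := h.exp2
  oddIndex v hd := h.oddIndex v (by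
    rw [stabilizer_subgroupOf] at hd
    exact hd.trans (relIndex_dvd_index _))
  noReal := h.noReal_subgroup N
  coprime x hx v hv := by
    rw [stabilizer_subgroupOf]
    exact ((h.coprime _ (realPP_coe hx) v hv).coprime_dvd_left (csize_subgroup_dvd x)).coprime_dvd_right
      (relIndex_dvd_index _)

/-- The centraliser of a real element is transitive on each orbit. -/
theorem ModHyp.exists_cent (h : ModHyp Γ V) {x : Γ} (hx : RealPP x) {v : V} (hv : v ≠ 1) (g : Γ) :
    ∃ c ∈ centralizer ({x} : Set Γ), c • v = g • v := by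
  obtain ⟨c, hc, d, hd, e⟩ := exists_mul_of_coprime_index (h.coprime x hx v hv) g
  exact ⟨c, hc, by rw [e, mul_smul, mem_stabilizer_iff.mp hd]⟩

theorem eq_of_sylow_le (S : Sylow 2 Γ) {P : Subgroup Γ} (hP : IsPGroup 2 P)
    (hle : (S : Subgroup Γ) ≤ P) : P = S := S.3 hP hle

theorem noRealOdd_sylow_unique {H : Subgroup Γ} (h : NoRealOdd H) {S T : Sylow 2 Γ}
    (hS : (S : Subgroup Γ) ≤ H) (hT : (T : Subgroup Γ) ≤ H) : S = T := by
  haveI : Fact (Nat.Prime 2) := ⟨Nat.prime_two⟩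
  obtain ⟨K, hKn, hK, hKi⟩ := RealTwoPart.exists_normal_two_subgroup h
  have key : ∀ U : Sylow 2 Γ, (U : Subgroup Γ) ≤ H → K.map H.subtype = U := by
    intro U hU
    have hle : (U : Subgroup Γ).subgroupOf H ≤ K := by
      intro u hu
      rw [← QuotientGroup.eq_one_iff (N := K), ← orderOf_eq_one_iff]
      obtain ⟨k, hk⟩ := IsPGroup.iff_orderOf.mp U.2 (⟨(u : Γ), mem_subgroupOf.mp hu⟩ : (U : Subgroup Γ))
      rw [Subgroup.orderOf_mk, Subgroup.orderOf_coe] at hk
      refine Nat.eq_one_of_dvd_coprimes (a := 2 ^ k) (b := K.index) ?_ ?_ ?_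
      · exact Nat.Coprime.pow_left k (Nat.prime_two.coprime_iff_not_dvd.2 hKi)
      · exact hk ▸ orderOf_map_dvd (QuotientGroup.mk' K) u
      · exact (_root_.orderOf_dvd_natCard _).trans (dvd_of_eq (index_eq_card K).symm)
    refine eq_of_sylow_le U (hK.map _) fun u hu => ⟨⟨u, hU hu⟩, hle hu, rfl⟩
  exact Sylow.ext ((key S hS).symm.trans (key T hT))

theorem exists_normal_eq_sylow (h : NoRealOdd Γ) : ∀ S T : Sylow 2 Γ, S = T := fun S T =>
  noRealOdd_sylow_unique (H := ⊤) (fun x hx ho => by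
    obtain ⟨t, ht⟩ := isConj_iff.mp hx
    exact Subtype.ext (h x (isConj_iff.mpr ⟨t, by simpa using congrArg Subtype.val ht⟩)
      (by rwa [Subgroup.orderOf_coe]))) le_top le_top

/-- An element of 2-power order fixing a Sylow subgroup lies in it. -/
theorem mem_of_smul_eq {T : Sylow 2 Γ} {s : Γ} (hs : ∃ k : ℕ, orderOf s = 2 ^ k)
    (h : s • T = T) : s ∈ (T : Subgroup Γ) := by
  obtain ⟨k, hk⟩ := hs
  have hp : IsPGroup 2 (zpowers s) := IsPGroup.of_card (n := k) (by rw [Nat.card_zpowers, hk])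
  have hn : zpowers s ≤ normalizer ((T : Subgroup Γ) : Set Γ) := by
    rw [zpowers_le]; exact Sylow.smul_eq_iff_mem_normalizer.mp h
  rw [← eq_of_sylow_le T (hp.to_sup_of_normal_right' T.2 hn) le_sup_right]
  exact mem_sup_left (mem_zpowers s)

theorem smul_eq_of_mem {T : Sylow 2 Γ} {s : Γ} (h : s ∈ (T : Subgroup Γ)) : s • T = T :=
  Sylow.smul_eq_iff_mem_normalizer.mpr (le_normalizer h)

theorem invol_two_power {z : Γ} (hz : z * z = 1) : ∃ k : ℕ, orderOf z = 2 ^ k := by
  obtain ⟨k, -, hk⟩ := (Nat.dvd_prime_pow Nat.prime_two).mp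
    (show orderOf z ∣ 2 ^ 1 from orderOf_dvd_of_pow_eq_one (by rw [pow_one, pow_two, hz]))
  exact ⟨k, hk⟩

variable (V) in
/-- The fixed points of a Sylow subgroup. -/
def fixedPts (T : Sylow 2 Γ) : Subgroup V where
  carrier := {v | ∀ t ∈ (T : Subgroup Γ), t • v = v}
  one_mem' := fun t _ => smul_one t
  mul_mem' := fun {a b} ha hb t ht => by rw [smul_mul', ha t ht, hb t ht]
  inv_mem' := fun {a} ha t ht => by rw [smul_inv', ha t ht]

theorem mem_fixedPts {T : Sylow 2 Γ} {v : V} :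
    v ∈ fixedPts V T ↔ ∀ t ∈ (T : Subgroup Γ), t • v = v := Iff.rfl

theorem smul_mem_fixedPts {T : Sylow 2 Γ} {v : V} (hv : v ∈ fixedPts V T) (g : Γ) :
    g • v ∈ fixedPts V (g • T) := by
  intro t ht
  rw [Sylow.coe_subgroup_smul, Subgroup.mem_pointwise_smul_iff_inv_smul_mem] at ht
  have h1 := hv _ ht
  rw [MulAut.smul_def, MulAut.conj_inv_apply, mul_smul, mul_smul, inv_smul_eq_iff] at h1
  exact h1

/-- A normal subgroup of order prime to an orbit fixes it pointwise. -/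
theorem smul_eq_of_normal_coprime (N : Subgroup Γ) [N.Normal] {v : V}
    (hc : (Nat.card N).Coprime (stabilizer Γ v).index) {q : Γ} (hq : q ∈ N) : q • v = v := by
  have h1 : (stabilizer Γ v).relIndex N = 1 :=
    Nat.eq_one_of_dvd_coprimes hc (index_dvd_card _) (relIndex_dvd_index _)
  exact mem_stabilizer_iff.mp (relIndex_eq_one.mp h1 hq)

namespace MinBad

variable [FaithfulSMul Γ V] (B : MinBad Γ V)
include B

theorem exists_ne_one : ∃ v : V, v ≠ 1 := by
  by_contra h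
  push Not at h
  refine B.nonsolv (Group.isSolvable_of_comm fun a b => ?_)
  exact eq_of_smul_eq_smul (α := V) fun v => by rw [h v, smul_one, smul_one]

theorem exists_realPP : ∃ x : Γ, RealPP x := by
  by_contra h
  push Not at h
  exact B.nonsolv (isSolvable_of_noRealOdd (noRealOdd_of_forall h))

theorem isSolvable_of_normal (N : Subgroup Γ) [N.Normal] (hN : N ≠ ⊤) : Group.IsSolvable N :=
  B.ih N hN (B.hyp.normal N)

theorem eq_one_of_fix {q : Γ} (h : ∀ v : V, v ≠ 1 → q • v = v) : q = 1 :=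
  eq_of_smul_eq_smul (α := V) fun v => by
    rcases eq_or_ne v 1 with rfl | hv
    · rw [smul_one, smul_one]
    · rw [h v hv, one_smul]

theorem pCore_two : Cfsg.pCore 2 Γ = ⊥ := by
  haveI : Fact (Nat.Prime 2) := ⟨Nat.prime_two⟩
  rw [eq_bot_iff]
  intro q hq
  rw [mem_bot]
  obtain ⟨k, hk⟩ := PCore.exists_card_pCore (G := Γ) (p := 2)
  refine B.eq_one_of_fix fun v _ => smul_eq_of_normal_coprime (Cfsg.pCore 2 Γ) ?_ hq
  rw [hk]
  exact Nat.Coprime.pow_left k (Nat.prime_two.coprime_iff_not_dvd.2 (B.hyp.oddIndex v))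

omit [FaithfulSMul Γ V] B in
theorem realPP_not_mem_center {x : Γ} (hx : RealPP x) : x ∉ Subgroup.center Γ := by
  intro hc
  obtain ⟨t, ht⟩ := isConj_iff.mp hx.1
  rw [mem_center_iff.mp hc t, mul_inv_cancel_right] at ht
  exact hx.2.1 (eq_one_of_odd_of_sq hx.odd (mul_eq_one_iff_eq_inv.mpr ht))

theorem pCore_le_center {p : ℕ} (hp : p.Prime) : Cfsg.pCore p Γ ≤ Subgroup.center Γ := by
  haveI : Fact p.Prime := ⟨hp⟩
  obtain ⟨k, hk⟩ := PCore.exists_card_pCore (G := Γ) (p := p)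
  by_cases hall : ∀ v : V, v ≠ 1 → ¬ p ∣ (stabilizer Γ v).index
  · intro q hq
    have : q = 1 := B.eq_one_of_fix fun v hv => smul_eq_of_normal_coprime (Cfsg.pCore p Γ)
      (by rw [hk]; exact Nat.Coprime.pow_left k (hp.coprime_iff_not_dvd.2 (hall v hv))) hq
    rw [this]; exact one_mem _
  push Not at hall
  obtain ⟨v, hv, hpv⟩ := hall
  have hreal : ∀ x : Γ, RealPP x → x ∈ centralizer (Cfsg.pCore p Γ : Set Γ) := by
    intro x hx
    have hnd : ¬ p ∣ csize x := fun h =>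
      hp.not_dvd_one ((B.hyp.coprime x hx v hv) ▸ Nat.dvd_gcd h hpv)
    obtain ⟨S, hS⟩ := exists_sylow_le p hnd
    have hle : Cfsg.pCore p Γ ≤ (S : Subgroup Γ) := by
      rw [← S.3 ((PCore.isPGroup_pCore (p := p) (G := Γ)).to_sup_of_normal_left S.2) le_sup_right]
      exact le_sup_left
    exact mem_centralizer_iff.mpr fun q hq => mem_centralizer_singleton_iff.mp (hS (hle hq))
  haveI : (centralizer (Cfsg.pCore p Γ : Set Γ)).Normal := inferInstance
  by_cases htop : centralizer (Cfsg.pCore p Γ : Set Γ) = ⊤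
  · intro q hq
    rw [mem_center_iff]
    intro g
    have hg : g ∈ centralizer (Cfsg.pCore p Γ : Set Γ) := htop ▸ mem_top g
    exact (mem_centralizer_iff.mp hg q hq).symm
  · haveI := B.isSolvable_of_normal _ htop
    exact absurd (isSolvable_of_realPP_mem hreal) B.nonsolv

theorem le_center_of_normal (N : Subgroup Γ) [hNn : N.Normal] (hN : N ≠ ⊤) :
    N ≤ Subgroup.center Γ := by
  haveI := B.isSolvable_of_normal N hN
  have hF : Cfsg.fittingSubgroup N ≤ (Subgroup.center Γ).comap N.subtype := by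
    rw [Components.fittingSubgroup_eq_iSup_pCore]
    refine iSup_le fun p => ?_
    rw [← map_le_iff_le_comap, PCore.map_pCore_subtype_of_normal]
    exact inf_le_left.trans (B.pCore_le_center (Nat.prime_of_mem_primeFactors p.2))
  intro n hn
  have hc : (⟨n, hn⟩ : N) ∈ centralizer (Cfsg.fittingSubgroup N : Set N) :=
    mem_centralizer_iff.mpr fun f hf => Subtype.ext ((mem_center_iff.mp (hF hf) n).symm)
  exact hF (Components.centralizer_fittingSubgroup_le hc)

theorem eq_top_of_normal (N : Subgroup Γ) [N.Normal] {x : Γ} (hx : RealPP x) (hxN : x ∈ N) :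
    N = ⊤ := by
  by_contra h
  exact realPP_not_mem_center hx (B.le_center_of_normal N h hxN)

theorem invol_not_mem_center {z : Γ} (hz : z * z = 1) (hz1 : z ≠ 1) :
    z ∉ Subgroup.center Γ := by
  intro hc
  obtain ⟨k, hk⟩ := invol_two_power hz
  haveI : (zpowers z).Normal := ⟨fun n hn g => by
    rwa [mem_center_iff.mp ((zpowers_le.mpr hc) hn) g, mul_inv_cancel_right]⟩
  have h := PCore.le_pCore (IsPGroup.of_card (n := k) (by rw [Nat.card_zpowers, hk]) :
    IsPGroup 2 (zpowers z)) (mem_zpowers z)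
  rw [B.pCore_two, mem_bot] at h
  exact hz1 h

theorem two_dvd_card : 2 ∣ Nat.card Γ := by
  by_contra h
  exact B.nonsolv (Cfsg.Agent.S0205.result
    (Nat.not_even_iff_odd.mp fun he => h (even_iff_two_dvd.mp he)))

theorem oddCore_le_center : Cfsg.oddCore Γ ≤ Subgroup.center Γ := by
  haveI : (Cfsg.oddCore Γ).Normal := PCore.pPrimeCore_normal
  refine B.le_center_of_normal _ fun h => ?_
  have hc := PCore.coprime_card_pPrimeCore (p := 2) (G := Γ)
  rw [show Cfsg.pPrimeCore 2 Γ = ⊤ from h, card_top] at hc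
  exact Nat.prime_two.not_dvd_one (hc ▸ Nat.dvd_gcd B.two_dvd_card dvd_rfl)

/-! ### The action on the Sylow 2-subgroups -/

theorem exists_sylow_fix (v : V) : ∃ T : Sylow 2 Γ, v ∈ fixedPts V T := by
  haveI : Fact (Nat.Prime 2) := ⟨Nat.prime_two⟩
  obtain ⟨T, hT⟩ := exists_sylow_le 2 (B.hyp.oddIndex v)
  exact ⟨T, fun t ht => mem_stabilizer_iff.mp (hT ht)⟩

theorem sylow_fix_unique {v : V} (hv : v ≠ 1) {S T : Sylow 2 Γ} (hS : v ∈ fixedPts V S)
    (hT : v ∈ fixedPts V T) : S = T :=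
  noRealOdd_sylow_unique (B.hyp.noReal v hv) (fun t ht => mem_stabilizer_iff.mpr (hS t ht))
    fun t ht => mem_stabilizer_iff.mpr (hT t ht)

theorem exists_fix_ne_one (T : Sylow 2 Γ) : ∃ v ∈ fixedPts V T, v ≠ (1 : V) := by
  haveI : Fact (Nat.Prime 2) := ⟨Nat.prime_two⟩
  obtain ⟨v, hv⟩ := B.exists_ne_one
  obtain ⟨T₀, h₀⟩ := B.exists_sylow_fix v
  obtain ⟨g, rfl⟩ := MulAction.exists_smul_eq Γ T₀ T
  exact ⟨g • v, smul_mem_fixedPts h₀ g, fun h => hv (by rwa [smul_eq_iff_eq_inv_smul, smul_one] at h)⟩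

theorem stabilizer_le {v : V} (hv : v ≠ 1) {T : Sylow 2 Γ} (hT : v ∈ fixedPts V T) :
    stabilizer Γ v ≤ stabilizer Γ T := fun g hg => mem_stabilizer_iff.mpr <| by
  refine B.sylow_fix_unique hv ?_ hT
  have h := smul_mem_fixedPts hT g
  rwa [mem_stabilizer_iff.mp hg] at h

theorem exists_cent_sylow {x : Γ} (hx : RealPP x) (S T : Sylow 2 Γ) :
    ∃ c ∈ centralizer ({x} : Set Γ), c • S = T := by
  haveI : Fact (Nat.Prime 2) := ⟨Nat.prime_two⟩
  obtain ⟨g, hg⟩ := MulAction.exists_smul_eq Γ S T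
  obtain ⟨v, hvS, hv⟩ := B.exists_fix_ne_one S
  obtain ⟨c, hc, hcv⟩ := B.hyp.exists_cent hx hv g
  refine ⟨c, hc, ?_⟩
  rw [← hg]
  refine B.sylow_fix_unique (v := g • v) (fun h => hv ?_) (hcv ▸ smul_mem_fixedPts hvS c)
    (smul_mem_fixedPts hvS g)
  rwa [smul_eq_iff_eq_inv_smul, smul_one] at h

theorem sylow_ne (T : Sylow 2 Γ) : ¬ (T : Subgroup Γ).Normal := by
  haveI : Fact (Nat.Prime 2) := ⟨Nat.prime_two⟩
  intro hn
  have h := PCore.le_pCore (hN := hn) T.2
  rw [B.pCore_two, le_bot_iff] at h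
  have h1 := T.not_dvd_index
  rw [h, index_bot] at h1
  exact h1 B.two_dvd_card

theorem stabilizer_ne_top (T : Sylow 2 Γ) : stabilizer Γ T ≠ ⊤ := by
  rw [Sylow.stabilizer_eq_normalizer]
  exact fun h => B.sylow_ne T (normalizer_eq_top_iff.mp h)

theorem smul_sylow_ne {x : Γ} (hx : RealPP x) (T : Sylow 2 Γ) : x • T ≠ T := by
  intro hfix
  have hall : ∀ S : Sylow 2 Γ, x • S = S := by
    intro S
    obtain ⟨c, hc, rfl⟩ := B.exists_cent_sylow hx T S
    rw [smul_smul, ← mem_centralizer_singleton_iff.mp hc, mul_smul, hfix]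
  let K : Subgroup Γ := (MulAction.toPermHom Γ (Sylow 2 Γ)).ker
  have hxK : x ∈ K := Equiv.ext fun S => hall S
  have hK := B.eq_top_of_normal K hx hxK
  refine B.stabilizer_ne_top T (eq_top_iff.mpr fun g _ => ?_)
  have hg : g ∈ K := hK ▸ mem_top g
  exact Equiv.congr_fun hg T

theorem smul_vec_ne {x : Γ} (hx : RealPP x) {v : V} (hv : v ≠ 1) : x • v ≠ v := by
  intro h
  obtain ⟨T, hT⟩ := B.exists_sylow_fix v
  exact B.smul_sylow_ne hx T (B.stabilizer_le hv hT h)

theorem invol_moves {z : Γ} (hz : z * z = 1) (hz1 : z ≠ 1) :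
    ∃ S : Sylow 2 Γ, z • S ≠ S := by
  by_contra h
  push Not at h
  let K : Subgroup Γ := (MulAction.toPermHom Γ (Sylow 2 Γ)).ker
  have hzK : z ∈ K := Equiv.ext fun S => h S
  refine B.invol_not_mem_center hz hz1 (B.le_center_of_normal K (fun hK => ?_) hzK)
  obtain ⟨x, hx⟩ := B.exists_realPP
  obtain ⟨T⟩ := (inferInstance : Nonempty (Sylow 2 Γ))
  exact B.smul_sylow_ne hx T (Equiv.congr_fun (hK ▸ mem_top x : x ∈ K) T)

theorem isCoatom_stabilizer (T : Sylow 2 Γ) : IsCoatom (stabilizer Γ T) := by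
  haveI : Fact (Nat.Prime 2) := ⟨Nat.prime_two⟩
  refine ⟨B.stabilizer_ne_top T, fun M hM => ?_⟩
  by_contra hMtop
  have hTM : (T : Subgroup Γ) ≤ M := fun t ht => hM.le (smul_eq_of_mem ht)
  by_cases hno : ∀ x : Γ, RealPP x → x ∉ M
  · refine hM.not_ge fun m hm => mem_stabilizer_iff.mpr ?_
    refine noRealOdd_sylow_unique (H := M)
      (noRealOdd_of_forall fun y hy => hno _ (realPP_coe hy) y.2) ?_ hTM
    intro t ht
    rw [Sylow.coe_subgroup_smul] at ht
    obtain ⟨s, hs, rfl⟩ := ht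
    exact mul_mem (mul_mem hm (hTM hs)) (inv_mem hm)
  push Not at hno
  obtain ⟨x, hx, hxM⟩ := hno
  have hconj : ∀ g : Γ, g * x * g⁻¹ ∈ M := by
    intro g
    obtain ⟨c, hc, hcT⟩ := B.exists_cent_sylow hx T (g⁻¹ • T)
    have hh : g * c ∈ M := hM.le (mem_stabilizer_iff.mpr (by rw [mul_smul, hcT, smul_inv_smul]))
    have he : g * x * g⁻¹ = g * c * x * (g * c)⁻¹ := by
      rw [show g * c * x * (g * c)⁻¹ = g * (c * x * c⁻¹) * g⁻¹ by group, mem_cent.mp hc]
    rw [he]
    exact mul_mem (mul_mem hh hxM) (inv_mem hh)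
  have hle : normalClosure ({x} : Set Γ) ≤ M := by
    refine (closure_le _).mpr fun y hy => ?_
    simp only [Group.mem_conjugatesOfSet_iff, Set.mem_singleton_iff, exists_eq_left,
      isConj_iff] at hy
    obtain ⟨g, rfl⟩ := hy
    exact hconj g
  exact hMtop (top_le_iff.mp
    ((B.eq_top_of_normal _ hx (subset_normalClosure (Set.mem_singleton x))) ▸ hle))

theorem card_sylow_dvd {v : V} (hv : v ≠ 1) :
    Nat.card (Sylow 2 Γ) ∣ (stabilizer Γ v).index := by
  haveI : Fact (Nat.Prime 2) := ⟨Nat.prime_two⟩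
  obtain ⟨T, hT⟩ := B.exists_sylow_fix v
  rw [← MulAction.index_stabilizer_of_transitive Γ T]
  exact index_dvd_of_le (B.stabilizer_le hv hT)

theorem three_le_card : 3 ≤ Nat.card (Sylow 2 Γ) := by
  haveI : Fact (Nat.Prime 2) := ⟨Nat.prime_two⟩
  have h1 := card_sylow_modEq_one 2 Γ
  have h3 : Nat.card (Sylow 2 Γ) ≠ 1 := by
    intro h
    obtain ⟨T⟩ := (inferInstance : Nonempty (Sylow 2 Γ))
    refine B.stabilizer_ne_top T (eq_top_iff.mpr fun g _ => ?_)
    exact mem_stabilizer_iff.mpr ((Nat.card_eq_one_iff_unique.mp h).1.elim _ _)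
  rw [Nat.ModEq] at h1
  omega

theorem card_equation [Finite V] (T : Sylow 2 Γ) :
    Nat.card (Sylow 2 Γ) * (Nat.card (fixedPts V T) - 1) = Nat.card V - 1 := by
  haveI : Fact (Nat.Prime 2) := ⟨Nat.prime_two⟩
  classical
  have hsub : ∀ (W : Type _) [Finite W] (a : W), Nat.card {w : W // w ≠ a} = Nat.card W - 1 := by
    intro W _ a
    haveI : Fintype W := Fintype.ofFinite W
    rw [Nat.card_eq_fintype_card, Nat.card_eq_fintype_card, Fintype.card_subtype_compl,
      Fintype.card_subtype_eq]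
  have e : (Σ S : Sylow 2 Γ, {v : fixedPts V S // v ≠ 1}) ≃ {v : V // v ≠ 1} := by
    refine Equiv.ofBijective (fun p => ⟨p.2.1, fun h => p.2.2 (Subtype.ext h)⟩) ⟨?_, ?_⟩
    · rintro ⟨S, ⟨v, hv⟩, hv1⟩ ⟨S', ⟨v', hv'⟩, hv1'⟩ h
      have h' : v = v' := congrArg Subtype.val h
      subst h'
      have := B.sylow_fix_unique (fun h => hv1 (Subtype.ext h)) hv hv'
      subst this
      rfl
    · rintro ⟨v, hv⟩
      obtain ⟨S, hS⟩ := B.exists_sylow_fix v
      exact ⟨⟨S, ⟨v, hS⟩, fun h => hv (congrArg Subtype.val h)⟩, rfl⟩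
  have hfib : ∀ S : Sylow 2 Γ,
      Nat.card {v : fixedPts V S // v ≠ 1} = Nat.card (fixedPts V T) - 1 := by
    intro S
    obtain ⟨g, rfl⟩ := MulAction.exists_smul_eq Γ T S
    rw [hsub]
    congr 1
    refine Nat.card_congr ⟨fun v => ⟨g⁻¹ • (v : V), ?_⟩,
      fun v => ⟨g • (v : V), smul_mem_fixedPts v.2 g⟩,
      fun v => by simp, fun v => by simp⟩
    have := smul_mem_fixedPts v.2 g⁻¹
    rwa [inv_smul_smul] at this
  haveI : Fintype (Sylow 2 Γ) := Fintype.ofFinite _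
  rw [← hsub V 1, ← Nat.card_congr e, Nat.card_sigma]
  simp only [hfib, Finset.sum_const, Finset.card_univ, smul_eq_mul, ← Nat.card_eq_fintype_card]

end MinBad

end Cfsg.Agent.RealGraph
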