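import Mathlib.RingTheory.LittleWedderburn
import Mathlib.RingTheory.IntegralDomain
import Mathlib.GroupTheory.Sylow
import Mathlib.GroupTheory.GroupAction.Hom
import Mathlib.GroupTheory.Perm.Cycle.Type

/-!
An element acting irreducibly on a finite group of exponent two has a cyclic fixed-point-free
centraliser; counting in cyclic groups; inversion from a normalising element.
-/

set_option autoImplicit false
set_option linter.unusedSectionVars false

namespace Cfsg.Agent.RealGraph

open Subgroup MulAction

variable {Γ V : Type*} [Group Γ] [Group V] [MulDistribMulAction Γ V]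

/-- No subgroup other than the trivial ones is invariant. -/
def IrredElt (V : Type*) [Group V] [MulDistribMulAction Γ V] (y : Γ) : Prop :=
  ∀ W : Subgroup V, (∀ w ∈ W, y • w ∈ W) → W = ⊥ ∨ W = ⊤

theorem IrredElt.eq_one_of_commute [FaithfulSMul Γ V] {y c : Γ} (hy : IrredElt V y)
    (hc : c * y = y * c) {v : V} (hv : v ≠ 1) (hcv : c • v = v) : c = 1 := by
  let W : Subgroup V :=
    { carrier := {w | c • w = w}
      one_mem' := smul_one c
      mul_mem' := fun {a b} ha hb => by
        show c • (a * b) = a * b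
        rw [smul_mul', show c • a = a from ha, show c • b = b from hb]
      inv_mem' := fun {a} ha => by
        show c • a⁻¹ = a⁻¹
        rw [smul_inv', show c • a = a from ha] }
  rcases hy W (fun w hw => by
      show c • y • w = y • w
      rw [smul_smul, hc, mul_smul, show c • w = w from hw]) with h | h
  · exact absurd (mem_bot.mp (h ▸ (show v ∈ W from hcv))) hv
  · exact eq_of_smul_eq_smul (α := V) fun w => by
      rw [one_smul]; exact (h ▸ mem_top w : w ∈ W)

theorem isCyclic_centralizer [Finite Γ] [Finite V] [Nontrivial V] [FaithfulSMul Γ V]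
    (hexp : ∀ v : V, v * v = 1) {y : Γ} (hy : IrredElt V y) :
    IsCyclic (centralizer ({y} : Set Γ)) := by
  letI : CommGroup V := { ‹Group V› with
    mul_comm := fun a b => by
      calc a * b = (a * b)⁻¹ := (inv_eq_of_mul_eq_one_right (hexp _)).symm
        _ = b * a := by
          rw [mul_inv_rev, inv_eq_of_mul_eq_one_right (hexp b),
            inv_eq_of_mul_eq_one_right (hexp a)] }
  let ρ : Γ →* AddMonoid.End (Additive V) :=
    { toFun := fun c =>
        { toFun := fun u => Additive.ofMul (c • Additive.toMul u)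
          map_zero' := by
            show Additive.ofMul (c • (1 : V)) = 0
            rw [smul_one]; rfl
          map_add' := fun a b => by
            show Additive.ofMul (c • (Additive.toMul a * Additive.toMul b)) = _
            rw [smul_mul']; rfl }
      map_one' := AddMonoidHom.ext fun u => by
        show Additive.ofMul ((1 : Γ) • Additive.toMul u) = u
        rw [one_smul]; rfl
      map_mul' := fun a b => AddMonoidHom.ext fun u => by
        show Additive.ofMul ((a * b) • Additive.toMul u) =
          Additive.ofMul (a • b • Additive.toMul u)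
        rw [mul_smul] }
  have hρ : ∀ (c : Γ) (v : V), ρ c (Additive.ofMul v) = Additive.ofMul (c • v) := fun _ _ => rfl
  let S : Subring (AddMonoid.End (Additive V)) := Subring.centralizer {ρ y}
  haveI : Finite (AddMonoid.End (Additive V)) :=
    Finite.of_injective (fun f : AddMonoid.End (Additive V) => (f : Additive V → Additive V))
      DFunLike.coe_injective
  have hinj : ∀ f : S, f ≠ 0 → ∀ v : Additive V, (f : AddMonoid.End (Additive V)) v = 0 → v = 0 := by
    intro f hf v hv
    have hcomm : ∀ u, (f : AddMonoid.End (Additive V)) (ρ y u) =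
        ρ y ((f : AddMonoid.End (Additive V)) u) := fun u =>
      (congrArg (fun g : AddMonoid.End (Additive V) => g u)
        (Subring.mem_centralizer_iff.mp f.2 (ρ y) rfl)).symm
    let W : Subgroup V :=
      { carrier := {w | (f : AddMonoid.End (Additive V)) (Additive.ofMul w) = 0}
        one_mem' := map_zero _
        mul_mem' := fun {a b} ha hb => by
          show (f : AddMonoid.End (Additive V)) (Additive.ofMul a + Additive.ofMul b) = 0
          rw [map_add, show (f : AddMonoid.End (Additive V)) (Additive.ofMul a) = 0 from ha,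
            show (f : AddMonoid.End (Additive V)) (Additive.ofMul b) = 0 from hb, add_zero]
        inv_mem' := fun {a} ha => by
          show (f : AddMonoid.End (Additive V)) (-Additive.ofMul a) = 0
          rw [map_neg, show (f : AddMonoid.End (Additive V)) (Additive.ofMul a) = 0 from ha,
            neg_zero] }
    rcases hy W (fun w hw => by
        show (f : AddMonoid.End (Additive V)) (ρ y (Additive.ofMul w)) = 0
        rw [hcomm, show (f : AddMonoid.End (Additive V)) (Additive.ofMul w) = 0 from hw,
          map_zero]) with h | h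
    · have : Additive.toMul v ∈ W := hv
      rw [h, mem_bot] at this
      exact this
    · refine absurd (Subtype.ext (AddMonoidHom.ext fun u => ?_)) hf
      have : Additive.toMul u ∈ W := h ▸ mem_top _
      exact this
  haveI : NoZeroDivisors S := ⟨fun {f g} hfg => by
    by_contra h
    push Not at h
    refine h.2 (Subtype.ext (AddMonoidHom.ext fun u => ?_))
    refine hinj f h.1 _ ?_
    exact congrArg (fun k : S => (k : AddMonoid.End (Additive V)) u) hfg⟩
  haveI : Nontrivial S := by
    refine ⟨0, 1, fun h => ?_⟩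
    obtain ⟨v, hv⟩ := exists_ne (1 : V)
    exact hv (congrArg (fun k : S => (k : AddMonoid.End (Additive V)) (Additive.ofMul v)) h).symm
  haveI : IsDomain S := NoZeroDivisors.to_isDomain S
  letI : Field S := (Finite.isDomain_to_isField S).toField
  let φ : centralizer ({y} : Set Γ) →* S :=
    (ρ.comp (centralizer ({y} : Set Γ)).subtype).codRestrict S fun c => by
      refine Subring.mem_centralizer_iff.mpr ?_
      rintro _ rfl
      show ρ y * ρ c = ρ c * ρ y
      rw [← map_mul, ← map_mul, mem_centralizer_singleton_iff.mp c.2]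
  refine isCyclic_of_injective_ringHom φ fun a b hab => Subtype.ext ?_
  refine eq_of_smul_eq_smul (α := V) fun v => ?_
  exact congrArg (fun k : S => Additive.toMul ((k : AddMonoid.End (Additive V)) (Additive.ofMul v)))
    hab

variable [Finite Γ]

/-- In a cyclic subgroup, `zpowers y` holds all roots of unity of order `orderOf y`. -/
theorem mem_zpowers_of_cyclic {A : Subgroup Γ} [IsCyclic A] {y u : Γ} (hy : y ∈ A) (hu : u ∈ A)
    (h : u ^ orderOf y = 1) : u ∈ zpowers y := by
  classical
  haveI : Fintype A := Fintype.ofFinite A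
  have hpos := orderOf_pos y
  set y' : A := ⟨y, hy⟩
  have ho : orderOf y' = orderOf y := Subgroup.orderOf_mk y hy
  have hsub : (zpowers y' : Set A).toFinset ⊆ ({a : A | a ^ orderOf y = 1} : Finset A) := by
    intro a ha
    rw [Set.mem_toFinset] at ha
    obtain ⟨i, rfl⟩ := mem_zpowers_iff.mp ha
    simp only [Finset.mem_filter, Finset.mem_univ, true_and]
    rw [← zpow_natCast, ← zpow_mul, mul_comm, zpow_mul, zpow_natCast, ← ho, pow_orderOf_eq_one,
      one_zpow]
  have hcard : (zpowers y' : Set A).toFinset.card = orderOf y := by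
    rw [Set.toFinset_card, ← Nat.card_eq_fintype_card, ← ho]
    exact Nat.card_zpowers y'
  have he := Finset.eq_of_subset_of_card_le hsub
    ((IsCyclic.card_pow_eq_one_le hpos).trans hcard.ge)
  have hu' : (⟨u, hu⟩ : A) ∈ ({a : A | a ^ orderOf y = 1} : Finset A) := by
    simp only [Finset.mem_filter, Finset.mem_univ, true_and]
    exact Subtype.ext h
  rw [← he, Set.mem_toFinset] at hu'
  obtain ⟨i, hi⟩ := mem_zpowers_iff.mp hu'
  exact mem_zpowers_iff.mpr ⟨i, congrArg Subtype.val hi⟩

/-- An element whose square centralises `y` of prime order either centralises or inverts it. -/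
theorem fix_or_invert {y t : Γ} (hy : (orderOf y).Prime) (ht : t * y * t⁻¹ ∈ zpowers y)
    (h2 : t * t * y * (t * t)⁻¹ = y) : t * y * t⁻¹ = y ∨ t * y * t⁻¹ = y⁻¹ := by
  obtain ⟨a, ha⟩ := mem_zpowers_iff.mp ht
  have h3 : y ^ (a * a) = y := by
    rw [zpow_mul, ha, conj_zpow, ha]
    calc t * (t * y * t⁻¹) * t⁻¹ = t * t * y * (t * t)⁻¹ := by group
      _ = y := h2
  have h4 : (orderOf y : ℤ) ∣ (a - 1) * (a + 1) := by
    rw [orderOf_dvd_iff_zpow_eq_one, show (a - 1) * (a + 1) = a * a - 1 by ring, zpow_sub_one, h3,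
      mul_inv_cancel]
  rcases (Nat.prime_iff_prime_int.mp hy).dvd_or_dvd h4 with h | h
  · left
    rw [← ha]
    rw [orderOf_dvd_iff_zpow_eq_one, zpow_sub_one, mul_inv_eq_one] at h
    exact h
  · right
    rw [← ha]
    rw [orderOf_dvd_iff_zpow_eq_one, zpow_add_one] at h
    exact eq_inv_of_mul_eq_one_left h

/-- If `t` normalises `⟨y⟩` and inverts an element commuting with every element commuting with
`y`, then `y` is inverted by some element. -/
theorem exists_inverts {y x t : Γ} (hy : (orderOf y).Prime) (ht : t * y * t⁻¹ ∈ zpowers y)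
    (hx : t * x * t⁻¹ = x⁻¹) (hxne : x⁻¹ ≠ x)
    (hC : ∀ c : Γ, c * y = y * c → c * x = x * c) : ∃ s : Γ, s * y * s⁻¹ = y⁻¹ := by
  obtain ⟨a, ha⟩ := mem_zpowers_iff.mp ht
  have hpw : ∀ n : ℕ, t ^ n * y * (t ^ n)⁻¹ = y ^ (a ^ n) := by
    intro n
    induction n with
    | zero => simp
    | succ n ih =>
      calc t ^ (n + 1) * y * (t ^ (n + 1))⁻¹ = t * (t ^ n * y * (t ^ n)⁻¹) * t⁻¹ := by
            rw [pow_succ']; simp [mul_assoc]
        _ = y ^ (a ^ (n + 1)) := by rw [ih, ← conj_zpow, ← ha, ← zpow_mul, pow_succ']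
  have hpx : ∀ j : ℕ, t ^ (2 * j + 1) * x * (t ^ (2 * j + 1))⁻¹ = x⁻¹ ∧
      t ^ (2 * j) * x * (t ^ (2 * j))⁻¹ = x := by
    intro j
    induction j with
    | zero => simp [hx]
    | succ j ih =>
      have h1 : t ^ (2 * (j + 1)) * x * (t ^ (2 * (j + 1)))⁻¹ = x := by
        calc t ^ (2 * (j + 1)) * x * (t ^ (2 * (j + 1)))⁻¹
            = t * (t ^ (2 * j + 1) * x * (t ^ (2 * j + 1))⁻¹) * t⁻¹ := by
              rw [show 2 * (j + 1) = 2 * j + 1 + 1 by ring, pow_succ']; simp [mul_assoc]
          _ = (t * x * t⁻¹)⁻¹ := by rw [ih.1]; group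
          _ = x := by rw [hx, inv_inv]
      refine ⟨?_, h1⟩
      calc t ^ (2 * (j + 1) + 1) * x * (t ^ (2 * (j + 1) + 1))⁻¹
          = t * (t ^ (2 * (j + 1)) * x * (t ^ (2 * (j + 1)))⁻¹) * t⁻¹ := by
            rw [pow_succ']; simp [mul_assoc]
        _ = x⁻¹ := by rw [h1, hx]
  -- the least power of `t` centralising `y`
  have hex : ∃ k, 0 < k ∧ t ^ k * y * (t ^ k)⁻¹ = y :=
    ⟨orderOf t, orderOf_pos t, by rw [pow_orderOf_eq_one]; simp⟩
  classical
  obtain ⟨hk0, hk⟩ := Nat.find_spec hex
  set k := Nat.find hex with hkdef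
  have hkx := hC (t ^ k) (mul_inv_eq_iff_eq_mul.mp hk)
  rcases Nat.even_or_odd' k with ⟨j, hj | hj⟩
  · have hj0 : 0 < j := by omega
    have hjlt : j < k := by omega
    refine ⟨t ^ j, (fix_or_invert hy ?_ ?_).resolve_left fun h => ?_⟩
    · rw [hpw j]; exact zpow_mem (mem_zpowers y) _
    · rw [← pow_add, ← two_mul, ← hj]; exact hk
    · exact Nat.find_min hex hjlt ⟨hj0, h⟩
  · refine absurd ?_ hxne
    rw [← (hpx j).1, ← hj, hkx, mul_inv_cancel_right]

/-- A `p`-element of a subgroup containing a Sylow `p`-subgroup of the group is conjugate into it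
inside the subgroup. -/
theorem conj_into {p : ℕ} [Fact p.Prime] {H : Subgroup Γ} {R : Sylow p Γ}
    (hR : (R : Subgroup Γ) ≤ H) {u : Γ} (huH : u ∈ H) (hu : ∃ k : ℕ, orderOf u = p ^ k) :
    ∃ c ∈ H, c * u * c⁻¹ ∈ (R : Subgroup Γ) := by
  obtain ⟨k, hk⟩ := hu
  obtain ⟨S, hS⟩ := (IsPGroup.of_card (n := k)
    (by rw [Nat.card_zpowers, Subgroup.orderOf_mk, hk]) :
      IsPGroup p (zpowers (⟨u, huH⟩ : H))).exists_le_sylow
  obtain ⟨c, hc⟩ := MulAction.exists_smul_eq H S (R.subtype hR)
  refine ⟨c, c.2, ?_⟩
  have h : c * ⟨u, huH⟩ * c⁻¹ ∈ ((R.subtype hR : Sylow p H) : Subgroup H) := by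
    rw [← hc, Sylow.coe_subgroup_smul]
    exact ⟨_, hS (mem_zpowers _), rfl⟩
  rw [Sylow.coe_subtype, mem_subgroupOf] at h
  simpa using h

/-- A subgroup transitive on an orbit and fixing no point of it has the size of the orbit. -/
theorem index_stabilizer_eq_card {Ω : Type*} [MulAction Γ Ω] (H : Subgroup Γ) (a : Ω)
    (htr : ∀ g : Γ, ∃ h ∈ H, h • a = g • a) (hfree : ∀ h ∈ H, h • a = a → h = 1) :
    (stabilizer Γ a).index = Nat.card H := by
  have he : orbit H a = orbit Γ a := by
    refine Set.Subset.antisymm ?_ ?_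
    · rintro _ ⟨h, rfl⟩; exact ⟨(h : Γ), rfl⟩
    · rintro _ ⟨g, rfl⟩
      obtain ⟨h, hh, he⟩ := htr g
      exact ⟨⟨h, hh⟩, he⟩
  have hbot : stabilizer H a = ⊥ := by
    rw [eq_bot_iff]
    exact fun h hh => mem_bot.mpr (Subtype.ext (hfree h h.2 hh))
  rw [index_stabilizer, ← he, ← index_stabilizer, hbot, index_bot]

end Cfsg.Agent.RealGraph
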