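import Cfsg.Agent.Lib.RealGraph.SixBasic

/-!
There is no minimal example of dimension six.
-/

set_option autoImplicit false
set_option linter.unusedSectionVars false

namespace Cfsg.Agent.RealGraph

open Subgroup MulAction
open scoped Pointwise

variable {Γ V : Type*} [Group Γ] [Finite Γ] [Group V] [Finite V] [MulDistribMulAction Γ V]
  [FaithfulSMul Γ V]

variable (V) in
/-- The common fixed points of a subgroup. -/
def fixOf (Q : Subgroup Γ) : Subgroup V where
  carrier := {v | ∀ q ∈ Q, q • v = v}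
  one_mem' := fun q _ => smul_one q
  mul_mem' := fun {a b} ha hb q hq => by rw [smul_mul', ha q hq, hb q hq]
  inv_mem' := fun {a} ha q hq => by rw [smul_inv', ha q hq]

theorem le_of_pow_three_dvd {n a : ℕ} (h : n = 3 ^ a) (hd : n ∣ 63) : n ≤ 9 := by
  subst h
  have hle := Nat.le_of_dvd (by norm_num) hd
  rcases lt_or_ge a 3 with h3 | h3
  · interval_cases a <;> norm_num
  · exfalso
    have : 27 ∣ 3 ^ a := by
      rw [show (27 : ℕ) = 3 ^ 3 by norm_num]; exact pow_dvd_pow 3 h3
    exact absurd (this.trans hd) (by norm_num)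

theorem card_mul_rel {G : Type*} [Group G] {H K : Subgroup G} (h : H ≤ K) :
    Nat.card H * H.relIndex K = Nat.card K := by
  rw [← relIndex_bot_left, relIndex_mul_relIndex _ _ _ bot_le h, relIndex_bot_left]

theorem zmod_seven_fifth : ∀ b : ZMod 7, b ^ 5 - 1 = 0 → b - 1 = 0 := by decide

namespace MinBad

variable (B : MinBad Γ V)
include B

theorem two_trans_of_free (T : Sylow 2 Γ) (w : Γ) (hcard : Nat.card (Sylow 2 Γ) = orderOf w)
    (hfree : ∀ u ∈ zpowers w, u • T = T → u = 1) :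
    IsMultiplyPretransitive Γ (Sylow 2 Γ) 2 := by
  have hst : stabilizer (zpowers w) T = ⊥ := by
    rw [eq_bot_iff]
    exact fun u hu => mem_bot.mpr (Subtype.ext (hfree u u.2 hu))
  have horb : orbit (zpowers w) T = Set.univ := by
    refine Set.eq_of_subset_of_ncard_le (Set.subset_univ _) ?_
    rw [Set.ncard_univ, ← index_stabilizer, hst, index_bot, Nat.card_zpowers, hcard]
  refine B.two_trans_of_cyclic (zpowers w) fun S S' => ?_
  obtain ⟨a, ha⟩ : S ∈ orbit (zpowers w) T := horb ▸ Set.mem_univ S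
  obtain ⟨b, hb⟩ : S' ∈ orbit (zpowers w) T := horb ▸ Set.mem_univ S'
  refine ⟨(b : Γ) * (a : Γ)⁻¹, mul_mem b.2 (inv_mem a.2), ?_⟩
  have ha' : (a : Γ) • T = S := ha
  have hb' : (b : Γ) • T = S' := hb
  rw [mul_smul, ← ha', inv_smul_smul, hb']

theorem fix_even {x : Γ} (hx : RealPP x) (ho : orderOf x = 3) (W : Subgroup V)
    (hW : ∀ w ∈ W, x • w ∈ W) (hV : Nat.card V = 64) :
    Nat.card W = 1 ∨ Nat.card W = 4 ∨ Nat.card W = 16 ∨ Nat.card W = 64 := by
  have h3 := B.fix_card_modEq (k := 1) hx Nat.prime_three (by rw [pow_one, ho]) W hW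
  obtain ⟨f, hf⟩ := card_two_pow B.hyp.exp2 W
  have hle := W.card_le_card_group
  rw [hf, hV, show (64 : ℕ) = 2 ^ 6 by norm_num] at hle
  have hf6 : f ≤ 6 := (Nat.pow_le_pow_iff_right (by omega)).mp hle
  rw [hf] at h3 ⊢
  interval_cases f <;> simp_all [Nat.ModEq]

theorem small_three_group (hV : Nat.card V = 64) {x : Γ} (hx : RealPP x) (ho : orderOf x = 3)
    {Q : Subgroup Γ} (hQ : IsPGroup 3 Q) (hQx : ∀ q ∈ Q, q * x = x * q)
    (hF : 16 ≤ Nat.card (fixOf V Q)) : Nat.card Q ≤ 3 := by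
  haveI : Fact (Nat.Prime 3) := ⟨Nat.prime_three⟩
  set F := fixOf V Q with hFdef
  have hFx : ∀ w ∈ F, x • w ∈ F := fun w hw q hq => by
    rw [smul_smul, hQx q hq, mul_smul, hw q hq]
  have hc := B.fix_even hx ho F hFx hV
  haveI : F.Normal := ⟨fun n hn g => by
    rwa [mul_comm_of_exp_two B.hyp.exp2 g n, mul_inv_cancel_right]⟩
  by_cases hF64 : Nat.card F = 64
  · have htop : F = ⊤ := Subgroup.eq_top_of_card_eq F (hF64.trans hV.symm)
    have : Q = ⊥ := by
      rw [eq_bot_iff]
      exact fun q hq => mem_bot.mpr (B.eq_one_of_fix fun v _ => (htop ▸ mem_top v : v ∈ F) q hq)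
    rw [this, card_bot]; norm_num
  have hF16 : Nat.card F = 16 := by omega
  obtain ⟨v, hv⟩ : ∃ v : V, v ∉ F := by
    by_contra h
    push Not at h
    exact hF64 (by rw [show F = ⊤ from eq_top_iff.mpr fun w _ => h w, card_top, hV])
  have hinj : Function.Injective (fun q : Q => (QuotientGroup.mk ((q : Γ) • v) : V ⧸ F)) := by
    intro a b hab
    have hab' : ((a : Γ) • v)⁻¹ * (b : Γ) • v ∈ F := QuotientGroup.eq.mp hab
    set u : Γ := (a : Γ)⁻¹ * b with hu
    have huQ : u ∈ Q := mul_mem (inv_mem a.2) b.2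
    have hw : v⁻¹ * u • v ∈ F := by
      have e : (a : Γ)⁻¹ • (((a : Γ) • v)⁻¹ * (b : Γ) • v) = v⁻¹ * u • v := by
        rw [smul_mul', smul_inv', inv_smul_smul, smul_smul]
      rw [← e, hab' _ (inv_mem a.2)]
      exact hab'
    set w := v⁻¹ * u • v with hwdef
    have hpow : ∀ n : ℕ, u ^ n • v = v * w ^ n := by
      intro n
      induction n with
      | zero => simp
      | succ n ih =>
        rw [pow_succ', mul_smul, ih, smul_mul', smul_pow', hw u huQ, hwdef, pow_succ', ← mul_assoc,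
          ← mul_assoc, mul_inv_cancel, one_mul]
    obtain ⟨k, hk⟩ := IsPGroup.iff_orderOf.mp hQ ⟨u, huQ⟩
    rw [Subgroup.orderOf_mk] at hk
    have h1 := hpow (3 ^ k)
    rw [← hk, pow_orderOf_eq_one, one_smul, left_eq_mul] at h1
    obtain ⟨m, hm⟩ := (show Odd (orderOf u) from hk ▸ (show Odd 3 by decide).pow)
    rw [hm, pow_succ, pow_mul, pow_two, B.hyp.exp2, one_pow, one_mul] at h1
    have huv : u • v = v := by
      have := hpow 1
      rwa [pow_one, pow_one, h1, mul_one] at this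
    have hu1 : u = 1 := by
      by_contra hne
      have hle : F ≤ fixSub V u := fun z hz => hz u huQ
      have hlt : Nat.card F < Nat.card (fixSub V u) := by
        refine lt_of_le_of_ne (card_le_of_le hle) fun he => hv ?_
        rw [Subgroup.eq_of_le_of_card_ge hle he.ge]
        exact huv
      have h := B.fix_even hx ho (fixSub V u) (fun z hz => by
        show u • x • z = x • z
        rw [smul_smul, hQx u huQ, mul_smul, mem_fixSub.mp hz]) hV
      have h64 : Nat.card (fixSub V u) = 64 := by omega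
      refine hne (B.eq_one_of_fix fun z _ => ?_)
      have : z ∈ fixSub V u := by
        rw [Subgroup.eq_top_of_card_eq (fixSub V u) (h64.trans hV.symm)]; exact mem_top z
      exact this
    exact Subtype.ext (inv_mul_eq_one.mp hu1)
  have hle := Nat.card_le_card_of_injective _ hinj
  have hq : Nat.card (V ⧸ F) = 4 := by
    have := F.card_eq_card_quotient_mul_card_subgroup
    rw [hV, hF16] at this
    omega
  obtain ⟨k, hk⟩ := IsPGroup.iff_card.mp hQ
  rw [hq, hk] at hle
  rw [hk]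
  rcases lt_or_ge k 2 with h | h
  · interval_cases k <;> norm_num
  · have : 3 ^ 2 ≤ 3 ^ k := Nat.pow_le_pow_right (by norm_num) h
    omega

/-- A semiregular subgroup of order nine in the centraliser of `x` is cyclic. -/
theorem exists_generator_nine {x : Γ} (hx : RealPP x) (ho : orderOf x = 3) {R : Subgroup Γ}
    (hR : Nat.card R = 9) (hRx : ∀ u ∈ R, u * x = x * u) (hxR : x ∈ R)
    (hfree : ∀ u ∈ R, ∀ v : V, v ≠ 1 → u • v = v → u = 1) :
    ∃ g ∈ R, orderOf g = 9 ∧ R = zpowers g := by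
  haveI : Fact (Nat.Prime 3) := ⟨Nat.prime_three⟩
  obtain ⟨g, hgR, hg⟩ : ∃ g ∈ R, g ^ 3 ≠ 1 := by
    by_contra hall
    push Not at hall
    obtain ⟨g, hgR, hgx⟩ : ∃ g ∈ R, g ∉ zpowers x := by
      by_contra h
      push Not at h
      have := card_le_of_le (show R ≤ zpowers x from h)
      rw [hR, Nat.card_zpowers, ho] at this
      omega
    have hc := mul_comm_of_exp_two B.hyp.exp2
    letI : CommGroup V := { ‹Group V› with mul_comm := hc }
    obtain ⟨v, hv⟩ := B.exists_ne_one
    have hgc : Commute g x := hRx g hgR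
    have hne : ∀ z : V, z ≠ 1 → ∀ i : ℕ, g • z * x ^ i • z ≠ 1 := by
      intro z hz i h
      have h1 := eq_of_mul_eq_one_exp_two B.hyp.exp2 h
      have h2 : (x ^ i)⁻¹ * g = 1 := hfree _ (mul_mem (inv_mem (pow_mem hxR i)) hgR) z hz
        (by rw [mul_smul, h1, inv_smul_smul])
      refine hgx ?_
      rw [← inv_mul_eq_one.mp h2]
      exact pow_mem (mem_zpowers x) i
    have h2 := hne v hv 2
    have h12 := hne _ h2 1
    have h012 := hne _ h12 0
    apply h012
    have hx3 : x * x ^ 2 = 1 := by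
      rw [← pow_succ']
      have h := pow_orderOf_eq_one x
      rwa [ho] at h
    have hg3 : g * (g * g) = 1 := by
      have h := hall g hgR
      rwa [pow_succ', pow_two] at h
    have hsum : g • x • v * g • x ^ 2 • v = g • v := by
      rw [← smul_mul']
      congr 1
      have h := B.cube_eq_three hx ho v
      rw [mul_assoc] at h
      exact (eq_of_mul_eq_one_exp_two B.hyp.exp2 h).symm
    have e : g • (g • v * x ^ 2 • v) * x ^ 1 • (g • v * x ^ 2 • v) =
        (g * g) • v * (g • v * v) := by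
      rw [pow_one, smul_mul', smul_mul', smul_smul g g, smul_smul x (x ^ 2), hx3, one_smul,
        smul_smul x g, ← hgc.eq, mul_smul g x]
      calc _ = (g * g) • v * ((g • x • v * g • x ^ 2 • v) * v) := by ac_rfl
        _ = _ := by rw [hsum]
    rw [e, pow_zero, one_smul, smul_mul', smul_mul', smul_smul, smul_smul, hg3, one_smul]
    calc _ = (v * v) * (((g * g) • v * (g * g) • v) * (g • v * g • v)) := by ac_rfl
      _ = 1 := by rw [B.hyp.exp2, B.hyp.exp2, B.hyp.exp2, one_mul, one_mul]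
  have hd : orderOf g ∣ 3 ^ 2 := by
    rw [show 3 ^ 2 = Nat.card R by rw [hR]; norm_num]
    exact Subgroup.orderOf_dvd_natCard R hgR
  obtain ⟨k, hk2, hk⟩ := (Nat.dvd_prime_pow Nat.prime_three).mp hd
  have hk' : k = 2 := by
    by_contra hne
    have hk1 : k ≤ 1 := by omega
    have : orderOf g ∣ 3 := by rw [hk]; exact (pow_dvd_pow 3 hk1).trans (by norm_num)
    exact hg (orderOf_dvd_iff_pow_eq_one.mp this)
  have hg9 : orderOf g = 9 := by rw [hk, hk']; norm_num
  refine ⟨g, hgR, hg9, (Subgroup.eq_of_le_of_card_ge (zpowers_le.mpr hgR) ?_).symm⟩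
  rw [hR, Nat.card_zpowers, hg9]

/-- An element of order seven centralises a small normal 3-subgroup. -/
theorem conj_fix_of_small {C : Type*} [Group C] [Finite C] {P : Subgroup C} [P.Normal]
    (hP : IsPGroup 3 P) (hlt : Nat.card P < 3 ^ 6) {y : C} (hy : y ^ 7 = 1) :
    ∀ p ∈ P, y * p = p * y := by
  haveI : Fact (Nat.Prime 7) := ⟨by norm_num⟩
  haveI : Fact (Nat.Prime 3) := ⟨Nat.prime_three⟩
  haveI : Finite (ConjAct C) := inferInstanceAs (Finite C)
  have hy' : (ConjAct.toConjAct y) ^ 7 ^ 1 = 1 := by rw [pow_one, ← map_pow, hy, map_one]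
  have h := fix_modEq hy' P fun p hp => by
    rw [ConjAct.toConjAct_smul]
    exact Normal.conj_mem inferInstance p hp y
  obtain ⟨a, ha⟩ := IsPGroup.iff_card.mp hP
  obtain ⟨c, hc⟩ := IsPGroup.iff_card.mp
    (hP.to_le (inf_le_left (b := fixSub C (ConjAct.toConjAct y))))
  have hle : Nat.card ↥(P ⊓ fixSub C (ConjAct.toConjAct y)) ≤ Nat.card P :=
    card_le_of_le inf_le_left
  rw [ha, hc] at h
  rw [ha] at hlt
  rw [ha, hc] at hle
  have ha6 : a < 6 := (Nat.pow_lt_pow_iff_right (by norm_num)).mp hlt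
  have hca : c ≤ a := (Nat.pow_le_pow_iff_right (by norm_num)).mp hle
  have hac : c = a := by
    interval_cases a <;> interval_cases c <;> first | rfl | (simp [Nat.ModEq] at h)
  have he := Subgroup.eq_of_le_of_card_ge
    (inf_le_left : P ⊓ fixSub C (ConjAct.toConjAct y) ≤ P) (by rw [ha, hc, hac])
  intro p hp
  have hp' : p ∈ P ⊓ fixSub C (ConjAct.toConjAct y) := he.symm ▸ hp
  have := mem_fixSub.mp hp'.2
  rw [ConjAct.toConjAct_smul, mul_inv_eq_iff_eq_mul] at this
  exact this

/-- In the regular case the group has elements of orders nine and seven that commute. -/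
theorem exists_nine_seven (hV : Nat.card V = 64) (hnv : ∀ v : V, v ≠ 1 →
      (stabilizer Γ v).index = 63) {x : Γ} (hx : RealPP x) (ho : orderOf x = 3) :
    ∃ g y : Γ, orderOf g = 9 ∧ orderOf y = 7 ∧ g * y = y * g ∧ y * x = x * y ∧
      ∀ u ∈ zpowers g, ∀ v : V, v ≠ 1 → u • v = v → u = 1 := by
  haveI : Fact (Nat.Prime 3) := ⟨Nat.prime_three⟩
  haveI : Fact (Nat.Prime 7) := ⟨by norm_num⟩
  obtain ⟨v₀, hv₀⟩ := B.exists_ne_one
  set C := centralizer ({x} : Set Γ) with hC
  have hCo : Odd (Nat.card C) := B.odd_card_centralizer hV hx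
  haveI : Group.IsSolvable C := Cfsg.Agent.S0205.result hCo
  have hidx : ∀ v : V, v ≠ 1 → (stabilizer C v).index = 63 := fun v hv => by
    rw [hC, B.index_cent_stabilizer hx hv, hnv v hv]
  have hCcard : Nat.card C = 63 * Nat.card (stabilizer C v₀) := by
    rw [← hidx v₀ hv₀, mul_comm]; exact (card_mul_index _).symm
  have hsyl : ∀ {q : ℕ} [Fact q.Prime], q ∣ 63 → ∀ {z : Γ}, RealPP z →
      ∃ S : Sylow q Γ, (S : Subgroup Γ) ≤ centralizer {z} := by
    intro q hq hq63 z hz
    exact exists_sylow_le q fun h => (Fact.out : q.Prime).not_dvd_one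
      ((B.hyp.coprime z hz v₀ hv₀) ▸ Nat.dvd_gcd h (hnv v₀ hv₀ ▸ hq63))
  have h63 : 63 ∣ Nat.card Γ := hnv v₀ hv₀ ▸ index_dvd_card _
  obtain ⟨S7, hS7⟩ := hsyl (q := 7) (by norm_num) hx
  obtain ⟨y, hy⟩ := exists_prime_orderOf_dvd_card' 7
    (S7.dvd_card_of_dvd_card ((show 7 ∣ 63 by norm_num).trans h63))
  obtain ⟨y, hyC, hyo⟩ : ∃ y' : Γ, y' ∈ C ∧ orderOf y' = 7 :=
    ⟨(y : Γ), hS7 y.2, by rw [Subgroup.orderOf_coe, hy]⟩
  have hyx : y * x = x * y := mem_centralizer_singleton_iff.mp hyC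
  have hy7 : y ^ 7 = 1 := by
    have h := pow_orderOf_eq_one y
    rwa [hyo] at h
  have hy1 : y ≠ 1 := fun h => by rw [h, orderOf_one] at hyo; omega
  have hyfpf : ∀ v : V, v ≠ 1 → y • v ≠ v := fun v hv =>
    B.seven_fpf hV hx ho hyx (k := 1) (by rw [pow_one, hy7]) hy1 hv
  set A := C ⊓ centralizer ({y} : Set Γ) with hA
  have hAx : ∀ a ∈ A, a * x = x * a := fun a ha => mem_centralizer_singleton_iff.mp ha.1
  have hAy : ∀ a ∈ A, a * y = y * a := fun a ha => mem_centralizer_singleton_iff.mp ha.2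
  have hAfree : ∀ a ∈ A, ∀ v : V, v ≠ 1 → a • v = v → a = 1 := by
    intro a ha v hv h
    by_contra ha1
    have hFx : ∀ w ∈ fixSub V a, x • w ∈ fixSub V a := fun w hw => by
      show a • x • w = x • w
      rw [smul_smul, hAx a ha, mul_smul, mem_fixSub.mp hw]
    have hFy : ∀ w ∈ fixSub V a, y • w ∈ fixSub V a := fun w hw => by
      show a • y • w = y • w
      rw [smul_smul, hAy a ha, mul_smul, mem_fixSub.mp hw]
    have h7 := fix_modEq (p := 7) (n := 1) (by rw [pow_one, hy7]) (fixSub V a) hFy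
    rw [show fixSub V a ⊓ fixSub V y = ⊥ from eq_bot_iff.mpr fun w hw => mem_bot.mpr (by
      by_contra hw1
      exact hyfpf w hw1 (mem_fixSub.mp hw.2)), card_bot] at h7
    have hcases := B.fix_even hx ho _ hFx hV
    have hne : Nat.card (fixSub V a) ≠ 1 := fun h1 => hv (by
      rw [Subgroup.card_eq_one] at h1
      exact mem_bot.mp (h1 ▸ (mem_fixSub.mpr h : v ∈ fixSub V a)))
    have h64 : Nat.card (fixSub V a) = 64 := by
      rcases hcases with h1 | h1 | h1 | h1 <;> rw [h1] at h7 hne <;> simp [Nat.ModEq] at h7 hne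
      exact h1
    refine ha1 (B.eq_one_of_fix fun z _ => ?_)
    have : z ∈ fixSub V a := by
      rw [Subgroup.eq_top_of_card_eq (fixSub V a) (h64.trans hV.symm)]; exact mem_top z
    exact this
  have hxA : x ∈ A := ⟨mem_centralizer_singleton_iff.mpr rfl,
    mem_centralizer_singleton_iff.mpr hyx.symm⟩
  have hyA : y ∈ A := ⟨hyC, mem_centralizer_singleton_iff.mpr rfl⟩
  have hAdvd : 21 ∣ Nat.card A := by
    have h := Subgroup.orderOf_dvd_natCard A (mul_mem hxA hyA)
    rwa [(show Commute x y from hyx.symm).orderOf_mul_eq_mul_orderOf_of_coprime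
      (by rw [ho, hyo]; norm_num), ho, hyo] at h
  have hAle : Nat.card A ≤ 63 := by
    classical
    haveI : Fintype V := Fintype.ofFinite V
    have h := Nat.card_le_card_of_injective
      (fun a : A => (⟨(a : Γ) • v₀, fun h => hv₀ (by
        rwa [smul_eq_iff_eq_inv_smul, smul_one] at h)⟩ : {v : V // v ≠ 1})) (by
        intro a b hab
        have hab' : (a : Γ) • v₀ = (b : Γ) • v₀ := congrArg Subtype.val hab
        exact Subtype.ext (inv_mul_eq_one.mp (hAfree _ (mul_mem (inv_mem a.2) b.2) v₀ hv₀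
          (by rw [mul_smul, ← hab', inv_smul_smul]))))
    rw [Nat.card_eq_fintype_card (α := {v : V // v ≠ 1}), Fintype.card_subtype_compl,
      Fintype.card_subtype_eq, ← Nat.card_eq_fintype_card, hV] at h
    exact h
  have hAodd : Odd (Nat.card A) := hCo.of_dvd_nat (card_dvd_of_le inf_le_left)
  have hAcases : Nat.card A = 21 ∨ Nat.card A = 63 := by
    obtain ⟨k, hk⟩ := hAdvd
    obtain ⟨m, hm⟩ := hAodd
    omega
  have h49 : ¬ 49 ∣ Nat.card C := by
    intro h
    rw [hCcard] at h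
    have h7 : 7 ∣ Nat.card (stabilizer C v₀) := by omega
    obtain ⟨u, hu⟩ := exists_prime_orderOf_dvd_card' 7 h7
    have huo : orderOf ((u : C) : Γ) = 7 := by rw [Subgroup.orderOf_coe, Subgroup.orderOf_coe, hu]
    have hu7 : ((u : C) : Γ) ^ 7 ^ 1 = 1 := by
      have h := pow_orderOf_eq_one ((u : C) : Γ)
      rwa [huo] at h
    refine B.seven_fpf hV hx ho (mem_centralizer_singleton_iff.mp (u : C).2) hu7
      (fun h => by rw [h, orderOf_one] at huo; omega) hv₀ ?_
    exact mem_stabilizer_iff.mp u.2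
  -- `y` generates a normal subgroup of `C`
  have hnorm : ∀ c ∈ C, c * y * c⁻¹ ∈ zpowers y := by
    set y₁ : C := ⟨y, hyC⟩ with hy₁
    have hy₁o : orderOf y₁ = 7 := by rw [← Subgroup.orderOf_coe]; exact hyo
    have hbot : ∀ p : ℕ, p.Prime → p ≠ 3 → p ≠ 7 → Cfsg.pCore p C = ⊥ := by
      intro p hp h3 h7
      haveI : Fact p.Prime := ⟨hp⟩
      rw [eq_bot_iff]
      intro q hq
      refine mem_bot.mpr (eq_of_smul_eq_smul (α := V) fun v => ?_)
      rcases eq_or_ne v 1 with rfl | hv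
      · rw [smul_one, smul_one]
      rw [one_smul]
      refine smul_eq_of_normal_coprime (Cfsg.pCore p C) ?_ hq
      obtain ⟨k, hk⟩ := PCore.exists_card_pCore (G := C) (p := p)
      rw [hidx v hv, hk]
      refine Nat.Coprime.pow_left k (hp.coprime_iff_not_dvd.2 fun hd => ?_)
      rw [show 63 = 3 * (3 * 7) by norm_num] at hd
      rcases hp.dvd_mul.mp hd with h | h
      · exact h3 ((Nat.prime_dvd_prime_iff_eq hp Nat.prime_three).mp h)
      · rcases hp.dvd_mul.mp h with h | h
        · exact h3 ((Nat.prime_dvd_prime_iff_eq hp Nat.prime_three).mp h)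
        · exact h7 ((Nat.prime_dvd_prime_iff_eq hp (by norm_num)).mp h)
    obtain ⟨k7, hk7⟩ := PCore.exists_card_pCore (G := C) (p := 7)
    have hk7le : ∀ K : Subgroup C, ∀ k : ℕ, Nat.card K = 7 ^ k → k ≤ 1 := by
      intro K k hk
      by_contra h
      have h2 : 7 ^ 2 ∣ 7 ^ k := pow_dvd_pow 7 (by omega)
      exact h49 ((h2.trans (hk ▸ dvd_rfl)).trans (card_subgroup_dvd_card K))
    by_cases hO7 : Cfsg.pCore 7 C = ⊥
    · exfalso
      set P := Cfsg.pCore 3 C with hP
      have hFP : Cfsg.fittingSubgroup C ≤ P := by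
        rw [Components.fittingSubgroup_eq_iSup_pCore]
        refine iSup_le fun p => ?_
        by_cases h3 : (p : ℕ) = 3
        · rw [hP, h3]
        by_cases h7 : (p : ℕ) = 7
        · rw [h7, hO7]; exact bot_le
        · rw [hbot p (Nat.prime_of_mem_primeFactors p.2) h3 h7]; exact bot_le
      have hP3 : IsPGroup 3 P := PCore.isPGroup_pCore
      set Pm : Subgroup Γ := P.map C.subtype with hPm
      have hPm3 : IsPGroup 3 Pm := hP3.map _
      have hPmx : ∀ q ∈ Pm, q * x = x * q := fun q hq =>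
        mem_centralizer_singleton_iff.mp (map_subtype_le _ hq)
      have horb : ∀ v : V, v ≠ 1 → (stabilizer Γ v).relIndex Pm ≤ 9 := by
        intro v hv
        have e : (stabilizer Γ v).relIndex Pm = (stabilizer C v).relIndex P := by
          rw [stabilizer_subgroupOf C v, hPm]
          exact (relIndex_comap _ _ _).symm
        obtain ⟨a, ha⟩ := IsPGroup.iff_card.mp hP3
        obtain ⟨b, -, hb⟩ := (Nat.dvd_prime_pow Nat.prime_three).mp
          (show (stabilizer C v).relIndex P ∣ 3 ^ a from ha ▸ index_dvd_card _)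
        rw [e]
        exact le_of_pow_three_dvd hb (hidx v hv ▸ relIndex_dvd_index _)
      have hstep : ∀ Q : Subgroup Γ, Q ≤ Pm → ∀ v : V, v ≠ 1 →
          Nat.card Q ≤ 9 * Nat.card ↥(Q ⊓ stabilizer Γ v) := by
        intro Q hQ v hv
        have h1 : (stabilizer Γ v).relIndex Q ≤ 9 := by
          refine le_trans ?_ (horb v hv)
          refine Subgroup.relIndex_le_of_le_right hQ ?_
          exact index_ne_zero_of_finite (H := (stabilizer Γ v).subgroupOf Pm)
        have h2 : Nat.card ↥(Q ⊓ stabilizer Γ v) * (stabilizer Γ v).relIndex Q = Nat.card Q := by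
          rw [← inf_relIndex_left (H := Q)]
          exact card_mul_rel inf_le_left
        calc Nat.card Q = (stabilizer Γ v).relIndex Q * Nat.card ↥(Q ⊓ stabilizer Γ v) := by
              rw [← h2, mul_comm]
          _ ≤ 9 * _ := Nat.mul_le_mul_right _ h1
      have hfx : ∀ Q : Subgroup Γ, Q ≤ Pm → ∀ w ∈ fixOf V Q, x • w ∈ fixOf V Q :=
        fun Q hQ w hw q hq => by rw [smul_smul, hPmx q (hQ hq), mul_smul, hw q hq]
      set Q1 := Pm ⊓ stabilizer Γ v₀ with hQ1
      have hv₀F : v₀ ∈ fixOf V Q1 := fun q hq => mem_stabilizer_iff.mp hq.2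
      have hQ1le : Nat.card Q1 ≤ 27 := by
        have hc1 := B.fix_even hx ho _ (hfx Q1 inf_le_left) hV
        by_cases h16 : 16 ≤ Nat.card (fixOf V Q1)
        · have := B.small_three_group hV hx ho (hPm3.to_le inf_le_left)
            (fun q hq => hPmx q hq.1) h16
          exact le_trans this (by norm_num)
        obtain ⟨v₂, hv₂⟩ : ∃ v : V, v ∉ fixOf V Q1 := by
          by_contra h
          push Not at h
          apply h16
          rw [show fixOf V Q1 = ⊤ from eq_top_iff.mpr fun w _ => h w, card_top, hV]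
          norm_num
        have hv₂1 : v₂ ≠ 1 := fun h => hv₂ (h ▸ one_mem _)
        set Q2 := Q1 ⊓ stabilizer Γ v₂ with hQ2
        have hv₂F : v₂ ∈ fixOf V Q2 := fun q hq => mem_stabilizer_iff.mp hq.2
        have hle : fixOf V Q1 ≤ fixOf V Q2 := fun w hw q hq => hw q hq.1
        have hlt : Nat.card (fixOf V Q1) < Nat.card (fixOf V Q2) := by
          refine lt_of_le_of_ne (card_le_of_le hle) fun he => hv₂ ?_
          rw [Subgroup.eq_of_le_of_card_ge hle he.ge]
          exact hv₂F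
        have hne : Nat.card (fixOf V Q1) ≠ 1 := fun h1 => hv₀ (by
          rw [Subgroup.card_eq_one] at h1
          exact mem_bot.mp (h1 ▸ hv₀F))
        have hc2 := B.fix_even hx ho _ (hfx Q2 (inf_le_left.trans inf_le_left)) hV
        have h2 : Nat.card Q2 ≤ 3 := B.small_three_group hV hx ho (Q := Q2)
          (hPm3.to_le (inf_le_left.trans inf_le_left)) (fun q hq => hPmx q hq.1.1) (by omega)
        have : Nat.card Q1 ≤ 9 * Nat.card Q2 := hstep Q1 inf_le_left v₂ hv₂1
        omega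
      have hlt : Nat.card P < 3 ^ 6 := by
        have h : Nat.card Pm ≤ 9 * Nat.card Q1 := hstep Pm le_rfl v₀ hv₀
        rw [hPm, card_map_of_injective C.subtype_injective] at h
        omega
      have hfix := B.conj_fix_of_small hP3 hlt (y := y₁) (Subtype.ext hy7)
      have hyF : y₁ ∈ Cfsg.fittingSubgroup C :=
        Components.centralizer_fittingSubgroup_le (mem_centralizer_iff.mpr fun f hf =>
          (hfix f (hFP hf)).symm)
      obtain ⟨k, hk⟩ := IsPGroup.iff_orderOf.mp hP3 ⟨y₁, hFP hyF⟩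
      rw [Subgroup.orderOf_mk, hy₁o] at hk
      rcases k with _ | k
      · simp at hk
      · rw [pow_succ] at hk; omega
    · have hle : Cfsg.pCore 7 C ≤ zpowers y₁ := by
        have hp : IsPGroup 7 ↥(zpowers y₁ ⊔ Cfsg.pCore 7 C) :=
          (IsPGroup.of_card (n := 1) (by rw [Nat.card_zpowers, hy₁o, pow_one]) :
            IsPGroup 7 (zpowers y₁)).to_sup_of_normal_right PCore.isPGroup_pCore
        obtain ⟨k, hk⟩ := IsPGroup.iff_card.mp hp
        have hk1 := hk7le _ k hk
        have he : zpowers y₁ = zpowers y₁ ⊔ Cfsg.pCore 7 C := by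
          refine Subgroup.eq_of_le_of_card_ge le_sup_left ?_
          rw [hk, Nat.card_zpowers, hy₁o]
          exact Nat.pow_le_pow_right (by norm_num) hk1 |>.trans (by norm_num)
        rw [he]; exact le_sup_right
      have heq : Cfsg.pCore 7 C = zpowers y₁ := by
        refine Subgroup.eq_of_le_of_card_ge hle ?_
        rw [Nat.card_zpowers, hy₁o, hk7]
        rcases k7 with _ | k
        · exfalso
          rw [pow_zero, Subgroup.card_eq_one] at hk7
          exact hO7 hk7
        · exact Nat.le_self_pow (Nat.succ_ne_zero k) 7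
      intro c hc
      have h := (inferInstance : (Cfsg.pCore 7 C).Normal).conj_mem y₁
        (heq ▸ mem_zpowers y₁) ⟨c, hc⟩
      rw [heq] at h
      obtain ⟨i, hi⟩ := mem_zpowers_iff.mp h
      exact mem_zpowers_iff.mpr ⟨i, by simpa [hy₁] using congrArg Subtype.val hi⟩
  -- the index of `A` in `C`
  have hm : A.relIndex C ≤ 6 := by
    classical
    let f : C ⧸ A.subgroupOf C → {u : zpowers y // u ≠ 1} := Quotient.lift
      (fun c : C => ⟨⟨(c : Γ) * y * (c : Γ)⁻¹, hnorm c c.2⟩,
        fun h => hy1 (conj_eq_one_iff.mp (congrArg Subtype.val h :))⟩) (by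
      intro c d hcd
      have h : (c : Γ)⁻¹ * d ∈ A := mem_subgroupOf.mp (QuotientGroup.leftRel_apply.mp hcd)
      refine Subtype.ext (Subtype.ext ?_)
      show (c : Γ) * y * (c : Γ)⁻¹ = (d : Γ) * y * (d : Γ)⁻¹
      calc (c : Γ) * y * (c : Γ)⁻¹
          = (c : Γ) * (((c : Γ)⁻¹ * d) * y * ((c : Γ)⁻¹ * d)⁻¹) * (c : Γ)⁻¹ := by
            rw [hAy _ h, mul_inv_cancel_right]
        _ = _ := by group)
    have hf : Function.Injective f := by
      rintro ⟨c⟩ ⟨d⟩ h
      have h' : (c : Γ) * y * (c : Γ)⁻¹ = (d : Γ) * y * (d : Γ)⁻¹ :=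
        congrArg (fun u => ((u : zpowers y) : Γ)) (congrArg Subtype.val h :)
      refine Quotient.sound (QuotientGroup.leftRel_apply.mpr (mem_subgroupOf.mpr
        ⟨(c⁻¹ * d).2, mem_cent.mpr ?_⟩))
      calc (c : Γ)⁻¹ * d * y * ((c : Γ)⁻¹ * d)⁻¹
          = (c : Γ)⁻¹ * ((d : Γ) * y * (d : Γ)⁻¹) * c := by group
        _ = y := by rw [← h']; group
    have h := Nat.card_le_card_of_injective f hf
    haveI : Fintype (zpowers y) := Fintype.ofFinite _
    rw [Nat.card_eq_fintype_card (α := {u : zpowers y // u ≠ 1}), Fintype.card_subtype_compl,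
      Fintype.card_subtype_eq, ← Nat.card_eq_fintype_card, Nat.card_zpowers, hyo] at h
    rwa [← index_eq_card] at h
  have h5 : ¬ 5 ∣ Nat.card C := by
    haveI : Fact (Nat.Prime 5) := ⟨by norm_num⟩
    intro h
    obtain ⟨c, hc⟩ := exists_prime_orderOf_dvd_card' 5 h
    have hc5 : (c : Γ) ^ 5 = 1 := by
      have h := pow_orderOf_eq_one (c : Γ)
      rwa [Subgroup.orderOf_coe, hc] at h
    obtain ⟨a, ha⟩ := mem_zpowers_iff.mp (hnorm c c.2)
    have hpw : ∀ n : ℕ, (c : Γ) ^ n * y * ((c : Γ) ^ n)⁻¹ = y ^ (a ^ n) := by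
      intro n
      induction n with
      | zero => simp
      | succ n ih =>
        calc (c : Γ) ^ (n + 1) * y * ((c : Γ) ^ (n + 1))⁻¹
            = (c : Γ) * ((c : Γ) ^ n * y * ((c : Γ) ^ n)⁻¹) * (c : Γ)⁻¹ := by
              rw [pow_succ']; simp [mul_assoc]
          _ = y ^ (a ^ (n + 1)) := by rw [ih, ← conj_zpow, ← ha, ← zpow_mul, pow_succ']
    have h1 := hpw 5
    rw [hc5, one_mul, inv_one, mul_one] at h1
    have hd : (7 : ℤ) ∣ a ^ 5 - 1 := by
      have : (orderOf y : ℤ) ∣ a ^ 5 - 1 := by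
        rw [orderOf_dvd_iff_zpow_eq_one, zpow_sub_one, ← h1, mul_inv_cancel]
      rwa [hyo] at this
    have hd' : (7 : ℤ) ∣ a - 1 := by
      have h0 : (((a ^ 5 - 1 : ℤ)) : ZMod 7) = 0 :=
        (ZMod.intCast_zmod_eq_zero_iff_dvd _ 7).mpr hd
      push_cast at h0
      have := zmod_seven_fifth _ h0
      refine (ZMod.intCast_zmod_eq_zero_iff_dvd _ 7).mp ?_
      push_cast
      exact this
    have hcy : (c : Γ) * y * (c : Γ)⁻¹ = y := by
      have h : y ^ (a - 1) = 1 := by
        rw [← orderOf_dvd_iff_zpow_eq_one, hyo]; exact_mod_cast hd'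
      rw [← ha, ← mul_inv_eq_one, ← zpow_sub_one, h]
    have hcA : (c : Γ) ∈ A := ⟨c.2, mem_cent.mpr hcy⟩
    have := Subgroup.orderOf_dvd_natCard A hcA
    rw [Subgroup.orderOf_coe, hc] at this
    omega
  have hCA : A.relIndex C * Nat.card A = Nat.card C := by
    rw [mul_comm]; exact card_mul_rel inf_le_left
  have hxin : ∀ R : Subgroup Γ, Nat.card R = 9 → R ≤ C → (∀ Q : Subgroup Γ, R ≤ Q → Q ≤ R ⊔
      zpowers x → IsPGroup 3 Q → Nat.card Q ∣ 63) → x ∈ R := by
    intro R hR hRC hmax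
    have hn : zpowers x ≤ normalizer (R : Set Γ) := by
      rw [zpowers_le]
      refine centralizer_le_normalizer _ (mem_centralizer_iff.mpr fun r hr => ?_)
      exact mem_centralizer_singleton_iff.mp (hRC hr)
    have hp : IsPGroup 3 ↥(R ⊔ zpowers x) :=
      (IsPGroup.of_card (n := 2) (by rw [hR]; norm_num) : IsPGroup 3 R).to_sup_of_normal_left'
        (IsPGroup.of_card (n := 1) (by rw [Nat.card_zpowers, ho, pow_one]) :
          IsPGroup 3 (zpowers x)) hn
    obtain ⟨k, hk⟩ := IsPGroup.iff_card.mp hp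
    have hle := le_of_pow_three_dvd hk (hmax _ le_sup_left le_rfl hp)
    rw [Subgroup.eq_of_le_of_card_ge (le_sup_left : R ≤ R ⊔ zpowers x) (hR.symm ▸ hle)]
    exact mem_sup_right (mem_zpowers x)
  rcases hAcases with hA21 | hA63
  · -- the centraliser is regular
    have hC63 : Nat.card C = 63 := by
      have h63C : 63 ∣ Nat.card C := ⟨_, hCcard⟩
      rw [hA21] at hCA
      obtain ⟨m, hmodd⟩ := hCo
      obtain ⟨r, hr⟩ : ∃ r, r = A.relIndex C := ⟨_, rfl⟩
      rw [← hr] at hCA hm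
      interval_cases r <;> omega
    have hCfree : ∀ u ∈ C, ∀ v : V, v ≠ 1 → u • v = v → u = 1 := by
      intro u hu v hv h
      have hs : stabilizer C v = ⊥ := by
        have := (stabilizer C v).card_mul_index
        rw [hidx v hv, hC63] at this
        exact Subgroup.card_eq_one.mp (by omega)
      have h1 : (⟨u, hu⟩ : C) ∈ stabilizer C v := h
      rw [hs, mem_bot] at h1
      exact congrArg (fun c : C => (c : Γ)) h1
    obtain ⟨R, hR⟩ := hsyl (q := 3) (by norm_num) hx
    have hR9 : Nat.card R = 9 := by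
      obtain ⟨k, hk⟩ := IsPGroup.iff_card.mp R.2
      have hd : Nat.card R ∣ 63 := hC63 ▸ card_dvd_of_le hR
      have hle := le_of_pow_three_dvd hk hd
      have h9 : 9 ∣ Nat.card R := by
        have := (R : Subgroup Γ).card_mul_index
        have h9Γ : 3 ^ 2 ∣ Nat.card R * (R : Subgroup Γ).index := by
          rw [this]; exact (show 3 ^ 2 ∣ 63 by norm_num).trans h63
        exact (Nat.Coprime.dvd_of_dvd_mul_right (Nat.Coprime.pow_left 2
          ((Fact.out : Nat.Prime 3).coprime_iff_not_dvd.2 R.not_dvd_index)) h9Γ)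
      exact le_antisymm hle (Nat.le_of_dvd Nat.card_pos h9)
    have hxR : x ∈ (R : Subgroup Γ) := hxin R hR9 hR fun Q _ hQ _ => hC63 ▸
      card_dvd_of_le (hQ.trans (sup_le hR (zpowers_le.mpr (mem_centralizer_singleton_iff.mpr rfl))))
    obtain ⟨g, hgR, hg9, hRg⟩ := B.exists_generator_nine hx ho hR9
      (fun u hu => mem_centralizer_singleton_iff.mp (hR hu)) hxR (fun u hu => hCfree u (hR hu))
    -- `g` is real
    obtain ⟨t, ht⟩ := isConj_iff.mp hx.1
    have hu : t * g * t⁻¹ ∈ C := by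
      rw [hC, mem_cent]
      have hg' : g * x * g⁻¹ = x := mem_cent.mp (hR hgR)
      calc t * g * t⁻¹ * x * (t * g * t⁻¹)⁻¹
          = t * (g * (t⁻¹ * x⁻¹ * t)⁻¹ * g⁻¹) * t⁻¹ := by group
        _ = t * (g * x * g⁻¹)⁻¹ * t⁻¹ := by rw [← ht]; group
        _ = (t * x * t⁻¹)⁻¹ := by rw [hg']; group
        _ = x := by rw [ht, inv_inv]
    obtain ⟨c, hc, hcu⟩ := conj_into hR hu
      ⟨2, by rw [← MulAut.conj_apply, MulEquiv.orderOf_eq, hg9]; norm_num⟩
    rw [hRg] at hcu
    obtain ⟨a, ha⟩ := mem_zpowers_iff.mp hcu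
    obtain ⟨s, hsdef⟩ : ∃ s : Γ, s = c * t := ⟨_, rfl⟩
    have hsg : s * g * s⁻¹ = g ^ a := by rw [ha, hsdef]; group
    have hsx : s * x * s⁻¹ = x⁻¹ := by
      rw [hsdef]
      calc c * t * x * (c * t)⁻¹ = c * (t * x * t⁻¹) * c⁻¹ := by group
        _ = (c * x * c⁻¹)⁻¹ := by rw [ht]; group
        _ = x⁻¹ := by rw [mem_cent.mp hc]
    have hxg : x ∈ zpowers g := hRg ▸ hxR
    obtain ⟨i, hi⟩ := mem_zpowers_iff.mp hxg
    have hx3 : x ^ (3 : ℤ) = 1 := by
      have h := pow_orderOf_eq_one x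
      rw [ho] at h
      exact_mod_cast h
    have hi3 : (9 : ℤ) ∣ i * 3 := by
      have : (orderOf g : ℤ) ∣ i * 3 := by rw [orderOf_dvd_iff_zpow_eq_one, zpow_mul, hi, hx3]
      rwa [hg9] at this
    have hi9 : ¬ (9 : ℤ) ∣ i := fun h => hx.2.1 (by
      rw [← hi, ← orderOf_dvd_iff_zpow_eq_one, hg9]; exact_mod_cast h)
    have hai : (9 : ℤ) ∣ i * (a + 1) := by
      have : (orderOf g : ℤ) ∣ i * (a + 1) := by
        rw [orderOf_dvd_iff_zpow_eq_one, mul_add, mul_one, zpow_add, mul_comm i a, zpow_mul,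
          ← hsg, conj_zpow, hi, hsx, inv_mul_cancel]
      rwa [hg9] at this
    have ha1 : (3 : ℤ) ∣ a + 1 := by
      obtain ⟨j, rfl⟩ : (3 : ℤ) ∣ i := by omega
      have hj : ¬ (3 : ℤ) ∣ j := fun h => hi9 (by omega)
      have h2 : (3 : ℤ) ∣ j * (a + 1) := by
        rw [mul_assoc] at hai
        omega
      exact ((Nat.prime_iff_prime_int.mp Nat.prime_three).dvd_or_dvd h2).resolve_left hj
    have hg3 : s ^ 3 * g * (s ^ 3)⁻¹ = g⁻¹ := by
      have e : s ^ 3 * g * (s ^ 3)⁻¹ = g ^ (a * a * a) := by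
        calc s ^ 3 * g * (s ^ 3)⁻¹ = s * (s * (s * g * s⁻¹) * s⁻¹) * s⁻¹ := by
              simp [pow_succ, mul_assoc]
          _ = g ^ (a * a * a) := by
              rw [hsg, ← conj_zpow, hsg, ← zpow_mul, ← conj_zpow, hsg, ← zpow_mul, mul_assoc]
      rw [e, eq_comm, inv_eq_iff_mul_eq_one, ← zpow_one_add,
        ← orderOf_dvd_iff_zpow_eq_one, hg9]
      obtain ⟨b, hb⟩ := ha1
      refine ⟨3 * b * b * b - 3 * b * b + b, ?_⟩
      rw [show a = 3 * b - 1 by omega]
      push_cast
      ring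
    have hgreal : RealPP g := ⟨isConj_iff.mpr ⟨s ^ 3, hg3⟩,
      fun h => by rw [h, orderOf_one] at hg9; omega, 3, 2, Nat.prime_three, by norm_num,
      by rw [hg9]; norm_num⟩
    obtain ⟨S, hS⟩ := hsyl (q := 7) (by norm_num) hgreal
    obtain ⟨y', hy'⟩ := exists_prime_orderOf_dvd_card' 7
      (S.dvd_card_of_dvd_card ((show 7 ∣ 63 by norm_num).trans h63))
    have hy'g : Commute (y' : Γ) g := mem_centralizer_singleton_iff.mp (hS y'.2)
    refine ⟨g, y', hg9, by rw [Subgroup.orderOf_coe, hy'], hy'g.symm.eq, ?_,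
      fun u hu => hCfree u (hR (hRg ▸ hu))⟩
    rw [← hi]
    exact (hy'g.zpow_right i).eq
  · obtain ⟨R₀, hR₀⟩ := Sylow.exists_subgroup_card_pow_prime (G := A) 3 (n := 2)
      (by rw [hA63]; norm_num)
    set R : Subgroup Γ := R₀.map A.subtype with hRdef
    have hRA : R ≤ A := map_subtype_le _
    have hR9 : Nat.card R = 9 := by
      rw [hRdef, card_map_of_injective A.subtype_injective, hR₀]; norm_num
    have hxR : x ∈ R := hxin R hR9 (hRA.trans inf_le_left) fun Q _ hQ _ => hA63 ▸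
      card_dvd_of_le (hQ.trans (sup_le hRA (zpowers_le.mpr hxA)))
    obtain ⟨g, hgR, hg9, hRg⟩ := B.exists_generator_nine hx ho hR9
      (fun u hu => hAx u (hRA hu)) hxR (fun u hu => hAfree u (hRA hu))
    exact ⟨g, y, hg9, hyo, hAy g (hRA hgR), hyx,
      fun u hu => hAfree u (hRA (hRg ▸ hu))⟩

theorem false_of_six (hV' : Nat.card V = 2 ^ 6) : False := by
  have hV : Nat.card V = 64 := by rw [hV']; norm_num
  haveI : Fact (Nat.Prime 7) := ⟨by norm_num⟩
  obtain ⟨v, hv⟩ := B.exists_ne_one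
  obtain ⟨T, hT⟩ := B.exists_sylow_fix v
  obtain ⟨j, hj0, hj6, hj, heq⟩ := B.exists_fibre_exp hV' T
  obtain ⟨z, hz⟩ := B.exists_realPP
  obtain ⟨n, hx, hxp⟩ := exists_realPP_pow hz.1 hz.odd hz.2.1
  have ho := B.order_three hV hx hxp
  set x := z ^ n with hxdef
  by_cases hj3 : j = 3
  · refine B.false_of_unique_fixed fun u hu hu1 S S' hS hS' => ?_
    by_contra hne
    have hfix : ∀ {U : Sylow 2 Γ}, u • U = U → fixedPts V U ≤ fixSub V u := fun hU w hw =>
      hw u (mem_of_smul_eq (invol_two_power hu) hU)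
    have hcard : ∀ U : Sylow 2 Γ, Nat.card (fixedPts V U) = 8 := by
      intro U
      obtain ⟨i, hi0, hi6, hi, hieq⟩ := B.exists_fibre_exp hV' U
      have h : 2 ^ i - 1 = 2 ^ j - 1 := Nat.eq_of_mul_eq_mul_left
        (by have := B.three_le_card; omega) (hieq.trans heq.symm)
      rw [hj3] at h
      rw [hi]
      interval_cases i <;> simp_all
    have hdisj : Function.Injective
        (fun p : fixedPts V S × fixedPts V S' =>
          (⟨(p.1 : V) * p.2, mul_mem (hfix hS p.1.2) (hfix hS' p.2.2)⟩ : fixSub V u)) := by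
      rintro ⟨a, b⟩ ⟨c, d⟩ h
      have h' : (a : V) * b = c * d := congrArg Subtype.val h
      have h1 : (c : V)⁻¹ * a = d * (b : V)⁻¹ := by
        calc (c : V)⁻¹ * a = (c : V)⁻¹ * (a * b) * (b : V)⁻¹ := by group
          _ = d * (b : V)⁻¹ := by rw [h']; group
      have h2 : (c : V)⁻¹ * a = 1 := by
        by_contra hne1
        exact hne (B.sylow_fix_unique hne1 (mul_mem (inv_mem c.2) a.2)
          (h1 ▸ mul_mem d.2 (inv_mem b.2)))
      rw [h2] at h1
      exact Prod.ext (Subtype.ext (inv_mul_eq_one.mp h2).symm)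
        (Subtype.ext (mul_inv_eq_one.mp h1.symm).symm)
    have h := Nat.card_le_card_of_injective _ hdisj
    rw [Nat.card_prod, hcard, hcard] at h
    refine hu1 (B.eq_one_of_fix fun w _ => ?_)
    have : w ∈ fixSub V u := by
      rw [Subgroup.eq_top_of_card_eq (fixSub V u)
        (le_antisymm (fixSub V u).card_le_card_group (by rw [hV]; exact h))]
      exact mem_top w
    exact this
  have h7 : 7 ∣ Nat.card (Sylow 2 Γ) := by interval_cases j <;> omega
  have hcases : (j = 1 ∧ Nat.card (Sylow 2 Γ) = 63) ∨ (j = 2 ∧ Nat.card (Sylow 2 Γ) = 21) := by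
    interval_cases j <;> omega
  refine B.false_of_unique_fixed (B.unique_fixed ?_ (B.no_commuting_involutions hV))
  rcases hcases with ⟨rfl, hn⟩ | ⟨rfl, hn⟩
  · -- regular element of order 63
    have hnv : ∀ w : V, w ≠ 1 → (stabilizer Γ w).index = 63 := by
      intro w hw
      classical
      haveI : Fintype V := Fintype.ofFinite V
      refine le_antisymm ?_ (hn ▸ Nat.le_of_dvd (Nat.pos_of_ne_zero index_ne_zero_of_finite)
        (B.card_sylow_dvd hw))
      rw [index_stabilizer]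
      have hsub : orbit Γ w ⊆ ({1} : Set V)ᶜ := by
        rintro _ ⟨g, rfl⟩ h
        have h' : g • w = 1 := h
        rw [smul_eq_iff_eq_inv_smul, smul_one] at h'
        exact hw h'
      refine (Set.ncard_le_ncard hsub).trans (le_of_eq ?_)
      rw [Set.ncard_compl, Set.ncard_singleton, hV]
    obtain ⟨g, y, hg, hy, hgy, hyx, hfree⟩ := B.exists_nine_seven hV hnv hx ho
    have hw : orderOf (g * y) = 63 := by
      rw [(show Commute g y from hgy).orderOf_mul_eq_mul_orderOf_of_coprime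
        (by rw [hg, hy]; norm_num), hg, hy]
    refine B.two_trans_of_free T (g * y) (hn.trans hw.symm) fun u hu huT => ?_
    obtain ⟨i, rfl⟩ := mem_zpowers_iff.mp hu
    have hfixv : (g * y) ^ i • v = v := by
      have hmem := smul_mem_fixedPts hT ((g * y) ^ i)
      rw [huT] at hmem
      have hT2 : fixedPts V T = zpowers v := by
        refine (Subgroup.eq_of_le_of_card_ge (zpowers_le.mpr hT) ?_).symm
        rw [hj, Nat.card_zpowers, orderOf_eq_prime (p := 2) (by rw [pow_two, B.hyp.exp2]) hv]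
        norm_num
      rw [hT2] at hmem
      obtain ⟨k, hk⟩ := mem_zpowers_iff.mp hmem
      rcases Int.even_or_odd' k with ⟨m, rfl | rfl⟩
      · rw [zpow_mul, zpow_two, B.hyp.exp2, one_zpow] at hk
        exact absurd (by rwa [eq_comm, smul_eq_iff_eq_inv_smul, smul_one] at hk) hv
      · rw [zpow_add_one, zpow_mul, zpow_two, B.hyp.exp2, one_zpow, one_mul] at hk
        exact hk.symm
    have hc : Commute g y := hgy
    have hg9 : g ^ 9 = 1 := by
      have h := pow_orderOf_eq_one g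
      rwa [hg] at h
    have hy7 : y ^ 7 = 1 := by
      have h := pow_orderOf_eq_one y
      rwa [hy] at h
    have e7 : ((g * y) ^ i) ^ 7 = (g ^ 7) ^ i := by
      rw [← zpow_natCast, ← zpow_mul, mul_comm, zpow_mul, zpow_natCast, hc.mul_pow, hy7, mul_one]
    have e9 : ((g * y) ^ i) ^ 9 = (y ^ 9) ^ i := by
      rw [← zpow_natCast, ← zpow_mul, mul_comm, zpow_mul, zpow_natCast, hc.mul_pow, hg9, one_mul]
    have h7' : ((g * y) ^ i) ^ 7 = 1 := by
      rw [e7]
      exact hfree _ (zpow_mem (pow_mem (mem_zpowers g) 7) i) v hv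
        (e7 ▸ smul_pow_fix hfixv 7)
    have h9' : ((g * y) ^ i) ^ 9 = 1 := by
      rw [e9]
      by_contra hne
      refine B.seven_fpf hV hx ho ?_ (k := 1) ?_ hne hv (e9 ▸ smul_pow_fix hfixv 9)
      · exact (((show Commute y x from hyx).pow_left 9).zpow_left i).eq
      · rw [pow_one, ← zpow_natCast, ← zpow_mul, mul_comm, zpow_mul, zpow_natCast, ← pow_mul,
          mul_comm 9, pow_mul, hy7, one_pow, one_zpow]
    simpa using pow_gcd_eq_one.mpr ⟨h7', h9'⟩
  · -- regular element of order 21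
    have hnd : ¬ 7 ∣ csize x := fun h => (show Nat.Prime 7 by norm_num).not_dvd_one
      ((B.hyp.coprime x hx v hv) ▸ Nat.dvd_gcd h (h7.trans (B.card_sylow_dvd hv)))
    obtain ⟨S, hS⟩ := exists_sylow_le 7 hnd
    obtain ⟨y, hy⟩ := exists_prime_orderOf_dvd_card' 7
      (S.dvd_card_of_dvd_card ((h7.trans (B.card_sylow_dvd hv)).trans (index_dvd_card _)))
    obtain ⟨y, hyC, hyo⟩ : ∃ y' : Γ, y' ∈ centralizer ({x} : Set Γ) ∧ orderOf y' = 7 :=
      ⟨(y : Γ), hS y.2, by rw [Subgroup.orderOf_coe, hy]⟩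
    have hc : Commute x y := (mem_centralizer_singleton_iff.mp hyC).symm
    have hw : orderOf (x * y) = 21 := by
      rw [hc.orderOf_mul_eq_mul_orderOf_of_coprime (by rw [ho, hyo]; norm_num), ho, hyo]
    refine B.two_trans_of_free T (x * y) (hn.trans hw.symm) fun u hu huT => ?_
    obtain ⟨i, rfl⟩ := mem_zpowers_iff.mp hu
    have hy7 : y ^ 7 = 1 := by
      have h := pow_orderOf_eq_one y
      rwa [hyo] at h
    have e7 : ((x * y) ^ i) ^ 7 = (x ^ 7) ^ i := by
      rw [← zpow_natCast, ← zpow_mul, mul_comm, zpow_mul, zpow_natCast, hc.mul_pow, hy7, mul_one]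
    have h7u : ((x * y) ^ i) ^ 7 = 1 := by
      rw [e7]
      refine B.realPP_pow_fix_sylow hx (T := T) (zpow_mem (pow_mem (mem_zpowers x) 7) i) ?_
      rw [← e7]
      exact mem_stabilizer_iff.mp (pow_mem (mem_stabilizer_iff.mpr huT) 7)
    have h := fix_modEq (p := 7) (n := 1) (y := (x * y) ^ i) (by rw [pow_one, h7u])
      (fixedPts V T) fun w hw => huT ▸ smul_mem_fixedPts hw _
    rw [hj] at h
    by_contra hne
    obtain ⟨w, hw, hw1⟩ : ∃ w ∈ fixedPts V T ⊓ fixSub V ((x * y) ^ i), w ≠ 1 := by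
      by_contra hall
      push Not at hall
      rw [show fixedPts V T ⊓ fixSub V ((x * y) ^ i) = ⊥ from
        eq_bot_iff.mpr fun w hw => mem_bot.mpr (hall w hw), card_bot] at h
      simp [Nat.ModEq] at h
    refine B.seven_fpf hV hx ho ?_ (k := 1) (by rw [pow_one, h7u]) hne hw1 (mem_fixSub.mp hw.2)
    exact ((((Commute.refl x).mul_left hc.symm)).zpow_left i).eq

theorem false_of_minBad : False := by
  obtain ⟨D, hD⟩ := IsPGroup.iff_card.mp (isPGroup_of_exp_two B.hyp.exp2)
  rcases eq_or_ne D 6 with rfl | h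
  · exact B.false_of_six hD
  · exact B.false_of_dim_ne_six hD h

end MinBad

end Cfsg.Agent.RealGraph
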