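import Cfsg.Agent.Lib.RealGraph.Reduce
import Cfsg.Agent.Lib.RealGraph.SixMain

/-!
# A group with disconnected prime graph on real class sizes is solvable
-/

set_option autoImplicit false
set_option linter.unusedSectionVars false

namespace Cfsg.Agent.RealGraph

open Subgroup MulAction

universe u v

/-- A group with the module hypotheses is solvable. -/
theorem isSolvable_of_modHyp {V : Type v} [Group V] [Finite V] :
    ∀ (n : ℕ) (Γ : Type u) [Group Γ] [Finite Γ] [MulDistribMulAction Γ V] [FaithfulSMul Γ V],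
      Nat.card Γ = n → ModHyp Γ V → Group.IsSolvable Γ := by
  intro n
  induction n using Nat.strong_induction_on with
  | _ n ih =>
    intro Γ _ _ _ _ hn hH
    by_contra hns
    refine (MinBad.false_of_minBad (Γ := Γ) (V := V) ⟨hH, hns, fun H hHtop hHH => ?_⟩)
    exact ih (Nat.card H) (hn ▸ lt_of_le_of_ne H.card_le_card_group
      (fun he => hHtop (Subgroup.eq_top_of_card_eq H he))) H rfl hHH

variable {G : Type u} [Group G] [Finite G]

theorem noRealOdd_centralizer {π₁ π₂ : Set ℕ} (S : Split G π₁ π₂) (h2 : 2 ∈ π₁) {v : G}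
    (hv : InB π₂ v) : NoRealOdd (centralizer ({v} : Set G)) := by
  intro x hx ho
  by_contra hx1
  obtain ⟨t, ht⟩ := isConj_iff.mp hx
  refine S.not_commute h2 hv (x := (x : G))
    (isConj_iff.mpr ⟨t, by simpa using congrArg Subtype.val ht⟩)
    (by rwa [Subgroup.orderOf_coe]) (fun h => hx1 (Subtype.ext h)) ?_
  exact (mem_centralizer_singleton_iff.mp x.2).symm

theorem isSolvable_of_module {π₁ π₂ : Set ℕ} (S : Split G π₁ π₂) (h2 : 2 ∈ π₁) (V : Subgroup G)
    [V.Normal] (hne : V ≠ ⊥) (hV : ∀ v ∈ V, v * v = 1 ∧ (v ≠ 1 → InB π₂ v)) :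
    Group.IsSolvable G := by
  haveI : Fact (Nat.Prime 2) := ⟨Nat.prime_two⟩
  set f : G →* MulAut V := MulAut.conjNormal
  have hf : ∀ (g : G) (w : V), ((f.rangeRestrict g • w : V) : G) = g * w * g⁻¹ := fun g w =>
    MulAut.conjNormal_apply g w
  have hB : ∀ w : V, w ≠ 1 → InB π₂ (w : G) := fun w hw =>
    (hV w w.2).2 fun h => hw (Subtype.ext h)
  have hstab : ∀ w : V, (stabilizer f.range w).comap f.rangeRestrict = centralizer {(w : G)} := by
    intro w
    ext g
    rw [mem_comap, mem_stabilizer_iff, mem_cent, Subtype.ext_iff, hf]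
  have hidx : ∀ w : V, (stabilizer f.range w).index = csize (w : G) := fun w => by
    rw [csize, ← hstab, index_comap_of_surjective _ f.rangeRestrict_surjective]
  have hhyp : ModHyp f.range V := by
    refine ⟨fun w => Subtype.ext (hV w w.2).1, fun w => ?_, fun w hw => ?_, fun x hx w hw => ?_⟩
    · rcases eq_or_ne w 1 with rfl | hw
      · rw [show stabilizer f.range (1 : V) = ⊤ from eq_top_iff.mpr fun a _ =>
          mem_stabilizer_iff.mpr (smul_one a), index_top]
        decide
      · rw [hidx]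
        exact S.odd_of_side_two h2 (hB w hw).2.2
    · obtain ⟨K, hKn, hK, hKi⟩ :=
        RealTwoPart.exists_normal_two_subgroup (noRealOdd_centralizer S h2 (hB w hw))
      let φ : centralizer ({(w : G)} : Set G) →* stabilizer f.range w :=
        (f.rangeRestrict.comp (centralizer ({(w : G)} : Set G)).subtype).codRestrict _ fun s => by
          exact (SetLike.ext_iff.mp (hstab w) (s : G)).mpr s.2
      have hφ : Function.Surjective φ := by
        rintro ⟨a, ha⟩
        obtain ⟨g, rfl⟩ := f.rangeRestrict_surjective a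
        exact ⟨⟨g, by rw [← hstab]; exact ha⟩, rfl⟩
      haveI : (K.map φ).Normal := hKn.map φ hφ
      exact noRealOdd_of_normal_two (K.map φ) (hK.map φ)
        fun h => hKi (h.trans (index_map_dvd (H := K) hφ))
    · obtain ⟨hxc, hx1, q, k, hq, hq2, ho⟩ := hx
      let e := QuotientGroup.quotientKerEquivRange f
      obtain ⟨t, ht⟩ := isConj_iff.mp hxc
      obtain ⟨e₀, he, ⟨m, hm⟩, hex⟩ := exists_real_lift (N := f.ker) (x := e.symm x)
        (isConj_iff.mpr ⟨e.symm t, by rw [← map_inv, ← map_mul, ← map_mul, ht, map_inv]⟩) hq hq2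
        (by rw [MulEquiv.orderOf_eq, ho])
      have hfx : f.rangeRestrict e₀ = x := by
        have h := congrArg e hex
        rw [MulEquiv.apply_symm_apply] at h
        rw [← h]
        rfl
      have he1 : e₀ ≠ 1 := fun h => hx1 (by rw [← hfx, h, map_one])
      have heo : Odd (orderOf e₀) := hm ▸ (hq.odd_of_ne_two hq2).pow
      rw [hidx, ← hfx]
      exact (S.cop_inB h2 (hB w hw) he heo he1).symm.coprime_dvd_left
        (csize_map_dvd _ f.rangeRestrict_surjective e₀)
  haveI := isSolvable_of_modHyp (V := V) _ f.range rfl hhyp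
  obtain ⟨w₀, hw₀, hw⟩ := (bot_or_exists_ne_one V).resolve_left hne
  obtain ⟨w, hweq⟩ : ∃ w : V, (w : G) = w₀ := ⟨⟨w₀, hw₀⟩, rfl⟩
  subst hweq
  haveI : Group.IsSolvable (centralizer ({(w : G)} : Set G)) :=
    isSolvable_of_noRealOdd (noRealOdd_centralizer S h2 ((hV _ w.2).2 hw))
  have hker : f.ker ≤ centralizer ({(w : G)} : Set G) := fun g hg => by
    rw [mem_cent, ← hf g w]
    exact congrArg Subtype.val (congrArg (fun a : MulAut V => a w) (MonoidHom.mem_ker.mp hg) :)
  haveI : Group.IsSolvable f.ker :=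
    Group.isSolvable_of_isSolvable_injective (inclusion_injective hker)
  exact Group.isSolvable_of_ker_le_range f.ker.subtype f.rangeRestrict
    (by rw [MonoidHom.ker_rangeRestrict, range_subtype])

theorem Split.isSolvable {π₁ π₂ : Set ℕ} (S : Split G π₁ π₂) : Group.IsSolvable G := by
  by_cases hno : NoRealOdd G
  · exact isSolvable_of_noRealOdd hno
  obtain ⟨x, hx, -⟩ := exists_realPP hno
  have key : ∀ {ρ₁ ρ₂ : Set ℕ}, Split G ρ₁ ρ₂ → 2 ∈ ρ₁ → Group.IsSolvable G := by
    intro ρ₁ ρ₂ S h2
    by_cases hO : ∀ z : G, InB ρ₂ z → z ∈ Cfsg.pCore 2 G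
    · obtain ⟨V, hVn, hne, hV⟩ := S.exists_module h2 hO hno
      exact isSolvable_of_module S h2 V hne hV
    · push Not at hO
      obtain ⟨z, hz, hnot⟩ := hO
      exact S.isSolvable_of_not_mem h2 hz hnot
  rcases S.two_mem hx.1 hx.odd hx.2.1 with h2 | h2
  · exact key S h2
  · exact key S.symm h2

end Cfsg.Agent.RealGraph
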