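import Cfsg.Agent.Lib.RealGraph.Hyp
import Cfsg.Agent.Lib.FTConsumers.CoprimeClasses
import Cfsg.Agent.Lib.ZStar.Main
import Cfsg.Agent.Lib.ZStar.Consumers
import Mathlib.GroupTheory.GroupAction.MultipleTransitivity

/-!
A minimal example in which every involution fixes one Sylow 2-subgroup only has an isolated
involution; this is the case when the action on the Sylow 2-subgroups is 2-transitive and no real
element of odd order commutes with an involution commuting with one inverting it.
-/

set_option autoImplicit false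
set_option linter.unusedSectionVars false

namespace Cfsg.Agent.RealGraph

open Subgroup MulAction
open scoped Pointwise

variable {Γ V : Type*} [Group Γ] [Finite Γ] [Group V] [MulDistribMulAction Γ V] [FaithfulSMul Γ V]

namespace MinBad

variable (B : MinBad Γ V)
include B

theorem invol_has_fixed {z : Γ} (hz : z * z = 1) : ∃ T : Sylow 2 Γ, z • T = T := by
  obtain ⟨k, hk⟩ := invol_two_power hz
  obtain ⟨T, hT⟩ := (IsPGroup.of_card (n := k) (by rw [Nat.card_zpowers, hk]) :
    IsPGroup 2 (zpowers z)).exists_le_sylow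
  exact ⟨T, smul_eq_of_mem (hT (mem_zpowers z))⟩

/-- Two involutions exchanging the same two points are equal. -/
theorem swap_eq (hone : ∀ z : Γ, z * z = 1 → z ≠ 1 → ∀ S T : Sylow 2 Γ,
      z • S = S → z • T = T → S = T)
    {s s' : Γ} (hs : s * s = 1) (hs' : s' * s' = 1) {S T : Sylow 2 Γ} (hST : S ≠ T)
    (h : s • S = T) (h' : s' • S = T) : s = s' := by
  have hsT : s • T = S := by rw [← h, smul_smul, hs, one_smul]
  have hsT' : s' • T = S := by rw [← h', smul_smul, hs', one_smul]
  set d := s * s' with hd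
  have hdS : d • S = S := by rw [hd, mul_smul, h', hsT]
  have hdT : d • T = T := by rw [hd, mul_smul, hsT', h]
  suffices d = 1 by
    have := eq_inv_of_mul_eq_one_left this
    rw [this, inv_eq_of_mul_eq_one_right hs']
  by_contra hd1
  have hdinv : s * d * s⁻¹ = d⁻¹ := by
    rw [hd, inv_eq_of_mul_eq_one_right hs, mul_inv_rev, inv_eq_of_mul_eq_one_right hs,
      inv_eq_of_mul_eq_one_right hs', ← mul_assoc s s, hs, one_mul]
  by_cases heven : 2 ∣ orderOf d
  · set e := d ^ (orderOf d / 2) with he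
    have heo : orderOf e = 2 := orderOf_pow_orderOf_div (orderOf_pos d).ne' heven
    have hee : e * e = 1 := by rw [← pow_two, ← heo, pow_orderOf_eq_one]
    have he1 : e ≠ 1 := fun h => by rw [h, orderOf_one] at heo; omega
    have hfix : ∀ U : Sylow 2 Γ, d • U = U → e • U = U := by
      intro U hU
      rw [he]
      exact mem_stabilizer_iff.mp (pow_mem (mem_stabilizer_iff.mpr hU) _)
    exact hST (hone e hee he1 S T (hfix S hdS) (hfix T hdT))
  · have ho : Odd (orderOf d) := Nat.not_even_iff_odd.mp fun h => heven (even_iff_two_dvd.mp h)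
    obtain ⟨n, hn, -⟩ := exists_realPP_pow (isConj_iff.mpr ⟨s, hdinv⟩) ho hd1
    exact B.smul_sylow_ne hn S (mem_stabilizer_iff.mp (pow_mem (mem_stabilizer_iff.mpr hdS) n))

/-- Not every involution fixes one point only. -/
theorem false_of_unique_fixed (hone : ∀ z : Γ, z * z = 1 → z ≠ 1 → ∀ S T : Sylow 2 Γ,
      z • S = S → z • T = T → S = T) : False := by
  haveI : Fact (Nat.Prime 2) := ⟨Nat.prime_two⟩
  -- one involution for each point
  have huniq : ∀ (a : Sylow 2 Γ) (z z' : Γ), z * z = 1 → z ≠ 1 → z • a = a → z' * z' = 1 →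
      z' ≠ 1 → z' • a = a → z = z' := by
    intro a z z' hz hz1 hza hz' hz1' hza'
    by_contra hne
    have hg : ∀ b : Sylow 2 Γ, ∃ g : Γ, g • a = b := fun b => MulAction.exists_smul_eq Γ a b
    choose g hg using hg
    let w : Bool → Γ := fun i => if i then z else z'
    have hw : ∀ i, w i * w i = 1 ∧ w i ≠ 1 ∧ w i • a = a := by
      intro i; cases i <;> simp [w, hz, hz1, hza, hz', hz1', hza']
    let s : Sylow 2 Γ → Bool → Γ := fun b i => g b * w i * (g b)⁻¹
    have hs2 : ∀ b i, s b i * s b i = 1 := fun b i => by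
      show g b * w i * (g b)⁻¹ * (g b * w i * (g b)⁻¹) = 1
      rw [show g b * w i * (g b)⁻¹ * (g b * w i * (g b)⁻¹) = g b * (w i * w i) * (g b)⁻¹ by group,
        (hw i).1, mul_one, mul_inv_cancel]
    have hs1 : ∀ b i, s b i ≠ 1 := fun b i h => (hw i).2.1 (conj_eq_one_iff.mp h)
    have hsb : ∀ b i, s b i • b = b := fun b i => by
      show (g b * w i * (g b)⁻¹) • b = b
      rw [mul_smul, mul_smul, inv_smul_eq_iff.mpr (hg b).symm, (hw i).2.2, hg b]
    have hsa : ∀ b i, b ≠ a → s b i • a ≠ a := fun b i hb h =>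
      hb (hone _ (hs2 b i) (hs1 b i) b a (hsb b i) h)
    let f : {b : Sylow 2 Γ // b ≠ a} × Bool → {b : Sylow 2 Γ // b ≠ a} := fun p =>
      ⟨s p.1 p.2 • a, hsa p.1 p.2 p.1.2⟩
    have hf : Function.Injective f := by
      rintro ⟨b, i⟩ ⟨c, j⟩ h
      have h' : s b i • a = s c j • a := congrArg Subtype.val h
      have he := B.swap_eq hone (hs2 b i) (hs2 c j) (hsa b i b.2).symm rfl h'.symm
      have hbc : b = c := Subtype.ext (hone _ (hs2 b i) (hs1 b i) b c (hsb b i) (he ▸ hsb c j))
      subst hbc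
      have hw' : w i = w j := mul_left_cancel (mul_right_cancel he)
      cases i <;> cases j <;> first | rfl | (simp [w] at hw'; exact absurd hw' (by
        first | exact hne | exact Ne.symm hne))
    haveI : Fintype (Sylow 2 Γ) := Fintype.ofFinite _
    classical
    have hc := Fintype.card_le_of_injective f hf
    rw [Fintype.card_prod, Fintype.card_bool] at hc
    have h3 := B.three_le_card
    rw [Nat.card_eq_fintype_card] at h3
    rw [Fintype.card_subtype_compl, Fintype.card_subtype_eq] at hc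
    omega
  obtain ⟨z, hz⟩ := exists_prime_orderOf_dvd_card' 2 B.two_dvd_card
  have hzz : z * z = 1 := Involution.sq_of_orderOf_two hz
  have hz1 : z ≠ 1 := fun h => by rw [h, orderOf_one] at hz; omega
  have hiso : Cfsg.IsIsolatedInvolution z := by
    refine ⟨hz, fun g hc => ?_⟩
    obtain ⟨a, ha⟩ := B.invol_has_fixed hzz
    have hw2 : g * z * g⁻¹ * (g * z * g⁻¹) = 1 := by
      rw [show g * z * g⁻¹ * (g * z * g⁻¹) = g * (z * z) * g⁻¹ by group, hzz, mul_one,
        mul_inv_cancel]
    have hw1 : g * z * g⁻¹ ≠ 1 := fun h => hz1 (conj_eq_one_iff.mp h)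
    have hwa : (g * z * g⁻¹) • a = a := by
      refine hone z hzz hz1 _ a ?_ ha
      rw [smul_smul, hc.eq, mul_smul, ha]
    exact huniq a _ _ hw2 hw1 hwa hzz hz1 ha
  have hin := ZStar.inZStar hiso
  refine B.invol_not_mem_center hzz hz1 (mem_center_iff.mpr fun g => ?_)
  have hcc := B.oddCore_le_center (ZStar.commutator_mem_oddCore hin g)
  set c := z * g * z⁻¹ * g⁻¹ with hcdef
  have hflip : z * c * z⁻¹ = c⁻¹ := by
    have hzi : z⁻¹ = z := inv_eq_of_mul_eq_one_right hzz
    rw [hcdef, hzi, mul_inv_rev, mul_inv_rev, mul_inv_rev, inv_inv, hzi]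
    simp only [← mul_assoc]
    rw [hzz, one_mul]
  rw [mem_center_iff.mp hcc z, mul_inv_cancel_right] at hflip
  have hodd : Odd (orderOf c) := by
    have hcard := PCore.coprime_card_pPrimeCore (p := 2) (G := Γ)
    refine (Nat.coprime_two_right.mp hcard).of_dvd_nat ?_
    exact Subgroup.orderOf_dvd_natCard _ (ZStar.commutator_mem_oddCore hin g)
  have hc1 : c = 1 := eq_one_of_odd_of_sq hodd (mul_eq_one_iff_eq_inv.mpr hflip)
  rw [hcdef, mul_inv_eq_one, mul_inv_eq_iff_eq_mul] at hc1
  exact hc1.symm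

/-- In the 2-transitive case every involution fixes one point only. -/
theorem unique_fixed (h2 : IsMultiplyPretransitive Γ (Sylow 2 Γ) 2)
    (hU : ∀ x z d : Γ, RealPP x → z * z = 1 → d * d = 1 → z * x * z⁻¹ = x⁻¹ →
      d * x = x * d → d * z = z * d → d = 1) :
    ∀ z : Γ, z * z = 1 → z ≠ 1 → ∀ S T : Sylow 2 Γ, z • S = S → z • T = T → S = T := by
  haveI : Fact (Nat.Prime 2) := ⟨Nat.prime_two⟩
  let O : Γ → Subgroup Γ := fun d =>
    (Cfsg.pCore 2 (centralizer ({d} : Set Γ))).map (centralizer ({d} : Set Γ)).subtype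
  have hO2 : ∀ d, IsPGroup 2 (O d) := fun d => PCore.isPGroup_pCore.map _
  -- commuting involutions
  have ha : ∀ z d : Γ, z * z = 1 → d * d = 1 → d ≠ 1 → Commute z d → z ∈ O d := by
    intro z d hz hd hd1 hc
    let z' : centralizer ({d} : Set Γ) := ⟨z, mem_centralizer_singleton_iff.mpr hc.eq⟩
    refine ⟨z', ?_, rfl⟩
    by_contra hnot
    have hz1 : z ≠ 1 := fun h => hnot (by
      rw [show z' = 1 from Subtype.ext h]; exact one_mem _)
    have hzo : orderOf z' = 2 := orderOf_eq_prime (Subtype.ext (by rw [pow_two]; exact hz))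
      fun h => hz1 (congrArg Subtype.val h)
    obtain ⟨y, hy1, hyo, hy⟩ := FTConsumers.exists_inverted_odd hzo hnot
    have hyr : IsConj (y : Γ) (y : Γ)⁻¹ :=
      isConj_iff.mpr ⟨z, by simpa using congrArg Subtype.val hy⟩
    obtain ⟨n, hn, -⟩ := exists_realPP_pow hyr (by rwa [Subgroup.orderOf_coe])
      (fun h => hy1 (Subtype.ext h))
    refine hd1 (hU ((y : Γ) ^ n) z d hn hz hd ?_ ?_ hc.symm.eq)
    · rw [← conj_pow, ← inv_pow]
      congr 1
      simpa using congrArg Subtype.val hy
    · have h := mem_centralizer_singleton_iff.mp (pow_mem y.2 n)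
      exact h.symm
  -- central involutions of a Sylow subgroup
  let W : Sylow 2 Γ → Γ → Prop := fun a z =>
    z * z = 1 ∧ z ≠ 1 ∧ z ∈ (a : Subgroup Γ) ∧ ∀ t ∈ (a : Subgroup Γ), Commute t z
  have hWex : ∀ a, ∃ z, W a z := by
    intro a
    haveI : Nontrivial (a : Subgroup Γ) := by
      rw [nontrivial_iff_ne_bot]
      intro h
      exact B.sylow_ne a (h ▸ inferInstance)
    haveI := a.2.center_nontrivial
    obtain ⟨k, hk⟩ := IsPGroup.iff_card.mp (a.2.to_subgroup (Subgroup.center (a : Subgroup Γ)))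
    have hd : 2 ∣ Nat.card (Subgroup.center (a : Subgroup Γ)) := by
      rw [hk]
      refine dvd_pow_self 2 fun h0 => ?_
      rw [h0, pow_zero] at hk
      exact (Finite.one_lt_card_iff_nontrivial.mpr inferInstance).ne' hk
    obtain ⟨c, hc⟩ := exists_prime_orderOf_dvd_card' 2 hd
    refine ⟨((c : (a : Subgroup Γ)) : Γ), ?_, ?_, (c : (a : Subgroup Γ)).2, fun t ht => ?_⟩
    · have := pow_orderOf_eq_one c
      rw [hc, pow_two] at this
      exact congrArg (fun u : Subgroup.center (a : Subgroup Γ) => ((u : (a : Subgroup Γ)) : Γ)) this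
    · intro h
      rw [show c = 1 from Subtype.ext (Subtype.ext h), orderOf_one] at hc
      omega
    · exact congrArg Subtype.val (mem_center_iff.mp c.2 ⟨t, ht⟩)
  -- a Sylow subgroup centralising `z` contains `O z`
  have hOle : ∀ (a : Sylow 2 Γ) (z : Γ), W a z → O z ≤ (a : Subgroup Γ) := by
    intro a z hz
    have hn : (a : Subgroup Γ) ≤ normalizer (O z : Set Γ) := fun t ht =>
      OddOrder.le_normalizer_map_of_normal (Cfsg.pCore 2 (centralizer ({z} : Set Γ)))
        (mem_centralizer_singleton_iff.mpr (hz.2.2.2 t ht).eq)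
    rw [← eq_of_sylow_le a ((hO2 z).to_sup_of_normal_left' a.2 hn) le_sup_right]
    exact le_sup_left
  have hb : ∀ a b z w, W a z → W b w → z • b = b → w • a = a := by
    intro a b z w hz hw hzb
    have hzb' : z ∈ (b : Subgroup Γ) := mem_of_smul_eq (invol_two_power hz.1) hzb
    have hwO : w ∈ O z := ha w z hw.1 hz.1 hz.2.1 (hw.2.2.2 z hzb').symm
    exact smul_eq_of_mem (hOle a z hz hwO)
  have hb' : ∀ a b z, W a z → b ≠ a → z • b ≠ b := by
    intro a b z hz hba hzb
    obtain ⟨w, hw⟩ := hWex b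
    have hwa : w • a = a := hb a b z w hz hw hzb
    have hall : ∀ z', W a z' → z' • b = b := fun z' hz' => hb b a w z' hw hz' hwa
    obtain ⟨S, hS⟩ := B.invol_moves hz.1 hz.2.1
    have hSa : S ≠ a := fun h => hS (h ▸ smul_eq_of_mem hz.2.2.1)
    obtain ⟨h, hha, hhb⟩ := is_two_pretransitive_iff.mp h2 hba.symm hSa.symm
    refine hS ?_
    have hz' : W a (h⁻¹ * z * h) := by
      have hmem : ∀ t ∈ (a : Subgroup Γ), h * t * h⁻¹ ∈ (a : Subgroup Γ) := fun t ht =>
        (mem_normalizer_iff.mp (Sylow.smul_eq_iff_mem_normalizer.mp hha) t).mp ht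
      have hzmem : h⁻¹ * z * h ∈ (a : Subgroup Γ) := by
        rw [mem_normalizer_iff.mp (Sylow.smul_eq_iff_mem_normalizer.mp hha)]
        simpa [mul_assoc] using hz.2.2.1
      refine ⟨?_, fun he => hz.2.1 ?_, hzmem, fun t ht => ?_⟩
      · rw [show h⁻¹ * z * h * (h⁻¹ * z * h) = h⁻¹ * (z * z) * h by group, hz.1, mul_one,
          inv_mul_cancel]
      · calc z = h * (h⁻¹ * z * h) * h⁻¹ := by group
          _ = 1 := by rw [he, mul_one, mul_inv_cancel]
      · have hc := hz.2.2.2 _ (hmem t ht)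
        show t * (h⁻¹ * z * h) = h⁻¹ * z * h * t
        calc t * (h⁻¹ * z * h) = h⁻¹ * (h * t * h⁻¹ * z) * h := by group
          _ = h⁻¹ * z * h * t := by rw [hc.eq]; group
    have hzb2 := hall _ hz'
    rw [← hhb]
    calc z • h • b = h • (h⁻¹ * z * h) • b := by rw [smul_smul, smul_smul]; group
      _ = h • b := by rw [hzb2]
  intro d hd hd1 S T hdS hdT
  obtain ⟨zS, hzS⟩ := hWex S
  obtain ⟨zT, hzT⟩ := hWex T
  have hdS' := mem_of_smul_eq (invol_two_power hd) hdS
  have hdT' := mem_of_smul_eq (invol_two_power hd) hdT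
  obtain ⟨c, hc⟩ := (hO2 d).exists_le_sylow
  have h1 : zS • c = c :=
    smul_eq_of_mem (hc (ha zS d hzS.1 hd hd1 (hzS.2.2.2 d hdS').symm))
  have h2' : zT • c = c :=
    smul_eq_of_mem (hc (ha zT d hzT.1 hd hd1 (hzT.2.2.2 d hdT').symm))
  have e1 : c = S := by_contra fun h => hb' S c zS hzS h h1
  have e2 : c = T := by_contra fun h => hb' T c zT hzT h h2'
  exact e1.symm.trans e2

end MinBad

end Cfsg.Agent.RealGraph
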