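import Cfsg.Agent.Lib.RealGraph.Basic

/-!
Groups whose real class sizes fall into two non-empty coprime families: either an involution with
odd class outside `O₂` inverts all real elements of odd order, or the involutions with odd classes
give an elementary abelian normal subgroup all of whose nontrivial elements have odd classes.
-/

set_option autoImplicit false

namespace Cfsg.Agent.RealGraph

open Subgroup

variable {G : Type*} [Group G]

/-- All prime divisors lie in `π`. -/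
def OneSided (π : Set ℕ) (n : ℕ) : Prop := ∀ p : ℕ, p.Prime → p ∣ n → p ∈ π

/-- The real class sizes split in two non-empty parts. -/
structure Split (G : Type*) [Group G] (π₁ π₂ : Set ℕ) : Prop where
  disj : Disjoint π₁ π₂
  side : ∀ g : G, IsConj g g⁻¹ → OneSided π₁ (csize g) ∨ OneSided π₂ (csize g)
  ex₁ : ∃ g : G, IsConj g g⁻¹ ∧ csize g ≠ 1 ∧ OneSided π₁ (csize g)
  ex₂ : ∃ g : G, IsConj g g⁻¹ ∧ csize g ≠ 1 ∧ OneSided π₂ (csize g)

theorem isConj_inv_of_sq {z : G} (hz : z * z = 1) : IsConj z z⁻¹ := by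
  rw [inv_eq_of_mul_eq_one_right hz]

/-- A noncentral involution with class size on the second side. -/
def InB (π : Set ℕ) (z : G) : Prop := z * z = 1 ∧ csize z ≠ 1 ∧ OneSided π (csize z)

theorem sq_eq_one_closure {S : Set G} (hc : ∀ a ∈ S, ∀ b ∈ S, Commute a b)
    (hs : ∀ a ∈ S, a * a = 1) : ∀ w ∈ closure S, w * w = 1 := by
  have h1 : ∀ a ∈ S, ∀ w ∈ closure S, Commute w a := by
    intro a ha w hw
    refine mem_centralizer_singleton_iff.mp ((closure_le _).mpr ?_ hw)
    exact fun b hb => mem_centralizer_singleton_iff.mpr (hc b hb a ha)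
  intro w hw
  induction hw using closure_induction with
  | mem w hw => exact hs w hw
  | one => exact one_mul 1
  | mul u v hu hv ihu ihv =>
    have huv : Commute u v := by
      refine (mem_centralizer_singleton_iff.mp ((closure_le _).mpr ?_ hv)).symm
      exact fun b hb => mem_centralizer_singleton_iff.mpr ((h1 b hb u hu).symm)
    rw [mul_assoc, ← mul_assoc v, ← huv.eq, mul_assoc, ihv, mul_one, ihu]
  | inv u _ ihu => rw [← mul_inv_rev, ihu, inv_one]

namespace Split

variable {π₁ π₂ : Set ℕ}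

theorem symm (S : Split G π₁ π₂) : Split G π₂ π₁ :=
  ⟨S.disj.symm, fun g hg => (S.side g hg).symm, S.ex₂, S.ex₁⟩

theorem coprime (S : Split G π₁ π₂) {m n : ℕ} (hm : OneSided π₁ m) (hn : OneSided π₂ n) :
    m.Coprime n := by
  refine Nat.coprime_of_dvd fun p hp h1 h2 => ?_
  exact Set.disjoint_left.mp S.disj (hm p hp h1) (hn p hp h2)

theorem eq_one (S : Split G π₁ π₂) {n : ℕ} (h1 : OneSided π₁ n) (h2 : OneSided π₂ n) :
    n = 1 := (Nat.coprime_self n).mp (S.coprime h1 h2)

variable [Finite G]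

theorem two_mem (S : Split G π₁ π₂) {x : G} (hx : IsConj x x⁻¹) (ho : Odd (orderOf x))
    (hx1 : x ≠ 1) : 2 ∈ π₁ ∨ 2 ∈ π₂ :=
  (S.side x hx).imp (fun h => h 2 Nat.prime_two (two_dvd_csize hx ho hx1))
    fun h => h 2 Nat.prime_two (two_dvd_csize hx ho hx1)

variable (S : Split G π₁ π₂) (h2 : 2 ∈ π₁)
include S h2

theorem odd_of_side_two {n : ℕ} (hn : OneSided π₂ n) : ¬ 2 ∣ n :=
  fun h => Set.disjoint_left.mp S.disj h2 (hn 2 Nat.prime_two h)

theorem exists_inB : ∃ z : G, InB π₂ z := by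
  obtain ⟨g, hg, h1, hs⟩ := S.ex₂
  exact ⟨g, sq_eq_one_of_odd hg (S.odd_of_side_two h2 hs), h1, hs⟩

theorem side_one {x : G} (hx : IsConj x x⁻¹) (ho : Odd (orderOf x)) (hx1 : x ≠ 1) :
    OneSided π₁ (csize x) :=
  (S.side x hx).resolve_right fun h => S.odd_of_side_two h2 h (two_dvd_csize hx ho hx1)

omit h2 in
theorem inB_conj {z : G} (hz : InB π₂ z) (g : G) : InB π₂ (g * z * g⁻¹) := by
  refine ⟨?_, by rw [csize_conj]; exact hz.2.1, by rw [csize_conj]; exact hz.2.2⟩
  calc g * z * g⁻¹ * (g * z * g⁻¹) = g * (z * z) * g⁻¹ := by group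
    _ = 1 := by rw [hz.1]; group

theorem cop_inB {z x : G} (hz : InB π₂ z) (hx : IsConj x x⁻¹) (ho : Odd (orderOf x))
    (hx1 : x ≠ 1) : (csize z).Coprime (csize x) :=
  (S.coprime (S.side_one h2 hx ho hx1) hz.2.2).symm

/-- An element of `C(z)` inverting `x`. -/
theorem exists_inverter_in_cent {z x : G} (hz : InB π₂ z) (hx : IsConj x x⁻¹)
    (ho : Odd (orderOf x)) (hx1 : x ≠ 1) : ∃ c : G, c * z * c⁻¹ = z ∧ c * x * c⁻¹ = x⁻¹ := by
  obtain ⟨t, ht⟩ := isConj_iff.mp hx
  obtain ⟨c, hc, d, hd, e⟩ := exists_mul_of_coprime_index (A := centralizer ({z} : Set G))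
    (B := centralizer ({x} : Set G)) (S.cop_inB h2 hz hx ho hx1) t
  refine ⟨c, mem_cent.mp hc, ?_⟩
  calc c * x * c⁻¹ = c * (d * x * d⁻¹) * c⁻¹ := by rw [mem_cent.mp hd]
    _ = x⁻¹ := by rw [← ht, e]; group

/-- A noncentral involution with odd class commutes with no real element of odd order. -/
theorem not_commute {z x : G} (hz : InB π₂ z) (hx : IsConj x x⁻¹) (ho : Odd (orderOf x))
    (hx1 : x ≠ 1) : z * x ≠ x * z := by
  intro hc
  have hcop := S.cop_inB h2 hz hx ho hx1
  obtain ⟨c, hcz, hcx⟩ := S.exists_inverter_in_cent h2 hz hx ho hx1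
  have hcomm : Commute z x := hc
  have hreal : IsConj (z * x) (z * x)⁻¹ := by
    refine isConj_iff.mpr ⟨c, ?_⟩
    calc c * (z * x) * c⁻¹ = (c * z * c⁻¹) * (c * x * c⁻¹) := by group
      _ = (z * x)⁻¹ := by
        rw [hcz, hcx, mul_inv_rev, inv_eq_of_mul_eq_one_right hz.1, hcomm.inv_right.eq]
  have hle : centralizer ({z * x} : Set G) ≤
      centralizer ({z} : Set G) ⊓ centralizer ({x} : Set G) := by
    intro g hg
    have hgc : Commute g (z * x) := mem_centralizer_singleton_iff.mp hg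
    have hz' : (z * x) ^ orderOf x = z := by
      obtain ⟨j, hj⟩ := ho
      rw [hcomm.mul_pow, pow_orderOf_eq_one, mul_one, hj, pow_succ, pow_mul, pow_two, hz.1,
        one_pow, one_mul]
    have h1 : Commute g z := hz' ▸ hgc.pow_right _
    refine mem_inf.mpr ⟨mem_centralizer_singleton_iff.mpr h1,
      mem_centralizer_singleton_iff.mpr ?_⟩
    have : Commute g (z⁻¹ * (z * x)) := h1.inv_right.mul_right hgc
    rwa [inv_mul_cancel_left] at this
  have hd := index_dvd_of_le hle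
  rw [index_inf_cent hcop] at hd
  rcases S.side _ hreal with h | h
  · refine hz.2.1 (S.eq_one (fun p hp hpd => h p hp ?_) hz.2.2)
    exact (hpd.trans (dvd_mul_right _ _)).trans hd
  · exact S.odd_of_side_two h2 h (((two_dvd_csize hx ho hx1).trans (dvd_mul_left _ _)).trans hd)

/-- Either `z` inverts `x`, or the products of two conjugates of `z` stabilise the class of `x`. -/
theorem inverts_or_translate {z x : G} (hz : InB π₂ z) (hx : IsConj x x⁻¹)
    (ho : Odd (orderOf x)) (hx1 : x ≠ 1) :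
    z * x * z⁻¹ = x⁻¹ ∨
      ((∀ w ∈ pairGroup z, ∀ a', IsConj x a' → IsConj x (w * a')) ∧
        Nat.card (pairGroup z) ∣ csize x) := by
  have hcop := S.cop_inB h2 hz hx ho hx1
  obtain ⟨c, hcz, hcx⟩ := S.exists_inverter_in_cent h2 hz hx ho hx1
  have hzinv : z⁻¹ = z := inv_eq_of_mul_eq_one_right hz.1
  have hreal : IsConj (z * x) (z * x)⁻¹ := by
    refine (isConj_iff.mpr ⟨z * c, ?_⟩)
    calc z * c * (z * x) * (z * c)⁻¹ = z * ((c * z * c⁻¹) * (c * x * c⁻¹)) * z⁻¹ := by group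
      _ = (z * x)⁻¹ := by
        rw [hcz, hcx, mul_inv_rev, hzinv, ← mul_assoc z z, hz.1, one_mul]
  have hd := csize_mul_dvd hcop
  rcases S.side _ hreal with h | h
  · refine Or.inr (translate hcop hz.1 ?_)
    exact (S.coprime h hz.2.2).dvd_of_dvd_mul_left hd
  · left
    have h1 := sq_eq_one_of_odd hreal (S.odd_of_side_two h2 h)
    rw [hzinv]
    calc z * x * z = z * x * (z * x) * x⁻¹ := by group
      _ = x⁻¹ := by rw [h1, one_mul]

omit h2 in
/-- If `z` lies in a group of translations as above, its conjugates commute. -/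
theorem commute_conj {z x : G} (hz : InB π₂ z) (hxs : OneSided π₁ (csize x))
    (hdvd : Nat.card (pairGroup z) ∣ csize x) :
    (∀ g h : G, Commute (g * z * g⁻¹) (h * z * h⁻¹)) ∧
      ∀ w ∈ pairGroup z, Commute z w := by
  haveI := pairGroup_normal z
  have hrel : (centralizer ({z} : Set G)).relIndex (pairGroup z) = 1 := by
    refine Nat.eq_one_of_dvd_coprimes (S.coprime hxs hz.2.2) ?_ (relIndex_dvd_index _)
    exact (index_dvd_card _).trans hdvd
  have hle : ∀ w ∈ pairGroup z, Commute z w := fun w hw =>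
    (mem_centralizer_singleton_iff.mp (relIndex_eq_one.mp hrel hw)).symm
  have h1 : ∀ g : G, Commute z (g * z * g⁻¹) := by
    intro g
    have h := hle _ (mul_conj_self_mem (b := z) g)
    have : Commute z (z⁻¹ * (z * (g * z * g⁻¹))) := (Commute.refl z).inv_right.mul_right h
    rwa [inv_mul_cancel_left] at this
  refine ⟨fun g h => ?_, hle⟩
  have e : h * z * h⁻¹ = MulAut.conj g (g⁻¹ * h * z * (g⁻¹ * h)⁻¹) := by
    rw [MulAut.conj_apply]; group
  rw [e, ← MulAut.conj_apply]
  exact (h1 _).map (MulAut.conj g).toMonoidHom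

omit h2 in
theorem pairGroup_exp_two {z x : G} (hz : InB π₂ z) (hxs : OneSided π₁ (csize x))
    (hdvd : Nat.card (pairGroup z) ∣ csize x) : ∀ w ∈ pairGroup z, w * w = 1 := by
  obtain ⟨hc, -⟩ := S.commute_conj hz hxs hdvd
  have hsq : ∀ g : G, g * z * g⁻¹ * (g * z * g⁻¹) = 1 := fun g => (S.inB_conj hz g).1
  intro w hw
  refine sq_eq_one_closure (S := {y | ∃ g : G, y = g * z * g⁻¹}) ?_ ?_ w ?_
  · rintro _ ⟨g, rfl⟩ _ ⟨h, rfl⟩
    exact hc g h
  · rintro _ ⟨g, rfl⟩
    exact hsq g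
  · refine (closure_le _).mpr ?_ hw
    rintro _ ⟨g, h, rfl⟩
    exact mul_mem (subset_closure ⟨g, rfl⟩) (subset_closure ⟨h, rfl⟩)

/-- An involution with odd class outside `O₂(G)` forces solvability. -/
theorem isSolvable_of_not_mem {z : G} (hz : InB π₂ z) (hnot : z ∉ Cfsg.pCore 2 G) :
    Group.IsSolvable G := by
  have hall : ∀ g : G, ∀ x : G, IsConj x x⁻¹ → Odd (orderOf x) →
      g * z * g⁻¹ * x * (g * z * g⁻¹)⁻¹ = x⁻¹ := by
    intro g x hx ho
    by_cases hx1 : x = 1
    · subst hx1; simp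
    refine (S.inverts_or_translate h2 (S.inB_conj hz g) hx ho hx1).resolve_right fun h => hnot ?_
    obtain ⟨hc, -⟩ := S.commute_conj (S.inB_conj hz g) (S.side_one h2 hx ho hx1) h.2
    have hU : IsPGroup 2 (normalClosure ({g * z * g⁻¹} : Set G)) := by
      refine IsPGroup.iff_orderOf.mpr fun u => ?_
      have hu : ∀ u ∈ normalClosure ({g * z * g⁻¹} : Set G), u * u = 1 := by
        refine sq_eq_one_closure ?_ ?_
        · intro p hp q hq
          simp only [Group.mem_conjugatesOfSet_iff, Set.mem_singleton_iff, exists_eq_left,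
            isConj_iff] at hp hq
          obtain ⟨a, rfl⟩ := hp
          obtain ⟨b, rfl⟩ := hq
          exact hc a b
        · intro p hp
          simp only [Group.mem_conjugatesOfSet_iff, Set.mem_singleton_iff, exists_eq_left,
            isConj_iff] at hp
          obtain ⟨a, rfl⟩ := hp
          exact (S.inB_conj (S.inB_conj hz g) a).1
      have h1 : (u : G) ^ 2 = 1 := by rw [pow_two]; exact hu u u.2
      obtain ⟨j, -, hj⟩ := (Nat.dvd_prime_pow Nat.prime_two).mp
        (show orderOf (u : G) ∣ 2 ^ 1 by rw [pow_one]; exact orderOf_dvd_of_pow_eq_one h1)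
      exact ⟨j, by rw [← Subgroup.orderOf_coe, hj]⟩
    have hmem := PCore.le_pCore hU (subset_normalClosure (Set.mem_singleton _))
    have := Normal.conj_mem inferInstance _ hmem g⁻¹
    rwa [show g⁻¹ * (g * z * g⁻¹) * g⁻¹⁻¹ = z by group] at this
  -- the real elements of odd order commute
  set A : Set G := {x | IsConj x x⁻¹ ∧ Odd (orderOf x)} with hA
  have hconjA : ∀ g : G, ∀ x ∈ A, g * x * g⁻¹ ∈ A := by
    rintro g x ⟨hx, ho⟩
    obtain ⟨t, ht⟩ := isConj_iff.mp hx
    refine ⟨isConj_iff.mpr ⟨g * t * g⁻¹, ?_⟩, ?_⟩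
    · calc g * t * g⁻¹ * (g * x * g⁻¹) * (g * t * g⁻¹)⁻¹ = g * (t * x * t⁻¹) * g⁻¹ := by group
        _ = (g * x * g⁻¹)⁻¹ := by rw [ht]; group
    · rwa [← MulAut.conj_apply, MulEquiv.orderOf_eq]
  have hcomm : ∀ x ∈ A, ∀ y ∈ A, Commute x y := by
    intro x hx y hy
    have h0 : ∀ w ∈ A, z * w * z⁻¹ = w⁻¹ := fun w hw => by
      simpa using hall 1 w hw.1 hw.2
    have h1 : y * x⁻¹ * y⁻¹ = y⁻¹ * x⁻¹ * y := by
      calc y * x⁻¹ * y⁻¹ = (y * x * y⁻¹)⁻¹ := by group
        _ = z * (y * x * y⁻¹) * z⁻¹ := (h0 _ (hconjA y x hx)).symm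
        _ = (z * y * z⁻¹) * (z * x * z⁻¹) * (z * y * z⁻¹)⁻¹ := by group
        _ = y⁻¹ * x⁻¹ * y := by rw [h0 y hy, h0 x hx, inv_inv]
    have h2 : Commute (y ^ 2) x⁻¹ := by
      show y ^ 2 * x⁻¹ = x⁻¹ * y ^ 2
      calc y ^ 2 * x⁻¹ = y * (y * x⁻¹ * y⁻¹) * y := by rw [pow_two]; group
        _ = x⁻¹ * y ^ 2 := by rw [h1, pow_two]; group
    obtain ⟨m, hm⟩ := exists_pow_eq_self_of_coprime (Nat.coprime_two_left.mpr hy.2)
    exact Commute.inv_left_iff.mp (hm ▸ h2.pow_left m : Commute y x⁻¹).symm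
  set X := closure A with hX
  haveI : X.Normal := by
    rw [hX, ← normalizer_eq_top_iff, eq_top_iff]
    intro g _
    refine normalizer_le_normalizer_closure _ (mem_set_normalizer_iff.mpr fun x => ⟨hconjA g x, ?_⟩)
    intro h
    simpa [mul_assoc] using hconjA g⁻¹ _ h
  haveI : Group.IsSolvable X := by
    haveI : IsMulCommutative X := isMulCommutative_closure fun a ha b hb => (hcomm a ha b hb).eq
    exact Group.isSolvable_of_comm (fun a b => IsMulCommutative.is_comm.comm a b)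
  exact isSolvable_of_realPP_mem (N := X) fun x hx => subset_closure ⟨hx.1, hx.odd⟩

omit h2 in
/-- An element of `O₂(G)` inverts no nontrivial element of odd order. -/
theorem not_inverts_of_mem {z x : G} (hz : z ∈ Cfsg.pCore 2 G) (ho : Odd (orderOf x))
    (hx1 : x ≠ 1) : z * x * z⁻¹ ≠ x⁻¹ := by
  haveI : Fact (Nat.Prime 2) := ⟨Nat.prime_two⟩
  intro h
  have h1 : z * (x * z⁻¹ * x⁻¹) ∈ Cfsg.pCore 2 G :=
    mul_mem hz (Normal.conj_mem inferInstance _ (inv_mem hz) x)
  rw [show z * (x * z⁻¹ * x⁻¹) = z * x * z⁻¹ * x⁻¹ by group, h, ← mul_inv_rev] at h1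
  have h2' := inv_mem h1
  rw [inv_inv] at h2'
  obtain ⟨e, he⟩ := IsPGroup.iff_orderOf.mp (PCore.isPGroup_pCore (p := 2) (G := G)) ⟨x * x, h2'⟩
  rw [Subgroup.orderOf_mk] at he
  have h3 : orderOf (x * x) ∣ orderOf x := by rw [← pow_two]; exact orderOf_pow_dvd 2
  have h4 : e = 0 := by
    by_contra he0
    exact Nat.not_even_iff_odd.mpr ho (even_iff_two_dvd.mpr
      (((dvd_pow_self 2 he0).trans (dvd_of_eq he.symm)).trans h3))
  rw [h4, pow_zero, orderOf_eq_one_iff] at he
  exact hx1 (eq_one_of_odd_of_sq ho he)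

/-- When all involutions with odd classes lie in `O₂(G)` they give a module. -/
theorem exists_module (hO : ∀ z : G, InB π₂ z → z ∈ Cfsg.pCore 2 G) (hreal : ¬ NoRealOdd G) :
    ∃ V : Subgroup G, V.Normal ∧ V ≠ ⊥ ∧ ∀ v ∈ V, v * v = 1 ∧ (v ≠ 1 → InB π₂ v) := by
  obtain ⟨x, ⟨hx, hx1, hpp⟩, -⟩ := exists_realPP hreal
  have ho : Odd (orderOf x) := RealPP.odd ⟨hx, hx1, hpp⟩
  have hxs := S.side_one h2 hx ho hx1
  obtain ⟨z, hz⟩ := S.exists_inB h2
  obtain ⟨htr, hdvd⟩ := (S.inverts_or_translate h2 hz hx ho hx1).resolve_left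
    (S.not_inverts_of_mem (hO z hz) ho hx1)
  set W := pairGroup z with hW
  haveI := pairGroup_normal z
  obtain ⟨hcz, hzW⟩ := S.commute_conj hz hxs hdvd
  have hsq := S.pairGroup_exp_two hz hxs hdvd
  have hWc : ∀ u ∈ W, ∀ v ∈ W, Commute u v := fun u hu v hv => by
    have h := hsq _ (mul_mem hu hv)
    calc u * v = (u * v)⁻¹ := (inv_eq_of_mul_eq_one_right h).symm
      _ = v * u := by
        rw [mul_inv_rev, inv_eq_of_mul_eq_one_right (hsq v hv),
          inv_eq_of_mul_eq_one_right (hsq u hu)]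
  -- `x` fixes no nontrivial element of `W`
  have hfpf : ∀ w ∈ W, Commute w x → w = 1 := by
    intro w hw hc
    obtain ⟨g, hg⟩ := isConj_iff.mp (htr w hw x (IsConj.refl x))
    have h1 : orderOf (w * x) = orderOf x := by
      rw [← hg, ← MulAut.conj_apply, MulEquiv.orderOf_eq]
    have h2' : (w * x) ^ orderOf x = 1 := h1 ▸ pow_orderOf_eq_one _
    obtain ⟨j, hj⟩ := ho
    rwa [hc.mul_pow, pow_orderOf_eq_one, mul_one, hj, pow_succ, pow_mul, pow_two, hsq w hw,
      one_pow, one_mul] at h2'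
  -- the element of `z W` fixed by `x`
  let φ : W → W := fun w => ⟨x * w * x⁻¹ * (w : G)⁻¹,
    mul_mem (Normal.conj_mem inferInstance _ w.2 x) (inv_mem w.2)⟩
  have hφ : Function.Injective φ := by
    intro w w' he
    have he' : x * w * x⁻¹ * (w : G)⁻¹ = x * w' * x⁻¹ * (w' : G)⁻¹ := congrArg Subtype.val he
    have hd : (w' : G)⁻¹ * w ∈ W := mul_mem (inv_mem w'.2) w.2
    have hxw : x * (w : G) * x⁻¹ ∈ W := Normal.conj_mem inferInstance _ w.2 x
    have hxw' : x * (w' : G) * x⁻¹ ∈ W := Normal.conj_mem inferInstance _ w'.2 x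
    have h1 : x * ((w' : G)⁻¹ * w) * x⁻¹ = (w' : G)⁻¹ * w := by
      calc x * ((w' : G)⁻¹ * w) * x⁻¹ = (x * w' * x⁻¹)⁻¹ * (x * w * x⁻¹ * (w : G)⁻¹) * w := by group
        _ = (w' : G)⁻¹ * w := by rw [he']; group
    have h2' := hfpf _ hd (mul_inv_eq_iff_eq_mul.mp h1).symm
    exact Subtype.ext (inv_mul_eq_one.mp h2').symm
  obtain ⟨w, hw⟩ := (Finite.injective_iff_surjective.mp hφ)
    ⟨z * (x * z * x⁻¹), mul_conj_self_mem x⟩
  have hw' : x * w * x⁻¹ * (w : G)⁻¹ = z * (x * z * x⁻¹) := congrArg Subtype.val hw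
  set u := z * (w : G) with hu
  have hzz := hz.1
  have hux : x * u * x⁻¹ = u := by
    calc x * u * x⁻¹ = x * z * x⁻¹ * (x * w * x⁻¹ * (w : G)⁻¹) * w := by rw [hu]; group
      _ = (x * z * x⁻¹ * z) * (x * z * x⁻¹) * w := by rw [hw']; group
      _ = z * (x * z * x⁻¹ * (x * z * x⁻¹)) * w := by
        rw [show x * z * x⁻¹ * z = z * (x * z * x⁻¹) by simpa using (hcz x 1).eq]; group
      _ = u := by rw [(S.inB_conj hz x).1, mul_one, hu]
  have hzw := hzW w w.2
  have huu : u * u = 1 := by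
    rw [hu, mul_assoc, ← mul_assoc (w : G), ← hzw.eq, mul_assoc, hsq w w.2, mul_one, hzz]
  have hus : OneSided π₁ (csize u) := by
    refine (S.side u (isConj_inv_of_sq huu)).elim id fun h => ?_
    by_cases h1 : csize u = 1
    · intro p hp hpd
      rw [h1] at hpd
      exact absurd (Nat.dvd_one.mp hpd) hp.ne_one
    · exact absurd (mul_inv_eq_iff_eq_mul.mp hux).symm (S.not_commute h2 ⟨huu, h1, h⟩ hx ho hx1)
  have hw1 : InB π₂ (w : G) := by
    have hcop : (csize z).Coprime (csize u) := (S.coprime hus hz.2.2).symm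
    have hzu : z * u = w := by rw [hu, ← mul_assoc, hzz, one_mul]
    have hd := csize_mul_dvd hcop
    rw [hzu] at hd
    have hnot : ¬ OneSided π₁ (csize (w : G)) := by
      intro hs
      obtain ⟨htu, -⟩ := translate hcop hzz
        (by rw [hzu]; exact (S.coprime hs hz.2.2).dvd_of_dvd_mul_left hd)
      have h := htu w w.2 u (IsConj.refl u)
      rw [show (w : G) * u = z by
        rw [hu, ← mul_assoc, ← hzw.eq, mul_assoc, hsq w w.2, mul_one]] at h
      exact hz.2.1 (S.eq_one ((csize_eq_of_isConj h).symm ▸ hus) hz.2.2)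
    refine ⟨hsq w w.2, fun h1 => hnot ?_,
      (S.side _ (isConj_inv_of_sq (hsq w w.2))).resolve_left hnot⟩
    intro p hp hpd
    rw [h1] at hpd
    exact absurd (Nat.dvd_one.mp hpd) hp.ne_one
  -- products
  have hclosed : ∀ a ∈ W, ∀ b ∈ W, InB π₂ a → InB π₂ b → a * b ≠ 1 → InB π₂ (a * b) := by
    intro a ha b hb hBa hBb hne
    set d := a * b with hd
    have hdW : d ∈ W := mul_mem ha hb
    have hnot : ¬ OneSided π₁ (csize d) := by
      intro hs
      have hcop : (csize d).Coprime (csize a) := S.coprime hs hBa.2.2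
      have hda : d * a = b := by
        rw [hd, (hWc a ha b hb).eq, mul_assoc, hsq a ha, mul_one]
      have hdv : csize (d * a) ∣ csize a :=
        ((S.coprime hs hBb.2.2).symm).dvd_of_dvd_mul_left (by
          have := csize_mul_dvd hcop
          rwa [hda] at this) |> fun h => by rw [hda]; exact h
      obtain ⟨-, hcard⟩ := translate hcop (hsq d hdW) hdv
      have hle : pairGroup d ≤ W := (closure_le _).mpr fun y ⟨g, h, e⟩ => e ▸
        mul_mem (Normal.conj_mem inferInstance _ hdW g) (Normal.conj_mem inferInstance _ hdW h)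
      have hbot : pairGroup d = ⊥ := by
        rw [eq_bot_iff]
        intro y hy
        rw [mem_bot]
        refine eq_one_of_odd_of_sq ?_ (hsq y (hle hy))
        exact (Nat.not_even_iff_odd.mp fun he => S.odd_of_side_two h2 hBa.2.2
          (even_iff_two_dvd.mp he)).of_dvd_nat
          ((Subgroup.orderOf_dvd_natCard (pairGroup d) hy).trans hcard)
      have hcen := mem_center_of_pairGroup_eq_bot (hsq d hdW) hbot
      exact hne (hfpf d hdW (mem_center_iff.mp hcen x).symm)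
    refine ⟨hsq d hdW, fun h1 => hnot ?_,
      (S.side _ (isConj_inv_of_sq (hsq d hdW))).resolve_left hnot⟩
    intro p hp hpd
    rw [h1] at hpd
    exact absurd (Nat.dvd_one.mp hpd) hp.ne_one
  let V : Subgroup G :=
    { carrier := {v | v = 1 ∨ (v ∈ W ∧ InB π₂ v)}
      one_mem' := Or.inl rfl
      mul_mem' := by
        rintro a b (rfl | ⟨ha, hBa⟩) hb
        · simpa using hb
        rcases hb with rfl | ⟨hb, hBb⟩
        · simpa using Or.inr ⟨ha, hBa⟩
        by_cases h : a * b = 1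
        · exact Or.inl h
        · exact Or.inr ⟨mul_mem ha hb, hclosed a ha b hb hBa hBb h⟩
      inv_mem' := by
        rintro a (rfl | ⟨ha, hBa⟩)
        · exact Or.inl inv_one
        · exact Or.inr (by rw [inv_eq_of_mul_eq_one_right (hsq a ha)]; exact ⟨ha, hBa⟩) }
  refine ⟨V, ⟨fun v hv g => ?_⟩, fun h => ?_, fun v hv => ?_⟩
  · rcases hv with rfl | ⟨hv, hB⟩
    · exact Or.inl (by simp)
    · exact Or.inr ⟨Normal.conj_mem inferInstance _ hv g, S.inB_conj hB g⟩
  · have hmem : (w : G) ∈ V := Or.inr ⟨w.2, hw1⟩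
    rw [h, mem_bot] at hmem
    have := hw1.2.1
    rw [hmem] at this
    exact this (csize_eq_one_iff.mpr (one_mem _))
  · rcases hv with rfl | ⟨hv, hB⟩
    · exact ⟨one_mul 1, fun h => absurd rfl h⟩
    · exact ⟨hsq v hv, fun _ => hB⟩

end Split

end Cfsg.Agent.RealGraph
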