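import Cfsg.Agent.Lib.RealGraph.Generic

/-!
A minimal example of dimension six: real elements of odd prime power order are 3-elements with
centralisers of odd order, and an element of order 21 is semiregular on the vectors.
-/

set_option autoImplicit false
set_option linter.unusedSectionVars false

namespace Cfsg.Agent.RealGraph

open Subgroup MulAction
open scoped Pointwise

variable {Γ V : Type*} [Group Γ] [Finite Γ] [Group V] [Finite V] [MulDistribMulAction Γ V]
  [FaithfulSMul Γ V]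

theorem mul_comm_of_exp_two {M : Type*} [Group M] (h : ∀ v : M, v * v = 1) (a b : M) :
    a * b = b * a := by
  calc a * b = (a * b)⁻¹ := (inv_eq_of_mul_eq_one_right (h _)).symm
    _ = b * a := by
      rw [mul_inv_rev, inv_eq_of_mul_eq_one_right (h b), inv_eq_of_mul_eq_one_right (h a)]

theorem eq_of_mul_eq_one_exp_two {M : Type*} [Group M] (h : ∀ v : M, v * v = 1) {a b : M}
    (hab : a * b = 1) : a = b := by
  rw [eq_inv_of_mul_eq_one_left hab, inv_eq_of_mul_eq_one_right (h b)]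

/-- Two subgroups spanning a group of order 64, meeting trivially and interchanged by an element
have order 8. -/
theorem card_eq_eight {t : Γ} (hV : Nat.card V = 64) (hexp : ∀ v : V, v * v = 1)
    {W₁ W₂ : Subgroup V} (hdisj : ∀ w ∈ W₁, w ∈ W₂ → w = 1)
    (hspan : ∀ w : V, ∃ a ∈ W₁, ∃ b ∈ W₂, w = a * b) (h₁ : ∀ w ∈ W₁, t • w ∈ W₂)
    (h₂ : ∀ w ∈ W₂, t • w ∈ W₁) : Nat.card W₁ = 8 ∧ Nat.card W₂ = 8 := by
  have hinj : Function.Bijective (fun p : W₁ × W₂ => (p.1 : V) * p.2) := by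
    refine ⟨?_, fun w => ?_⟩
    · rintro ⟨a, b⟩ ⟨c, d⟩ h
      have h' : (a : V) * b = c * d := h
      have h1 : (c : V)⁻¹ * a = d * (b : V)⁻¹ := by
        calc (c : V)⁻¹ * a = (c : V)⁻¹ * (a * b) * (b : V)⁻¹ := by group
          _ = d * (b : V)⁻¹ := by rw [h']; group
      have h2 : (c : V)⁻¹ * a = 1 := hdisj _ (mul_mem (inv_mem c.2) a.2)
        (h1 ▸ mul_mem d.2 (inv_mem b.2))
      rw [h2] at h1
      exact Prod.ext (Subtype.ext (inv_mul_eq_one.mp h2).symm)
        (Subtype.ext (mul_inv_eq_one.mp h1.symm).symm)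
    · obtain ⟨a, ha, b, hb, e⟩ := hspan w
      exact ⟨(⟨a, ha⟩, ⟨b, hb⟩), e.symm⟩
  have hc := Nat.card_eq_of_bijective _ hinj
  rw [Nat.card_prod, hV] at hc
  have hle₁ : Nat.card W₁ ≤ Nat.card W₂ := Nat.card_le_card_of_injective
    (fun w => (⟨t • (w : V), h₁ w w.2⟩ : W₂))
    fun a b h => Subtype.ext (smul_left_cancel t (congrArg Subtype.val h))
  have hle₂ : Nat.card W₂ ≤ Nat.card W₁ := Nat.card_le_card_of_injective
    (fun w => (⟨t • (w : V), h₂ w w.2⟩ : W₁))
    fun a b h => Subtype.ext (smul_left_cancel t (congrArg Subtype.val h))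
  have he : Nat.card W₂ = Nat.card W₁ := le_antisymm hle₂ hle₁
  rw [he] at hc
  have h8 : Nat.card W₁ = 8 := by
    obtain ⟨k, hk⟩ := card_two_pow hexp W₁
    rw [hk, ← pow_add, show (64 : ℕ) = 2 ^ 6 by norm_num] at hc
    have := Nat.pow_right_injective (le_refl 2) hc
    rw [hk, show k = 3 by omega]
    norm_num
  exact ⟨h8, he.trans h8⟩

theorem smul_pow_fix {u : Γ} {v : V} (h : u • v = v) (n : ℕ) : u ^ n • v = v :=
  mem_stabilizer_iff.mp (pow_mem (mem_stabilizer_iff.mpr h) n)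

namespace MinBad

variable (B : MinBad Γ V)
include B

theorem realPP_pow_fix {x : Γ} (hx : RealPP x) {v : V} (hv : v ≠ 1) {u : Γ}
    (hu : u ∈ zpowers x) (h : u • v = v) : u = 1 := by
  by_contra hu1
  obtain ⟨i, rfl⟩ := mem_zpowers_iff.mp hu
  obtain ⟨t, ht⟩ := isConj_iff.mp hx.1
  obtain ⟨q, k, hq, hq2, ho⟩ := hx.2.2
  obtain ⟨m, -, hm⟩ := (Nat.dvd_prime_pow hq).mp
    (show orderOf (x ^ i) ∣ q ^ k from ho ▸ (Subgroup.orderOf_dvd_natCard _ hu).trans (Nat.card_zpowers x).dvd)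
  exact B.smul_vec_ne ⟨isConj_iff.mpr ⟨t, by rw [← conj_zpow, ht, inv_zpow]⟩, hu1, q, m, hq, hq2,
    hm⟩ hv h

theorem realPP_pow_fix_sylow {x : Γ} (hx : RealPP x) {T : Sylow 2 Γ} {u : Γ}
    (hu : u ∈ zpowers x) (h : u • T = T) : u = 1 := by
  by_contra hu1
  obtain ⟨i, rfl⟩ := mem_zpowers_iff.mp hu
  obtain ⟨t, ht⟩ := isConj_iff.mp hx.1
  obtain ⟨q, k, hq, hq2, ho⟩ := hx.2.2
  obtain ⟨m, -, hm⟩ := (Nat.dvd_prime_pow hq).mp
    (show orderOf (x ^ i) ∣ q ^ k from ho ▸ (Subgroup.orderOf_dvd_natCard _ hu).trans (Nat.card_zpowers x).dvd)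
  exact B.smul_sylow_ne ⟨isConj_iff.mpr ⟨t, by rw [← conj_zpow, ht, inv_zpow]⟩, hu1, q, m, hq,
    hq2, hm⟩ T h

theorem three_dvd_card_sylow (hV : Nat.card V = 64) : 3 ∣ Nat.card (Sylow 2 Γ) := by
  obtain ⟨T⟩ := (inferInstance : Nonempty (Sylow 2 Γ))
  obtain ⟨j, hj0, hjD, -, heq⟩ := B.exists_fibre_exp (D := 6) (by rw [hV]; norm_num) T
  interval_cases j <;> omega

theorem fix_card_modEq {x : Γ} {q k : ℕ} (hx : RealPP x) (hq : q.Prime)
    (ho : orderOf x = q ^ k) (W : Subgroup V) (hW : ∀ w ∈ W, x • w ∈ W) :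
    Nat.card W ≡ 1 [MOD q] := by
  haveI : Fact q.Prime := ⟨hq⟩
  have h := fix_modEq (p := q) (n := k) (ho ▸ pow_orderOf_eq_one x) W hW
  rwa [show W ⊓ fixSub V x = ⊥ from eq_bot_iff.mpr fun w hw => mem_bot.mpr (by
    by_contra hw1
    exact B.smul_vec_ne hx hw1 (mem_fixSub.mp hw.2)), card_bot] at h

theorem prime_eq (hV : Nat.card V = 64) {x : Γ} {s : ℕ} (hx : RealPP x) (hs : s.Prime)
    (ho : orderOf x = s) : s = 3 ∨ s = 7 := by
  have h := B.fix_card_modEq (k := 1) hx hs (by rw [pow_one, ho]) ⊤ fun w _ => mem_top _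
  rw [card_top, hV] at h
  have hd : s ∣ 63 := (Nat.modEq_iff_dvd' (by norm_num)).mp h.symm
  have hle := Nat.le_of_dvd (by norm_num) hd
  interval_cases s <;> revert hs hd <;> norm_num

theorem order_ne_seven (hV : Nat.card V = 64) {x : Γ} (hx : RealPP x) : orderOf x ≠ 7 := by
  intro ho
  haveI : Fact (Nat.Prime 7) := ⟨by norm_num⟩
  haveI : Fact (Nat.Prime 3) := ⟨Nat.prime_three⟩
  have hexp := B.hyp.exp2
  have hc := mul_comm_of_exp_two hexp
  letI : CommGroup V := { ‹Group V› with mul_comm := hc }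
  -- an element of order three commuting with `x`
  obtain ⟨v, hv⟩ := B.exists_ne_one
  have h3 : 3 ∣ (stabilizer Γ v).index := (B.three_dvd_card_sylow hV).trans (B.card_sylow_dvd hv)
  obtain ⟨S, hS⟩ := exists_sylow_le 3 (H := centralizer ({x} : Set Γ)) fun h =>
    Nat.prime_three.not_dvd_one ((B.hyp.coprime x hx v hv) ▸ Nat.dvd_gcd h h3)
  obtain ⟨g, hg⟩ := exists_prime_orderOf_dvd_card' 3
    (S.dvd_card_of_dvd_card (h3.trans (index_dvd_card _)))
  have hgx : (g : Γ) * x = x * g := mem_centralizer_singleton_iff.mp (hS g.2)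
  have hgo : orderOf (g : Γ) = 3 := by rw [Subgroup.orderOf_coe, hg]
  obtain ⟨t, ht⟩ := isConj_iff.mp hx.1
  let X : ℕ → V → V := fun i w => x ^ i • w
  have hx7 : x ^ 7 = 1 := by rw [← ho, pow_orderOf_eq_one]
  have hsum : ∀ w : V, X 6 w * X 5 w * X 4 w * X 3 w * X 2 w * X 1 w * w = 1 := by
    intro w
    by_contra hne
    refine B.smul_vec_ne hx hne ?_
    simp only [X, smul_mul', smul_smul, ← pow_succ']
    norm_num [hx7]
    ac_rfl
  let p : V →* V :=
    MonoidHom.mk' (fun w => X 3 w * X 1 w * w) fun a b => by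
      simp only [X, smul_mul']; ac_rfl
  let q : V →* V :=
    MonoidHom.mk' (fun w => X 3 w * X 2 w * w) fun a b => by
      simp only [X, smul_mul']; ac_rfl
  have hpq : ∀ w, p (q w) = 1 := by
    intro w
    show X 3 (X 3 w * X 2 w * w) * X 1 (X 3 w * X 2 w * w) * (X 3 w * X 2 w * w) = 1
    simp only [X, smul_mul', smul_smul, ← pow_add]
    norm_num
    calc _ = (x ^ 6 • w * x ^ 5 • w * x ^ 4 • w * x ^ 3 • w * x ^ 2 • w * x • w * w) *
          (x ^ 3 • w * x ^ 3 • w) := by ac_rfl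
      _ = 1 := by
        have := hsum w
        simp only [X, pow_one] at this
        rw [this, hexp, one_mul]
  have hqp : ∀ w, q (p w) = 1 := by
    intro w
    show X 3 (X 3 w * X 1 w * w) * X 2 (X 3 w * X 1 w * w) * (X 3 w * X 1 w * w) = 1
    simp only [X, smul_mul', smul_smul, ← pow_add]
    norm_num
    calc _ = (x ^ 6 • w * x ^ 5 • w * x ^ 4 • w * x ^ 3 • w * x ^ 2 • w * x • w * w) *
          (x ^ 3 • w * x ^ 3 • w) := by ac_rfl
      _ = 1 := by
        have := hsum w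
        simp only [X, pow_one] at this
        rw [this, hexp, one_mul]
  have hrec : ∀ w, x • p w * (x • q w * q w) = w := by
    intro w
    show x • (X 3 w * X 1 w * w) * (x • (X 3 w * X 2 w * w) * (X 3 w * X 2 w * w)) = w
    simp only [X, smul_mul', smul_smul, ← pow_succ']
    norm_num
    calc _ = (x ^ 4 • w * x ^ 4 • w) * ((x ^ 2 • w * x ^ 2 • w) * ((x • w * x • w) *
          (x ^ 3 • w * x ^ 3 • w))) * w := by ac_rfl
      _ = w := by simp [hexp]
  have hstab : ∀ w, p w = 1 → p (x • w) = 1 ∧ p ((g : Γ) • w) = 1 := by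
    intro w hw
    have hcomm : ∀ u : Γ, u * x = x * u → p (u • w) = u • p w := by
      intro u hu
      show X 3 (u • w) * X 1 (u • w) * (u • w) = u • (X 3 w * X 1 w * w)
      have hu' : ∀ i : ℕ, x ^ i * u = u * x ^ i := fun i => ((show Commute u x from hu).pow_right i).eq.symm
      simp only [X, smul_mul', smul_smul, hu']
    exact ⟨by rw [hcomm x rfl, hw, smul_one], by rw [hcomm g hgx, hw, smul_one]⟩
  have hstab' : ∀ w, q w = 1 → q (x • w) = 1 ∧ q ((g : Γ) • w) = 1 := by
    intro w hw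
    have hcomm : ∀ u : Γ, u * x = x * u → q (u • w) = u • q w := by
      intro u hu
      show X 3 (u • w) * X 2 (u • w) * (u • w) = u • (X 3 w * X 2 w * w)
      have hu' : ∀ i : ℕ, x ^ i * u = u * x ^ i := fun i => ((show Commute u x from hu).pow_right i).eq.symm
      simp only [X, smul_mul', smul_smul, hu']
    exact ⟨by rw [hcomm x rfl, hw, smul_one], by rw [hcomm g hgx, hw, smul_one]⟩
  have htx : ∀ i : ℕ, x ^ i * t = t * (x⁻¹) ^ i := by
    intro i
    refine ((SemiconjBy.pow_right ?_ i : SemiconjBy t (x⁻¹ ^ i) (x ^ i)).eq).symm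
    show t * x⁻¹ = x * t
    calc t * x⁻¹ = (t * x * t⁻¹)⁻¹ * t := by group
      _ = x * t := by rw [ht, inv_inv]
  have h₁ : ∀ w, p w = 1 → q (t • w) = 1 := by
    intro w hw
    have hw' : x ^ 3 • w * x • w * w = 1 := by
      have : X 3 w * X 1 w * w = 1 := hw
      simpa [X] using this
    show X 3 (t • w) * X 2 (t • w) * (t • w) = 1
    simp only [X, smul_smul, htx]
    rw [mul_smul, mul_smul, ← smul_mul', ← smul_mul', smul_eq_iff_eq_inv_smul, smul_one]
    have := congrArg ((x⁻¹) ^ 3 • ·) hw'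
    simp only [smul_mul', smul_one, smul_smul] at this
    simp only [inv_pow] at this ⊢
    rw [show (x ^ 3)⁻¹ * x ^ 3 = 1 by group, one_smul,
      show (x ^ 3)⁻¹ * x = (x ^ 2)⁻¹ by group] at this
    rw [← this]
    simp only [mul_assoc, mul_comm, mul_left_comm]
  have h₂ : ∀ w, q w = 1 → p (t • w) = 1 := by
    intro w hw
    have hw' : x ^ 3 • w * x ^ 2 • w * w = 1 := hw
    show X 3 (t • w) * X 1 (t • w) * (t • w) = 1
    simp only [X, smul_smul, htx]
    rw [mul_smul, mul_smul, ← smul_mul', ← smul_mul', smul_eq_iff_eq_inv_smul, smul_one]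
    have := congrArg ((x⁻¹) ^ 3 • ·) hw'
    simp only [smul_mul', smul_one, smul_smul] at this
    simp only [inv_pow] at this ⊢
    rw [show (x ^ 3)⁻¹ * x ^ 3 = 1 by group, one_smul,
      show (x ^ 3)⁻¹ * x ^ 2 = (x ^ 1)⁻¹ by group] at this
    rw [← this]
    simp only [mul_assoc, mul_comm, mul_left_comm]
  have hfix : ∀ W : Subgroup V, Nat.card W = 8 → (∀ w ∈ W, x • w ∈ W) →
      (∀ w ∈ W, (g : Γ) • w ∈ W) → ∀ w ∈ W, (g : Γ) • w = w := by
    intro W hW hWx hWg w hw
    have hg3 : (g : Γ) ^ 3 ^ 1 = 1 := by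
      have := pow_orderOf_eq_one (g : Γ)
      rwa [hgo] at this
    have h1 := fix_modEq (p := 3) (n := 1) hg3 W hWg
    rw [hW] at h1
    have h2 := B.fix_card_modEq (q := 7) (k := 1) hx (by norm_num) (by rw [pow_one, ho])
      (W ⊓ fixSub V (g : Γ)) fun a ha => ⟨hWx a ha.1, by
        show (g : Γ) • x • a = x • a
        rw [smul_smul, hgx, mul_smul, mem_fixSub.mp ha.2]⟩
    have h3 : Nat.card ↥(W ⊓ fixSub V (g : Γ)) ≤ 8 := hW ▸ card_le_of_le inf_le_left
    have h4 : Nat.card ↥(W ⊓ fixSub V (g : Γ)) = 8 := by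
      simp only [Nat.ModEq] at h1 h2
      omega
    have h5 := Subgroup.eq_of_le_of_card_ge (inf_le_left : W ⊓ fixSub V (g : Γ) ≤ W)
      (by rw [h4, hW])
    have h6 : w ∈ W ⊓ fixSub V (g : Γ) := h5.symm ▸ hw
    exact h6.2
  obtain ⟨c1, c2⟩ := card_eq_eight (t := t) hV hexp (W₁ := p.ker) (W₂ := q.ker)
    (fun w hw hw' => by rw [← hrec w, show p w = 1 from hw, show q w = 1 from hw']; simp)
    (fun w => ⟨x • q w * q w,
      show p (x • q w * q w) = 1 by rw [map_mul, (hstab _ (hpq w)).1, hpq, one_mul],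
      x • p w, show q (x • p w) = 1 from (hstab' _ (hqp w)).1,
      ((hc _ _).trans (hrec w)).symm⟩) h₁ h₂
  have hg1 := hfix p.ker c1 (fun w hw => (hstab w hw).1) (fun w hw => (hstab w hw).2)
  have hg2 := hfix q.ker c2 (fun w hw => (hstab' w hw).1) (fun w hw => (hstab' w hw).2)
  have : (g : Γ) = 1 := eq_of_smul_eq_smul (α := V) fun w => by
    rw [one_smul]
    conv_lhs => rw [← hrec w]
    rw [smul_mul', hg1 _ (show p (x • q w * q w) = 1 by
        rw [map_mul, (hstab _ (hpq w)).1, hpq, one_mul]),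
      hg2 _ (show q (x • p w) = 1 from (hstab' _ (hqp w)).1), hrec]
  rw [this, orderOf_one] at hgo
  omega

theorem order_three (hV : Nat.card V = 64) {x : Γ} (hx : RealPP x) (hp : (orderOf x).Prime) :
    orderOf x = 3 :=
  (B.prime_eq hV hx hp rfl).resolve_right (B.order_ne_seven hV hx)

theorem cube_eq_three {x : Γ} (hx : RealPP x) (ho : orderOf x = 3) (w : V) :
    w * x • w * x ^ 2 • w = 1 := by
  have hc := mul_comm_of_exp_two B.hyp.exp2
  letI : CommGroup V := { ‹Group V› with mul_comm := hc }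
  by_contra hne
  refine B.smul_vec_ne hx hne ?_
  have h3 : x * x ^ 2 = 1 := by
    have h := pow_orderOf_eq_one x
    rw [ho] at h
    rw [← pow_succ']
    exact h
  rw [smul_mul', smul_mul', smul_smul, smul_smul, ← pow_two, h3, one_smul]
  ac_rfl

theorem centralizer_no_real (hV : Nat.card V = 64) {x : Γ} (hx : RealPP x) (ho : orderOf x = 3) :
    NoRealOdd (centralizer ({x} : Set Γ)) := by
  intro a ha hao
  by_contra ha1
  obtain ⟨n, hn, hnp⟩ := exists_realPP_pow ha hao ha1
  have hx'r : RealPP ((a ^ n : centralizer ({x} : Set Γ)) : Γ) := realPP_coe hn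
  obtain ⟨x', hx'def⟩ : ∃ x' : Γ, x' = ((a ^ n : centralizer ({x} : Set Γ)) : Γ) := ⟨_, rfl⟩
  rw [← hx'def] at hx'r
  have ho' : orderOf x' = 3 := B.order_three hV hx'r (by
    rw [hx'def, Subgroup.orderOf_coe]; exact hnp)
  have hxx : x' * x = x * x' := by
    rw [hx'def]; exact mem_centralizer_singleton_iff.mp (a ^ n).2
  obtain ⟨t', ht'⟩ := isConj_iff.mp hn.1
  obtain ⟨t, htdef⟩ : ∃ t : Γ, t = (t' : Γ) := ⟨_, rfl⟩
  have htx : t * x = x * t := by rw [htdef]; exact mem_centralizer_singleton_iff.mp t'.2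
  have ht : t * x' * t⁻¹ = x'⁻¹ := by
    rw [htdef, hx'def]; simpa using congrArg Subtype.val ht'
  have hexp := B.hyp.exp2
  have hc := mul_comm_of_exp_two hexp
  letI : CommGroup V := { ‹Group V› with mul_comm := hc }
  let ψ : V →* V := MonoidHom.mk' (fun w => x' • w * x • w) fun a b => by
    simp only [smul_mul']; ac_rfl
  let χ : V →* V := MonoidHom.mk' (fun w => x' • w * x ^ 2 • w) fun a b => by
    simp only [smul_mul']; ac_rfl
  have h3 : x ^ 3 = 1 := by rw [← ho, pow_orderOf_eq_one]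
  have h3' : x' ^ 3 = 1 := by rw [← ho', pow_orderOf_eq_one]
  have hx2 : ∀ w : V, x • w * x ^ 2 • w = w := fun w => by
    have := B.cube_eq_three hx ho w
    rw [mul_assoc] at this
    exact (eq_of_mul_eq_one_exp_two hexp this).symm
  have hx2' : ∀ w : V, x' • w * x' ^ 2 • w = w := fun w => by
    have := B.cube_eq_three hx'r ho' w
    rw [mul_assoc] at this
    exact (eq_of_mul_eq_one_exp_two hexp this).symm
  have hψχ : ∀ w, ψ (χ w) = 1 ∧ χ (ψ w) = 1 := by
    intro w
    have e1 : x * x ^ 2 = 1 := by rw [← pow_succ', h3]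
    have e2 : x ^ 2 * x = 1 := by rw [← pow_succ, h3]
    have e3 : x * x' = x' * x := hxx.symm
    have e4 : x ^ 2 * x' = x' * x ^ 2 := ((show Commute x x' from e3).pow_left 2).eq
    constructor
    · show x' • (x' • w * x ^ 2 • w) * x • (x' • w * x ^ 2 • w) = 1
      rw [smul_mul', smul_mul', smul_smul, smul_smul, smul_smul, smul_smul, e1, e3, one_smul,
        ← pow_two, mul_smul, mul_smul]
      calc _ = x' ^ 2 • w * ((x' • x • w * x' • x ^ 2 • w) * w) := by ac_rfl
        _ = 1 := by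
          rw [← smul_mul', hx2, ← mul_assoc, mul_comm (x' ^ 2 • w), hx2', hexp]
    · show x' • (x' • w * x • w) * x ^ 2 • (x' • w * x • w) = 1
      rw [smul_mul', smul_mul', smul_smul, smul_smul, smul_smul, smul_smul, e2, e4, one_smul,
        ← pow_two, mul_smul, mul_smul]
      calc _ = x' ^ 2 • w * ((x' • x • w * x' • x ^ 2 • w) * w) := by ac_rfl
        _ = 1 := by
          rw [← smul_mul', hx2, ← mul_assoc, mul_comm (x' ^ 2 • w), hx2', hexp]
  have hsum : ∀ w, χ w * ψ w = w := by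
    intro w
    show x' • w * x ^ 2 • w * (x' • w * x • w) = w
    calc _ = (x' • w * x' • w) * (x • w * x ^ 2 • w) := by ac_rfl
      _ = w := by rw [hexp, one_mul, hx2]
  have hinv' : ∀ w : V, x⁻¹ • w = x ^ 2 • w := fun w => by
    rw [show x⁻¹ = x ^ 2 from inv_eq_of_mul_eq_one_right (by rw [← pow_succ', h3])]
  have hswap : ∀ (e : Γ), e * t = t * e → e * x' = x' * e → ∀ w : V, x' • w * e • w = 1 →
      x' • t • w * e⁻¹ • t • w = 1 := by
    intro e he he' w hw
    have h1 := eq_of_mul_eq_one_exp_two hexp hw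
    have e1 : x' * t = t * x'⁻¹ := by
      calc x' * t = (t * x' * t⁻¹)⁻¹ * t := by rw [ht]; group
        _ = t * x'⁻¹ := by group
    have e2 : e⁻¹ * t = t * e⁻¹ := ((show Commute e t from he).inv_left).eq
    rw [smul_smul, smul_smul, e1, e2, mul_smul, mul_smul, ← smul_mul']
    have h3 : e⁻¹ • w = x'⁻¹ • w := by
      rw [inv_smul_eq_iff, smul_smul, ((show Commute e x' from he').inv_right).eq, mul_smul, ← h1,
        inv_smul_smul]
    rw [h3, hexp, smul_one]
  have hx2c : x ^ 2 * t = t * x ^ 2 := ((show Commute x t from htx.symm).pow_left 2).eq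
  have hx2c' : x ^ 2 * x' = x' * x ^ 2 := ((show Commute x x' from hxx.symm).pow_left 2).eq
  have hinv2 : ∀ w : V, (x ^ 2)⁻¹ • w = x • w := fun w => by
    rw [show (x ^ 2)⁻¹ = x from inv_eq_of_mul_eq_one_right (by rw [← pow_succ, h3])]
  obtain ⟨c1, -⟩ := card_eq_eight (t := t) (W₁ := ψ.ker) (W₂ := χ.ker) hV hexp
    (fun w hw hw' => by rw [← hsum w, show χ w = 1 from hw', show ψ w = 1 from hw, one_mul])
    (fun w => ⟨χ w, (hψχ w).1, ψ w, (hψχ w).2, (hsum w).symm⟩)
    (fun w hw => by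
      show x' • t • w * x ^ 2 • t • w = 1
      rw [← hinv' (t • w)]
      exact hswap x htx.symm hxx.symm w hw)
    (fun w hw => by
      show x' • t • w * x • t • w = 1
      rw [← hinv2 (t • w)]
      exact hswap (x ^ 2) hx2c hx2c' w hw)
  have h := B.fix_card_modEq (k := 1) hx Nat.prime_three (by rw [pow_one, ho]) ψ.ker fun w hw => by
    have hw' : x' • w * x • w = 1 := hw
    show x' • x • w * x • x • w = 1
    rw [smul_smul, hxx, mul_smul, ← smul_mul', hw', smul_one]
  rw [c1] at h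
  exact absurd h (by decide)

/-- The centraliser of a real element of odd prime power order has odd order. -/
theorem odd_card_centralizer (hV : Nat.card V = 64) {x : Γ} (hx : RealPP x) :
    Odd (Nat.card (centralizer ({x} : Set Γ))) := by
  haveI : Fact (Nat.Prime 2) := ⟨Nat.prime_two⟩
  obtain ⟨n, hn, hnp⟩ := exists_realPP_pow hx.1 hx.odd hx.2.1
  have h3 := B.order_three hV hn hnp
  have hle : centralizer ({x} : Set Γ) ≤ centralizer ({x ^ n} : Set Γ) := fun a ha =>
    mem_centralizer_singleton_iff.mpr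
      ((show Commute a x from mem_centralizer_singleton_iff.mp ha).pow_right n).eq
  suffices h : Odd (Nat.card (centralizer ({x ^ n} : Set Γ))) from
    h.of_dvd_nat (card_dvd_of_le hle)
  obtain ⟨K, hKn, hK, hKi⟩ :=
    RealTwoPart.exists_normal_two_subgroup (B.centralizer_no_real hV hn h3)
  have hbot : K = ⊥ := by
    rw [eq_bot_iff]
    intro q hq
    refine mem_bot.mpr (eq_of_smul_eq_smul (α := V) fun v => ?_)
    rcases eq_or_ne v 1 with rfl | hv
    · rw [smul_one, smul_one]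
    · rw [one_smul]
      refine smul_eq_of_normal_coprime K ?_ hq
      rw [B.index_cent_stabilizer hn hv]
      obtain ⟨k, hk⟩ := IsPGroup.iff_card.mp hK
      rw [hk]
      exact Nat.Coprime.pow_left k (Nat.prime_two.coprime_iff_not_dvd.2 (B.hyp.oddIndex v))
  rw [hbot, index_bot] at hKi
  exact Nat.not_even_iff_odd.mp fun he => hKi (even_iff_two_dvd.mp he)

theorem no_commuting_involutions (hV : Nat.card V = 64) :
    ∀ x z d : Γ, RealPP x → z * z = 1 → d * d = 1 → z * x * z⁻¹ = x⁻¹ →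
      d * x = x * d → d * z = z * d → d = 1 := by
  intro x z d hx _ hd _ hdx _
  exact eq_one_of_odd_of_sq ((B.odd_card_centralizer hV hx).of_dvd_nat
    (Subgroup.orderOf_dvd_natCard _ (mem_centralizer_singleton_iff.mpr hdx))) hd

/-- An element of odd order commuting with `x` of order three, of order a power of seven, is
fixed-point-free. -/
theorem seven_fpf (hV : Nat.card V = 64) {x : Γ} (hx : RealPP x) (ho : orderOf x = 3) {u : Γ}
    (hux : u * x = x * u) {k : ℕ} (hu : u ^ 7 ^ k = 1) (hu1 : u ≠ 1) {v : V} (hv : v ≠ 1) :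
    u • v ≠ v := by
  haveI : Fact (Nat.Prime 7) := ⟨by norm_num⟩
  intro h
  have h7 := fix_modEq hu (⊤ : Subgroup V) fun w _ => mem_top _
  rw [top_inf_eq, card_top, hV] at h7
  have h3 := B.fix_card_modEq (k := 1) hx Nat.prime_three (by rw [pow_one, ho]) (fixSub V u)
    fun w hw => by
      show u • x • w = x • w
      rw [smul_smul, hux, mul_smul, mem_fixSub.mp hw]
  obtain ⟨f, hf⟩ := card_two_pow B.hyp.exp2 (fixSub V u)
  have hle := (fixSub V u).card_le_card_group
  rw [hf, hV, show (64 : ℕ) = 2 ^ 6 by norm_num] at hle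
  have hf6 : f ≤ 6 := (Nat.pow_le_pow_iff_right (by omega)).mp hle
  rw [hf] at h3 h7
  have hne : f ≠ 0 := fun h0 => hv (by
    rw [h0, pow_zero, Subgroup.card_eq_one] at hf
    exact mem_bot.mp (hf ▸ (mem_fixSub.mpr h : v ∈ fixSub V u)))
  have hne6 : f ≠ 6 := fun h6 => hu1 (eq_of_smul_eq_smul (α := V) fun w => by
    have : w ∈ fixSub V u := by
      rw [Subgroup.eq_top_of_card_eq (fixSub V u) (by rw [hf, h6, hV]; norm_num)]; exact mem_top w
    rw [one_smul]; exact this)
  interval_cases f <;> simp_all [Nat.ModEq]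

end MinBad

end Cfsg.Agent.RealGraph
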