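import Cfsg.Agent.Lib.RealGraph.Main
import Cfsg.Agent.Lib.Coprime.FittingLength
import Mathlib.GroupTheory.SchurZassenhaus

/-!
The structure of a group with disconnected prime graph on real class sizes.
-/

set_option autoImplicit false
set_option linter.unusedSectionVars false

namespace Cfsg.Agent.RealGraph

open Subgroup
open scoped Pointwise

universe u

variable {G : Type u} [Group G] [Finite G] {π₁ π₂ : Set ℕ}

theorem sylow_normal_of_noRealOdd (h : NoRealOdd G) (T : Sylow 2 G) : (T : Subgroup G).Normal := by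
  haveI : Subsingleton (Sylow 2 G) := ⟨exists_normal_eq_sylow h⟩
  exact Sylow.normal_of_subsingleton T

/-- Some real class has even size. -/
theorem Split.exists_even (S : Split G π₁ π₂) :
    ∃ g : G, IsConj g g⁻¹ ∧ 2 ∣ csize g := by
  haveI : Fact (Nat.Prime 2) := ⟨Nat.prime_two⟩
  by_contra hcon
  push Not at hcon
  have hno : NoRealOdd G := fun x hx ho => by
    by_contra hx1
    exact hcon x hx (two_dvd_csize hx ho hx1)
  obtain ⟨T⟩ := (inferInstance : Nonempty (Sylow 2 G))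
  have hT : ∀ g : G, IsConj g g⁻¹ → g * g = 1 ∧ g ∈ (T : Subgroup G) ∧
      ∀ t ∈ (T : Subgroup G), Commute t g := by
    intro g hg
    have h1 := sq_eq_one_of_odd hg (hcon g hg)
    obtain ⟨k, hk⟩ := invol_two_power h1
    obtain ⟨T', hT'⟩ := (IsPGroup.of_card (n := k) (by rw [Nat.card_zpowers, hk]) :
      IsPGroup 2 (zpowers g)).exists_le_sylow
    obtain ⟨T'', hT''⟩ := exists_sylow_le 2 (H := centralizer ({g} : Set G)) (hcon g hg)
    rw [exists_normal_eq_sylow hno T' T] at hT'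
    rw [exists_normal_eq_sylow hno T'' T] at hT''
    exact ⟨h1, hT' (mem_zpowers g), fun t ht => mem_centralizer_singleton_iff.mp (hT'' ht)⟩
  have key : ∀ {ρ₁ ρ₂ : Set ℕ}, Split G ρ₁ ρ₂ → ∀ a b : G, IsConj a a⁻¹ → IsConj b b⁻¹ →
      csize b ≠ 1 → OneSided ρ₁ (csize a) → OneSided ρ₂ (csize b) →
      OneSided ρ₁ (csize (b * a)) → False := by
    intro ρ₁ ρ₂ R a b ha hb hb1 hsa hsb hsc
    have hcop : (csize b).Coprime (csize a) := (R.coprime hsa hsb).symm
    have hdvd : csize (b * a) ∣ csize a :=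
      (R.coprime hsc hsb).dvd_of_dvd_mul_left (csize_mul_dvd hcop)
    obtain ⟨-, hcard⟩ := translate hcop (hT b hb).1 hdvd
    have hle : pairGroup b ≤ (T : Subgroup G) := (closure_le _).mpr fun y ⟨g, h, e⟩ => by
      haveI := sylow_normal_of_noRealOdd hno T
      exact e ▸ mul_mem (Normal.conj_mem inferInstance _ (hT b hb).2.1 g)
        (Normal.conj_mem inferInstance _ (hT b hb).2.1 h)
    have hbot : pairGroup b = ⊥ := by
      obtain ⟨k, hk⟩ := IsPGroup.iff_card.mp (T.2.to_le hle)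
      rcases k with _ | k
      · rw [pow_zero] at hk
        exact Subgroup.card_eq_one.mp hk
      · exact absurd (((dvd_pow_self 2 (Nat.succ_ne_zero k)).trans (dvd_of_eq hk.symm)).trans hcard)
          (hcon a ha)
    exact hb1 (csize_eq_one_iff.mpr (mem_center_of_pairGroup_eq_bot (hT b hb).1 hbot))
  obtain ⟨a, ha, ha1, hsa⟩ := S.ex₁
  obtain ⟨b, hb, hb1, hsb⟩ := S.ex₂
  obtain ⟨haa, haT, -⟩ := hT a ha
  obtain ⟨hbb, -, hcb⟩ := hT b hb
  have hc : Commute a b := hcb a haT
  have hprod : b * a * (b * a) = 1 := by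
    rw [mul_assoc, ← mul_assoc a, hc.eq, mul_assoc b a a, haa, mul_one, hbb]
  rcases S.side _ (isConj_inv_of_sq hprod) with h | h
  · exact key S a b ha hb hb1 hsa hsb h
  · exact key S.symm b a hb ha ha1 hsb hsa (hc.eq ▸ h)

theorem centralizes_of_no_inverted {σ : Set ℕ} {N : Subgroup G} [N.Normal] {s : ℕ}
    (hs : s.Prime) (hs2 : s ≠ 2) (hN : IsPGroup s N) (hsσ : s ∉ σ)
    (h : ∀ w : G, RealPP w → (orderOf w).Prime → orderOf w ∈ σ) :
    ∀ (k : ℕ) (t : G), t ^ 2 ^ k = 1 → ∀ n ∈ N, t * n * t⁻¹ = n := by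
  intro k
  induction k with
  | zero => intro t ht n _; rw [pow_zero, pow_one] at ht; simp [ht]
  | succ k ih =>
    intro t ht n hn
    have h2 := ih (t * t) (by rw [← pow_two, ← pow_mul, ← pow_succ']; exact ht) n hn
    by_contra hne
    set e := n⁻¹ * (t * n * t⁻¹) with he
    have heN : e ∈ N := mul_mem (inv_mem hn) (Normal.conj_mem inferInstance n hn t)
    have he1 : e ≠ 1 := fun h1 => hne (inv_mul_eq_one.mp h1).symm
    have hinv : t * e * t⁻¹ = e⁻¹ := by
      calc t * e * t⁻¹ = (t * n * t⁻¹)⁻¹ * (t * t * n * (t * t)⁻¹) := by rw [he]; group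
        _ = e⁻¹ := by rw [h2, he]; group
    haveI : Fact s.Prime := ⟨hs⟩
    obtain ⟨m, hm⟩ := IsPGroup.iff_orderOf.mp hN ⟨e, heN⟩
    rw [Subgroup.orderOf_mk] at hm
    have hodd : Odd (orderOf e) := hm ▸ (hs.odd_of_ne_two hs2).pow
    obtain ⟨i, hi, hip⟩ := exists_realPP_pow (isConj_iff.mpr ⟨t, hinv⟩) hodd he1
    have hd : orderOf (e ^ i) ∣ s ^ m := hm ▸ orderOf_pow_dvd i
    exact hsσ ((Nat.prime_dvd_prime_iff_eq hip hs).mp (hip.dvd_of_dvd_pow hd) ▸ h _ hi hip)

/-- A solvable group generated by 2-elements only involves `2` and the orders of real elements of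
odd prime order. -/
theorem prime_mem_of_generated (σ : Set ℕ) :
    ∀ (n : ℕ) (K : Type u) [Group K] [Finite K], Nat.card K = n → Group.IsSolvable K →
      closure {k : K | ∃ j : ℕ, orderOf k = 2 ^ j} = ⊤ →
      (∀ w : K, RealPP w → (orderOf w).Prime → orderOf w ∈ σ) →
      ∀ p : ℕ, p.Prime → p ∣ n → p ∈ σ ∨ p = 2 := by
  intro n
  induction n using Nat.strong_induction_on with
  | _ n ih =>
    intro K _ _ hn hsol hgen hreal p hp hpn
    haveI : Nontrivial K := by
      rw [← Finite.one_lt_card_iff_nontrivial, hn]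
      rcases Nat.eq_zero_or_pos n with h | h
      · exact absurd (hn.trans h) Nat.card_pos.ne'
      · exact lt_of_lt_of_le hp.one_lt (Nat.le_of_dvd h hpn)
    haveI := hsol
    obtain ⟨s, hs, hne⟩ := Coprime.exists_pCore_ne_bot (Q := K)
    haveI : Fact s.Prime := ⟨hs⟩
    set N := Cfsg.pCore s K with hN
    have hlt : N.index < n := by
      have h1 := N.card_mul_index
      have h2 : 1 < Nat.card N := (Subgroup.one_lt_card_iff_ne_bot N).mpr hne
      rw [hn] at h1
      have h3 : 0 < N.index := Nat.pos_of_ne_zero index_ne_zero_of_finite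
      calc N.index = 1 * N.index := (one_mul _).symm
        _ < Nat.card N * N.index := Nat.mul_lt_mul_of_pos_right h2 h3
        _ = n := h1
    have hgenQ : closure {k : K ⧸ N | ∃ j : ℕ, orderOf k = 2 ^ j} = ⊤ := by
      rw [eq_top_iff, ← map_top_of_surjective _ (QuotientGroup.mk'_surjective N), ← hgen,
        MonoidHom.map_closure]
      refine closure_mono ?_
      rintro _ ⟨k, ⟨j, hj⟩, rfl⟩
      obtain ⟨i, -, hi⟩ := (Nat.dvd_prime_pow Nat.prime_two).mp
        (show orderOf (QuotientGroup.mk' N k) ∣ 2 ^ j from hj ▸ orderOf_map_dvd _ k)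
      exact ⟨i, hi⟩
    have hrealQ : ∀ w : K ⧸ N, RealPP w → (orderOf w).Prime → orderOf w ∈ σ := by
      rintro w ⟨hw, hw1, q, k, hq, hq2, ho⟩ hwp
      obtain ⟨e, he, ⟨m, hm⟩, hex⟩ := exists_real_lift hw hq hq2 ho
      have he1 : e ≠ 1 := fun h => hw1 (by rw [← hex, h, map_one])
      obtain ⟨i, hi, hip⟩ := exists_realPP_pow he (hm ▸ (hq.odd_of_ne_two hq2).pow) he1
      have h1 : orderOf (e ^ i) = q := (Nat.prime_dvd_prime_iff_eq hip hq).mp
        (hip.dvd_of_dvd_pow (hm ▸ orderOf_pow_dvd i))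
      have h2 : orderOf w = q := (Nat.prime_dvd_prime_iff_eq hwp hq).mp
        (hwp.dvd_of_dvd_pow ho.dvd)
      rw [h2, ← h1]
      exact hreal _ hi hip
    have hQ : ∀ q : ℕ, q.Prime → q ∣ N.index → q ∈ σ ∨ q = 2 :=
      ih N.index hlt (K ⧸ N) (index_eq_card N).symm inferInstance hgenQ hrealQ
    obtain ⟨a, ha⟩ := PCore.exists_card_pCore (G := K) (p := s)
    by_cases hsgood : s ∈ σ ∨ s = 2
    · rw [← hn, ← N.card_mul_index] at hpn
      rcases hp.dvd_mul.mp hpn with h | h
      · rw [hN, ha] at h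
        exact (Nat.prime_dvd_prime_iff_eq hp hs).mp (hp.dvd_of_dvd_pow h) ▸ hsgood
      · exact hQ p hp h
    · exfalso
      push Not at hsgood
      have hcen : N ≤ Subgroup.center K := by
        have hle : closure {k : K | ∃ j : ℕ, orderOf k = 2 ^ j} ≤ centralizer (N : Set K) := by
          refine (closure_le _).mpr ?_
          rintro k ⟨j, hj⟩
          refine mem_centralizer_iff.mpr fun x hx => ?_
          exact ((mul_inv_eq_iff_eq_mul).mp (centralizes_of_no_inverted hs hsgood.2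
            PCore.isPGroup_pCore hsgood.1 hreal j k (hj ▸ pow_orderOf_eq_one k) x hx)).symm
        rw [hgen] at hle
        intro x hx
        rw [mem_center_iff]
        intro g
        exact (mem_centralizer_iff.mp (hle (mem_top g)) x hx).symm
      have hcop : (Nat.card N).Coprime N.index := by
        rw [hN, ha]
        refine Nat.Coprime.pow_left a (hs.coprime_iff_not_dvd.2 fun h => ?_)
        rcases hQ s hs h with h' | h'
        · exact hsgood.1 h'
        · exact hsgood.2 h'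
      obtain ⟨H, hH⟩ := exists_left_complement'_of_coprime hcop
      have hHn : H.Normal := by
        refine ⟨fun x hx g => ?_⟩
        obtain ⟨⟨⟨h, hh⟩, ⟨m, hm⟩⟩, he⟩ := hH.2 g
        have hg : g = h * m := he.symm
        have hmc := mem_center_iff.mp (hcen hm)
        rw [hg, show h * m * x * (h * m)⁻¹ = h * (m * x * m⁻¹) * h⁻¹ by group, ← hmc x,
          mul_inv_cancel_right]
        exact mul_mem (mul_mem hh hx) (inv_mem hh)
      have hidx : H.index = Nat.card N := hH.symm.index_eq_card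
      have hall : closure {k : K | ∃ j : ℕ, orderOf k = 2 ^ j} ≤ H := by
        refine (closure_le _).mpr ?_
        rintro k ⟨j, hj⟩
        rw [SetLike.mem_coe, ← QuotientGroup.eq_one_iff (N := H), ← orderOf_eq_one_iff]
        refine Nat.eq_one_of_dvd_coprimes (a := 2 ^ j) (b := H.index) ?_ ?_ ?_
        · rw [hidx, hN, ha]
          exact Nat.Coprime.pow _ _ ((Nat.coprime_primes Nat.prime_two hs).mpr hsgood.2.symm)
        · exact hj ▸ orderOf_map_dvd (QuotientGroup.mk' H) k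
        · exact (_root_.orderOf_dvd_natCard _).trans (dvd_of_eq (index_eq_card H).symm)
      rw [hgen, top_le_iff] at hall
      rw [hall, index_top] at hidx
      exact hne (Subgroup.card_eq_one.mp hidx.symm)

/-- The subgroup generated by the 2-elements when the Sylow 2-subgroups are not normal. -/
theorem Split.structure_part (S : Split G π₁ π₂) (h2 : 2 ∈ π₁) (hno : ¬ NoRealOdd G)
    (hπ₂ : ∀ q ∈ π₂, q.Prime) (K : Subgroup G)
    (hK : K = closure {g : G | ∃ k : ℕ, orderOf g = 2 ^ k}) :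
    (∃ x : K, IsConj x x⁻¹ ∧ 2 ∣ csize x) ∧
      (∃ z : K, IsConj z z⁻¹ ∧ csize z ≠ 1 ∧ ¬ 2 ∣ csize z) ∧
      ∀ y : K, IsConj y y⁻¹ → 2 ∣ csize y → ∃ j : ℕ, csize y = 2 ^ j := by
  haveI : Fact (Nat.Prime 2) := ⟨Nat.prime_two⟩
  haveI hKn : K.Normal := by
    rw [hK, ← normalizer_eq_top_iff, eq_top_iff]
    intro g _
    refine normalizer_le_normalizer_closure _ (mem_set_normalizer_iff.mpr fun x => ?_)
    show (∃ k : ℕ, orderOf x = 2 ^ k) ↔ ∃ k : ℕ, orderOf (g * x * g⁻¹) = 2 ^ k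
    rw [← MulAut.conj_apply g x, MulEquiv.orderOf_eq]
  have h2K : ∀ t : G, (∃ k : ℕ, orderOf t = 2 ^ k) → t ∈ K := fun t ht =>
    hK ▸ subset_closure ht
  have hxK : ∀ x : G, IsConj x x⁻¹ → Odd (orderOf x) → ∃ x' : K, (x' : G) = x ∧ IsConj x' x'⁻¹ := by
    intro x hx ho
    obtain ⟨t, htk, ht⟩ := exists_two_inverter hx
    have h1 : (x * x)⁻¹ ∈ K := by
      have := mul_mem (h2K t htk) (Normal.conj_mem inferInstance _ (inv_mem (h2K t htk)) x)
      rwa [show t * (x * t⁻¹ * x⁻¹) = t * x * t⁻¹ * x⁻¹ by group, ht, ← mul_inv_rev] at this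
    obtain ⟨m, hm⟩ := exists_pow_eq_self_of_coprime (x := x) (n := 2) (Nat.coprime_two_left.mpr ho)
    have hxm : x ∈ K := by
      rw [← hm, pow_two]
      exact pow_mem (by simpa using inv_mem h1) m
    exact ⟨⟨x, hxm⟩, rfl, isConj_iff.mpr ⟨⟨t, h2K t htk⟩, Subtype.ext ht⟩⟩
  have hcoe : ∀ y : K, IsConj y y⁻¹ → IsConj (y : G) (y : G)⁻¹ := fun y hy => by
    obtain ⟨t, ht⟩ := isConj_iff.mp hy
    exact isConj_iff.mpr ⟨t, by simpa using congrArg Subtype.val ht⟩
  obtain ⟨x, hx, -⟩ := exists_realPP hno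
  obtain ⟨x', hx'e, hx'r⟩ := hxK x hx.1 hx.odd
  have hx'1 : x' ≠ 1 := fun h => hx.2.1 (by rw [← hx'e, h]; rfl)
  have hx'o : Odd (orderOf x') := by
    rw [← Subgroup.orderOf_coe, hx'e]; exact hx.odd
  obtain ⟨z, hz⟩ := S.exists_inB h2
  have hzK : z ∈ K := h2K z (invol_two_power hz.1)
  refine ⟨⟨x', hx'r, two_dvd_csize hx'r hx'o hx'1⟩,
    ⟨⟨z, hzK⟩, isConj_inv_of_sq (Subtype.ext hz.1), fun h1 => ?_, fun h => ?_⟩, ?_⟩
  · have hcen := csize_eq_one_iff.mp h1
    refine S.not_commute h2 hz hx.1 hx.odd hx.2.1 ?_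
    have := congrArg Subtype.val (mem_center_iff.mp hcen x')
    rw [← hx'e]
    exact this.symm
  · exact S.odd_of_side_two h2 hz.2.2 (h.trans (csize_subgroup_dvd _))
  intro y hy heven
  have hsol : Group.IsSolvable G := S.isSolvable
  have hgen : closure {k : K | ∃ j : ℕ, orderOf k = 2 ^ j} = ⊤ := by
    have h := closure_closure_coe_preimage (k := {g : G | ∃ k : ℕ, orderOf g = 2 ^ k})
    subst hK
    rw [← h]
    congr 1
    ext k
    simp only [Set.mem_setOf_eq, Set.mem_preimage, Subgroup.orderOf_coe]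
  have hreal : ∀ w : K, RealPP w → (orderOf w).Prime → orderOf w ∈ π₂ := by
    intro w hw hwp
    have hwG := realPP_coe hw
    haveI : Fact (orderOf w).Prime := ⟨hwp⟩
    refine hz.2.2 _ hwp (by_contra fun hnd => ?_)
    obtain ⟨R, hR⟩ := exists_sylow_le (orderOf w) (H := centralizer ({z} : Set G)) hnd
    obtain ⟨c, -, hc⟩ := conj_into (H := ⊤) (R := R) le_top (mem_top (w : G))
      ⟨1, by rw [Subgroup.orderOf_coe, pow_one]⟩
    have hcw : z * (c * (w : G) * c⁻¹) = c * (w : G) * c⁻¹ * z :=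
      (mem_centralizer_singleton_iff.mp (hR hc)).symm
    have hreal' : IsConj (c * (w : G) * c⁻¹) (c * (w : G) * c⁻¹)⁻¹ := by
      obtain ⟨t, ht⟩ := isConj_iff.mp hwG.1
      refine isConj_iff.mpr ⟨c * t * c⁻¹, ?_⟩
      calc c * t * c⁻¹ * (c * (w : G) * c⁻¹) * (c * t * c⁻¹)⁻¹
          = c * (t * (w : G) * t⁻¹) * c⁻¹ := by group
        _ = _ := by rw [ht]; group
    refine S.not_commute h2 hz hreal' ?_ (fun h => hwG.2.1 (conj_eq_one_iff.mp h)) hcw
    rw [← MulAut.conj_apply, MulEquiv.orderOf_eq]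
    exact hwG.odd
  have hne : csize y ≠ 0 := index_ne_zero_of_finite
  refine ⟨_, Nat.eq_prime_pow_of_unique_prime_dvd hne fun {d} hd hdy => ?_⟩
  have hside : OneSided π₁ (csize (y : G)) :=
    (S.side _ (hcoe y hy)).resolve_right fun h =>
      S.odd_of_side_two h2 h (heven.trans (csize_subgroup_dvd y))
  have hd1 : d ∈ π₁ := hside d hd (hdy.trans (csize_subgroup_dvd y))
  refine (prime_mem_of_generated π₂ (Nat.card K) K rfl inferInstance hgen hreal d hd
    (hdy.trans (index_dvd_card _))).resolve_left fun h => ?_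
  exact Set.disjoint_left.mp S.disj hd1 h

end Cfsg.Agent.RealGraph
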